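import Groth.Agent.Lib.ProperFin.PushVanish
import Groth.Agent.Lib.Snapper.Finite
import Groth.Agent.Lib.Curves.GlobalSections
import Groth.Agent.Lib.RefHull.LocFree

/-!
# Direct images of coherent modules under proper morphisms
-/

set_option autoImplicit false
set_option linter.style.haveILetI false
universe u

open CategoryTheory CategoryTheory.Limits AlgebraicGeometry Opposite TopologicalSpace

namespace Groth.Agent.Lib.Cyc.PP.Push

open Groth.Agent.Lib

variable {X Y : Scheme.{u}} (p : X ⟶ Y)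

theorem app_transport {U U' : Y.Opens} (i : op U' ⟶ op U) {A : X.Opens} (g : op (p ⁻¹ᵁ U) ⟶ op A)
    (g' : op A ⟶ op (p ⁻¹ᵁ U')) :
    (Y.presheaf.map i ≫ p.app U ≫ X.presheaf.map g) ≫ X.presheaf.map g' = p.app U' := by
  rw [Category.assoc, Category.assoc, ← Functor.map_comp, Scheme.Hom.naturality_assoc,
    ← Functor.map_comp, Subsingleton.elim (((Opens.map p.base).map i.unop).op ≫ g ≫ g') (𝟙 _),
    CategoryTheory.Functor.map_id, Category.comp_id]

/-- Sections of a direct image over an affine open are finite. -/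
theorem finite_sections [IsLocallyNoetherian X] [IsLocallyNoetherian Y] [IsProper p] {M : X.Modules}
    (hM : Coh.IsCoh M) {V : Y.Opens} (hV : IsAffineOpen V) :
    Module.Finite Γ(Y, V) Γ((Coh.push p).obj M, V) := by
  haveI : IsNoetherianRing Γ(Y, V) := IsLocallyNoetherian.component_noetherian ⟨V, hV⟩
  let W := p ⁻¹ᵁ V
  let q : (↑W : Scheme.{u}) ⟶ Spec (CommRingCat.of Γ(Y, V)) := (p ∣_ V) ≫ hV.isoSpec.hom
  haveI : IsProper (p ∣_ V) := IsZariskiLocalAtTarget.restrict ‹_› V
  haveI : IsProper q := MorphismProperty.comp_mem @IsProper _ _ inferInstance inferInstance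
  letI : (↑W : Scheme.{u}).Over (Spec (CommRingCat.of Γ(Y, V))) := ⟨q⟩
  haveI : IsProper ((↑W : Scheme.{u}) ↘ Spec (CommRingCat.of Γ(Y, V))) := ‹IsProper q›
  let N := M.restrict W.ι
  have hN : Coh.IsCoh N := RefHull.LocFree.isCoh_restrict hM W
  have hfin : Module.Finite Γ(Y, V) (Coh.HH (↑W : Scheme.{u}) N 0) :=
    ProperFin.Assembly.qfin_of_isCoh Snapper.Finite.facts N hN 0
  letI := Curves.GlobalSections.secModule Γ(Y, V) N
  haveI : Module.Finite Γ(Y, V) (N.val.obj (op ⊤) : Type u) :=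
    Module.Finite.equiv (Curves.GlobalSections.h0Linear Γ(Y, V) N)
  obtain ⟨t, ht⟩ := Module.finite_def.1
    (inferInstance : Module.Finite Γ(Y, V) (N.val.obj (op ⊤) : Type u))
  have e : W.ι ''ᵁ ⊤ = W := W.ι_image_top
  let φ : (N.val.obj (op ⊤) : Type u) →+ Γ(M, W) := (M.presheaf.map (eqToHom e.symm).op).hom
  have hφs : Function.Surjective φ := fun m => ⟨M.presheaf.map (eqToHom e).op m, by
    show M.presheaf.map (eqToHom e.symm).op (M.presheaf.map (eqToHom e).op m) = m
    rw [← ConcreteCategory.comp_apply, ← M.presheaf.map_comp, ← op_comp, eqToHom_trans, eqToHom_refl,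
      op_id, CategoryTheory.Functor.map_id]
    rfl⟩
  have hr : ∀ a : Γ(Y, V), (show Γ(X, W) from X.presheaf.map (eqToHom e.symm).op
      (Coh.toGlobal ((↑W : Scheme.{u}) ↘ Spec (CommRingCat.of Γ(Y, V))) a)) = p.app V a := by
    intro a
    have h1 : q.appTop = (Scheme.ΓSpecIso Γ(Y, V)).hom ≫ V.topIso.inv ≫ (p ∣_ V).appTop := by
      rw [show q = (p ∣_ V) ≫ hV.isoSpec.hom from rfl, Scheme.Hom.comp_appTop, IsAffineOpen.isoSpec_hom_appTop,
        Category.assoc]
    have h2 : ((Scheme.ΓSpecIso Γ(Y, V)).inv ≫ q.appTop) ≫ X.presheaf.map (eqToHom e.symm).op = p.app V := by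
      rw [h1, Iso.inv_hom_id_assoc, morphismRestrict_appTop, Scheme.Opens.topIso_inv]
      exact app_transport p _ _ _
    exact ConcreteCategory.congr_hom h2 a
  have hφ : ∀ (a : Γ(Y, V)) (z : (N.val.obj (op ⊤) : Type u)), φ (a • z) = p.app V a • φ z := by
    intro a z
    rw [← hr a]
    let r : Γ(X, W.ι ''ᵁ ⊤) := Coh.toGlobal ((↑W : Scheme.{u}) ↘ Spec (CommRingCat.of Γ(Y, V))) a
    have key : (a • z : (N.val.obj (op ⊤) : Type u)) = (show Γ(M, W.ι ''ᵁ ⊤) from r • (show Γ(M, W.ι ''ᵁ ⊤) from z)) := by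
      show (SMul.smul ((W.ι.appIso ⊤).inv r : Γ(X, W.ι ''ᵁ ⊤)) (show Γ(M, W.ι ''ᵁ ⊤) from z) : Γ(M, W.ι ''ᵁ ⊤)) = _
      rw [Scheme.Opens.ι_appIso]
      rfl
    rw [key]
    exact M.map_smul _ r _
  classical
  refine Module.finite_def.2 ⟨(t.image φ : Finset Γ(M, W)), eq_top_iff.2 ?_⟩
  rintro (m : Γ(M, W)) -
  obtain ⟨z, rfl⟩ := hφs m
  have hz : z ∈ Submodule.span Γ(Y, V) (t : Set (N.val.obj (op ⊤) : Type u)) := ht ▸ Submodule.mem_top
  induction hz using Submodule.span_induction with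
  | mem a ha => exact Submodule.subset_span (Finset.mem_image_of_mem φ ha)
  | zero => rw [map_zero]; exact Submodule.zero_mem _
  | add a b _ _ iha ihb => rw [map_add]; exact Submodule.add_mem _ iha ihb
  | smul r a _ iha =>
    rw [hφ]
    exact Submodule.smul_mem _ r iha

/-- The direct image of a coherent module under a proper morphism is coherent. -/
theorem isCoh_push [IsLocallyNoetherian X] [IsLocallyNoetherian Y] [IsProper p] {M : X.Modules}
    (hM : Coh.IsCoh M) : Coh.IsCoh ((Coh.push p).obj M) :=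
  haveI := hM.1
  ProperFin.PushVanish.isCoh_push p (fun V : Y.affineOpens => V.1) M (fun V => V.2)
    (iSup_affineOpens_eq_top Y) fun V => finite_sections p hM V.2

end Groth.Agent.Lib.Cyc.PP.Push
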