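import Groth.Agent.Lib.Cyc.C1
import Groth.Agent.Lib.Cyc.Gys.Closed

/-!
# Divisors of functions as cycles of their zero schemes
-/

set_option autoImplicit false
set_option linter.style.haveILetI false
universe u

open CategoryTheory AlgebraicGeometry IsLocalRing TopologicalSpace

namespace Groth.Agent.Lib.Cyc.PP.Cut

open Groth.Agent.Lib Groth.Agent.Lib.Cyc

variable {W Z : Scheme.{u}}

/-- The length of a local ring of a closed subscheme cut out by `t`. -/
theorem length_stalk_eq_ord (q : Z ⟶ W) [IsClosedImmersion q] (z : Z)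
    (a : W.presheaf.stalk (q z)) (h : RingHom.ker (q.stalkMap z).hom = Ideal.span {a}) :
    Module.length (Z.presheaf.stalk z) (Z.presheaf.stalk z) = Ring.ord (W.presheaf.stalk (q z)) a := by
  letI : Algebra (W.presheaf.stalk (q z)) (Z.presheaf.stalk z) := (q.stalkMap z).hom.toAlgebra
  have hs : Function.Surjective (algebraMap (W.presheaf.stalk (q z)) (Z.presheaf.stalk z)) :=
    q.stalkMap_surjective z
  rw [← Module.length_eq_of_surjective (R := Z.presheaf.stalk z) (S := W.presheaf.stalk (q z))
    (M := Z.presheaf.stalk z) hs]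
  let φ := Algebra.ofId (W.presheaf.stalk (q z)) (Z.presheaf.stalk z)
  have hk : Ideal.span {a} = RingHom.ker φ := h.symm
  exact ((Ideal.quotientEquivAlgOfEq _ hk).trans
    (Ideal.quotientKerAlgEquivOfSurjective (f := φ) hs)).toLinearEquiv.length_eq.symm

/-- On an integral scheme the divisor of a function is, where it is regular, the cycle of its zeros. -/
theorem divFun_eq_subschemeFun [IsIntegral W] [IsLocallyNoetherian W] {δ : W → ℤ}
    (hδ : Cyc.IsDimFun W δ) {k : ℤ} (hη : δ (genericPoint W) = k + 1) (q : Z ⟶ W)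
    [IsClosedImmersion q] {V : W.Opens} (t : Γ(W, V)) (hηV : genericPoint W ∈ V)
    (ht : W.presheaf.germ V (genericPoint W) hηV t ≠ 0)
    (hker : ∀ z (hz : q z ∈ V), RingHom.ker (q.stalkMap z).hom =
      Ideal.span {W.presheaf.germ V (q z) hz t})
    (hmem : ∀ w (hw : w ∈ V), ¬IsUnit (W.presheaf.germ V w hw t) → w ∈ Set.range ⇑q)
    {w : W} (hw : w ∈ V) :
    Cyc.divFun δ (genericPoint W)
        (W.residue (genericPoint W) (W.presheaf.germ V (genericPoint W) hηV t)) w =
      Cyc.subschemeFun δ k q w := by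
  classical
  set η := genericPoint W with hηdef
  have hsp : η ⤳ w := genericPoint_specializes w
  have hres : Function.Injective (W.residue η) :=
    RingHom.injective (R := W.functionField) (W.residue η).hom
  have hspec : Cyc.specMap w η hsp (W.presheaf.germ V w hw t) =
      W.residue η (W.presheaf.germ V η hηV t) := Ord.specMap_germ V w η hsp hw t
  have hne : Cyc.specMap w η hsp (W.presheaf.germ V w hw t) ≠ 0 := by
    rw [hspec]; exact fun h => ht (hres (h.trans (map_zero _).symm))
  rw [Cyc.subschemeFun]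
  by_cases hk : δ w = k
  swap
  · rw [if_neg hk, Cyc.divFun, dif_neg fun h => hk (by have := h.2; rw [hη] at this; omega)]
  rw [if_pos hk, Cyc.divFun, dif_pos ⟨hsp, by rw [hη]; omega⟩, ← hspec]
  by_cases hu : IsUnit (W.presheaf.germ V w hw t)
  · rw [Ord.ordAt_specMap_of_isUnit hδ w η hsp (by omega) _ hu]
    refine (finsum_mem_eq_zero_of_forall_eq_zero fun z hz => ?_).symm
    obtain rfl : q z = w := hz
    exact ((RingHom.ker_ne_top (q.stalkMap z).hom)
      (by rw [hker z hw]; exact Ideal.span_singleton_eq_top.2 hu)).elim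
  · obtain ⟨z, rfl⟩ := hmem w hw hu
    rw [show {z' : Z | q z' = q z} = {z} from Set.ext fun z' => q.isClosedEmbedding.injective.eq_iff,
      finsum_mem_singleton, length_stalk_eq_ord q z _ (hker z hw),
      Ord.ordAt_specMap hδ (q z) η hsp (by omega) _ hne]
    let e : W.presheaf.stalk (q z) ≃+* Cyc.LocQuot (q z) η hsp :=
      RingEquiv.ofBijective (Ideal.Quotient.mk _)
        ⟨by rw [RingHom.injective_iff_ker_eq_bot, Ideal.mk_ker]
            exact C1.ker_specMap_genericPoint (q z) hsp, Ideal.Quotient.mk_surjective⟩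
    rw [← Gys.Closed.ord_congr e]
    rfl

end Groth.Agent.Lib.Cyc.PP.Cut
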