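import Groth.Agent.Lib.Cyc.PP.P1Coord
import Groth.Agent.Lib.Cyc.PP.Cut
import Groth.Agent.Lib.ModelFibre.Stalk

/-!
# The fibres over `0` and `∞` of a scheme over the projective line
-/

set_option autoImplicit false
set_option linter.style.haveILetI false
universe u

open CategoryTheory CategoryTheory.Limits AlgebraicGeometry Opposite TopologicalSpace

namespace Groth.Agent.Lib.Cyc.PP.P1Fib

open Groth.Agent.Lib Groth.Agent.Lib.Cyc P1Coord

noncomputable section

variable {X : Scheme.{u}} {W : Scheme.{u}} (ι : W ⟶ CohB1.ProjSpaceOver 1 X)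

theorem isPullback_sect (X : Scheme.{u}) (i : Fin (1 + 1)) :
    IsPullback (P1.sect X i) (specULiftZIsTerminal.from X)
      (pullback.fst (CohB1.ProjSpace.toSpec 1 P1.R0.{u}) (specULiftZIsTerminal.from X))
      (P1.point i) := by
  have h : P1.point.{u} i ≫ CohB1.ProjSpace.toSpec 1 P1.R0.{u} = 𝟙 _ :=
    specULiftZIsTerminal.hom_ext _ _
  refine IsPullback.of_right ?_ ?_ (IsPullback.of_hasPullback _ _).flip |>.flip |>.flip
  · have h1 : P1.sect X i ≫ pullback.snd _ _ = 𝟙 X := pullback.lift_snd _ _ _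
    erw [h1, h]
    exact IsPullback.of_horiz_isIso ⟨by simp⟩
  · exact pullback.lift_fst _ _ _

/-- The map to the projective line over `ℤ`. -/
def g : W ⟶ CohB1.ProjSpace 1 P1.R0.{u} := ι ≫ pullback.fst _ _

/-- The fibre. -/
abbrev q (i : Fin (1 + 1)) : pullback ι (P1.sect X i) ⟶ W := pullback.fst _ _

theorem isPullback_q (i : Fin (1 + 1)) :
    IsPullback (q ι i) (pullback.snd ι (P1.sect X i) ≫ specULiftZIsTerminal.from X) (g ι)
      (P1.point i) :=
  ((IsPullback.of_hasPullback ι (P1.sect X i)).flip.paste_horiz (isPullback_sect X i).flip).flip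

instance (i : Fin (1 + 1)) : IsClosedImmersion (P1.sect X i) := by
  have : IsProper (CohB1.ProjSpace.toSpec 1 P1.R0.{u}) :=
    inferInstanceAs (IsProper (CohB1.ProjSpace.toSpec 1 P1.R0.{u}))
  have h : IsClosedImmersion (P1.point.{u} i) := by
    have : IsClosedImmersion (P1.point.{u} i ≫ CohB1.ProjSpace.toSpec 1 P1.R0.{u}) := by
      rw [show P1.point.{u} i ≫ CohB1.ProjSpace.toSpec 1 P1.R0.{u} = 𝟙 _ from
        specULiftZIsTerminal.hom_ext _ _]
      infer_instance
    exact IsClosedImmersion.of_comp _ (CohB1.ProjSpace.toSpec 1 P1.R0.{u})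
  exact MorphismProperty.of_isPullback (isPullback_sect X i).flip h

theorem q_mem (i : Fin (1 + 1)) (z : ↥(pullback ι (P1.sect X i))) : g ι (q ι i z) ∈ D i := by
  have h : g ι (q ι i z) = P1.point i ((pullback.snd ι (P1.sect X i) ≫ specULiftZIsTerminal.from X) z) := by
    show (q ι i ≫ g ι) z = ((pullback.snd ι (P1.sect X i) ≫ _) ≫ P1.point i) z
    rw [(isPullback_q ι i).w]
  rw [h, point_eq, ← opensRange_χ]
  exact ⟨_, rfl⟩

/-- The open set where the coordinate is regular. -/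
abbrev V (i : Fin (1 + 1)) : W.Opens := g ι ⁻¹ᵁ D i

/-- The coordinate on it. -/
def t (i : Fin (1 + 1)) : Γ(W, V ι i) := (g ι).app (D i) (s i)

theorem exists_lift (i : Fin (1 + 1)) : ∃ g' : (V ι i).toScheme ⟶ Spec (CommRingCat.of (ProjSpace.Charts.AwayX P1.R0.{u} i)),
    g' ≫ χ i = (V ι i).ι ≫ g ι ∧ IsPullback (V ι i).ι g' (g ι) (χ i) := by
  have hr : Set.range ((V ι i).ι ≫ g ι) ⊆ Set.range (χ i) := by
    rintro _ ⟨v, rfl⟩
    exact (opensRange_χ i).ge v.2
  refine ⟨IsOpenImmersion.lift (χ i) _ hr, IsOpenImmersion.lift_fac _ _ hr, ?_⟩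
  refine (IsOpenImmersion.isPullback _ _ _ _ (IsOpenImmersion.lift_fac _ _ hr).symm ?_).flip
  ext v
  constructor
  · intro h
    exact ⟨⟨v, (opensRange_χ i).le h⟩, rfl⟩
  · rintro ⟨a, rfl⟩
    exact (opensRange_χ i).ge a.2

theorem baseHom_eq (i : Fin (1 + 1))
    (g' : (V ι i).toScheme ⟶ Spec (CommRingCat.of (ProjSpace.Charts.AwayX P1.R0.{u} i)))
    (hg : g' ≫ χ i = (V ι i).ι ≫ g ι) (v : (V ι i).toScheme) :
    ModelFibre.Stalk.baseHom g' v (c i) =
      (V ι i).ι.stalkMap v (W.presheaf.germ (V ι i) ((V ι i).ι v) v.2 (t ι i)) := by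
  have e : (g' ≫ χ i).appLE (D i) ⊤ (fun x _ => (opensRange_χ i).le ⟨g' x, rfl⟩) (s i) =
      g'.appTop ((Scheme.ΓSpecIso (CommRingCat.of (ProjSpace.Charts.AwayX P1.R0.{u} i))).inv (c i)) := by
    rw [← appLE_s, ← Scheme.Hom.appLE_comp_appLE (V := ⊤) (e₁ := le_preimage_D i) (e₂ := le_top)]
    simp [Scheme.Hom.app_eq_appLE]
  refine (congrArg ((V ι i).toScheme.presheaf.germ ⊤ v trivial) e).symm.trans ?_
  have e' : (g' ≫ χ i).appLE (D i) ⊤ (fun x _ => (opensRange_χ i).le ⟨g' x, rfl⟩) =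
      (g ι).app (D i) ≫ (V ι i).ι.appLE (V ι i) ⊤ (Scheme.Opens.ι_preimage_self _).ge := by
    simp only [hg]
    rw [Scheme.Hom.app_eq_appLE, Scheme.Hom.appLE_comp_appLE]
  rw [e', CommRingCat.comp_apply, Scheme.Hom.germ_stalkMap_apply, Scheme.Hom.appLE,
    CommRingCat.comp_apply, TopCat.Presheaf.germ_res_apply]
  rfl

theorem ker_comp_of_eq {Z T : Scheme.{u}} {f : Z ⟶ W} {q' : Z ⟶ T} {j : T ⟶ W} (h : q' ≫ j = f) (z : Z)
    {U : W.Opens} {a : Γ(W, U)} {hz : f z ∈ U}
    (hk : Ideal.comap (j.stalkMap (q' z)).hom (RingHom.ker (q'.stalkMap z).hom) =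
      Ideal.span {W.presheaf.germ U (j (q' z)) (by subst h; exact hz) a}) :
    RingHom.ker (f.stalkMap z).hom = Ideal.span {W.presheaf.germ U (f z) hz a} := by
  subst h
  rw [Scheme.Hom.stalkMap_comp]
  exact (RingHom.comap_ker _ _).symm.trans hk

theorem not_isUnit_iff_and_ker (i : Fin (1 + 1)) :
    (∀ z : ↥(pullback ι (P1.sect X i)), RingHom.ker ((q ι i).stalkMap z).hom =
      Ideal.span {W.presheaf.germ (V ι i) (q ι i z) (q_mem ι i z) (t ι i)}) ∧
    ∀ w (hw : w ∈ V ι i), ¬IsUnit (W.presheaf.germ (V ι i) w hw (t ι i)) →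
      w ∈ Set.range ⇑(q ι i) := by
  obtain ⟨g', hg', hP⟩ := exists_lift ι i
  have hr : Set.range (q ι i) ⊆ Set.range (V ι i).ι := by
    rintro _ ⟨z, rfl⟩
    exact ⟨⟨_, q_mem ι i z⟩, rfl⟩
  let q' := IsOpenImmersion.lift (V ι i).ι (q ι i) hr
  have hq' : q' ≫ (V ι i).ι = q ι i := IsOpenImmersion.lift_fac _ _ hr
  let fs := pullback.snd ι (P1.sect X i) ≫ specULiftZIsTerminal.from X
  let π := Spec.map (CommRingCat.ofHom (ev.{u} i))
  have hsq : q' ≫ g' = fs ≫ π := by
    rw [← cancel_mono (χ i), Category.assoc, hg', ← Category.assoc, hq', Category.assoc]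
    exact (isPullback_q ι i).w
  have hs : IsPullback q' fs g' π := by
    refine IsPullback.of_right ?_ hsq hP
    rw [hq']
    exact isPullback_q ι i
  constructor
  · intro z
    have hk := ModelFibre.Stalk.ker_stalkMap (ev.{u} i) (evalAway_surjective i) hs z
    rw [ker_evalAway, Ideal.map_span, Set.image_singleton, baseHom_eq ι i g' hg'] at hk
    refine ker_comp_of_eq (q' := q') (j := (V ι i).ι) hq' z ?_
    refine (congrArg (Ideal.comap ((V ι i).ι.stalkMap (q' z)).hom) hk).trans ?_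
    conv_lhs => rw [← Set.image_singleton, ← Ideal.map_span]
    exact Ideal.comap_map_of_bijective _
      (ConcreteCategory.bijective_of_isIso ((V ι i).ι.stalkMap (q' z)))
  · intro w hw hu
    let v : (V ι i).toScheme := ⟨w, hw⟩
    have hu' : ¬IsUnit (ModelFibre.Stalk.baseHom g' v (c i)) := fun h => hu (by
      rw [baseHom_eq ι i g' hg'] at h
      exact (isUnit_map_iff ((V ι i).ι.stalkMap v).hom _).1 h)
    have hv : g' v ∈ Set.range π := by
      have e := range_comap_of_surjective _ (ev.{u} i) (evalAway_surjective i)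
      rw [ker_evalAway, PrimeSpectrum.zeroLocus_span] at e
      refine e.ge ?_
      refine Set.singleton_subset_iff.2 ?_
      by_contra hc
      refine hu' ?_
      have hb : g' v ∈ (Spec (CommRingCat.of (ProjSpace.Charts.AwayX P1.R0.{u} i))).basicOpen
          ((Scheme.ΓSpecIso (CommRingCat.of (ProjSpace.Charts.AwayX P1.R0.{u} i))).inv (c i)) := by
        rw [basicOpen_eq_of_affine]
        exact hc
      have hb' : v ∈ g' ⁻¹ᵁ (Spec (CommRingCat.of (ProjSpace.Charts.AwayX P1.R0.{u} i))).basicOpen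
          ((Scheme.ΓSpecIso (CommRingCat.of (ProjSpace.Charts.AwayX P1.R0.{u} i))).inv (c i)) := hb
      rw [Scheme.preimage_basicOpen] at hb'
      exact (Scheme.mem_basicOpen (U := g' ⁻¹ᵁ ⊤) _ _ v trivial).1 hb'
    have : v ∈ Set.range (pullback.fst g' π) := by
      rw [Scheme.Pullback.range_fst]
      exact hv
    obtain ⟨z, hz⟩ := this
    refine ⟨hs.isoPullback.inv z, ?_⟩
    rw [← hq']
    show (V ι i).ι (q' (hs.isoPullback.inv z)) = w
    rw [← Scheme.Hom.comp_apply hs.isoPullback.inv, hs.isoPullback_inv_fst, hz]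
    rfl

theorem germ_mul_germ (i : Fin (1 + 1)) (w : W) (h : w ∈ V ι i) (h' : w ∈ V ι i.rev) :
    W.presheaf.germ (V ι i) w h (t ι i) * W.presheaf.germ (V ι i.rev) w h' (t ι i.rev) = 1 := by
  rw [t, t, ← Scheme.Hom.germ_stalkMap_apply (g ι) (D i) w h,
    ← Scheme.Hom.germ_stalkMap_apply (g ι) (D i.rev) w h', ← map_mul,
    P1Coord.germ_mul_germ i (g ι w) h h', map_one]

theorem isUnit_germ (i : Fin (1 + 1)) (w : W) (h : w ∈ V ι i) (hn : w ∉ Set.range ⇑(q ι i)) :
    IsUnit (W.presheaf.germ (V ι i) w h (t ι i)) :=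
  by_contra fun hu => hn ((not_isUnit_iff_and_ker ι i).2 w h hu)

theorem not_mem_V_rev (i : Fin (1 + 1)) (z : ↥(pullback ι (P1.sect X i))) :
    q ι i z ∉ V ι i.rev := fun h =>
  RingHom.ker_ne_top ((q ι i).stalkMap z).hom (by
    rw [(not_isUnit_iff_and_ker ι i).1 z]
    exact Ideal.span_singleton_eq_top.2 (IsUnit.of_mul_eq_one _ (germ_mul_germ ι i _ _ h)))

theorem subschemeFun_eq_zero (δ : W → ℤ) (k : ℤ) (i : Fin (1 + 1)) (w : W)
    (hw : w ∈ V ι i.rev) : Cyc.subschemeFun δ k (q ι i) w = 0 := by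
  rw [Cyc.subschemeFun]
  split_ifs
  · refine finsum_mem_eq_zero_of_forall_eq_zero fun z hz => ?_
    exact absurd ((show q ι i z = w from hz) ▸ hw) (not_mem_V_rev ι i z)
  · rfl

/-- On an integral scheme, the difference of the two fibres is a principal divisor. -/
theorem exists_divFun_eq [IsClosedImmersion ι] [IsIntegral W] [IsLocallyNoetherian W] {δ : W → ℤ}
    (hδ : Cyc.IsDimFun W δ) {k : ℤ} (hη : δ (genericPoint W) = k + 1)
    (h : ∀ i, ι (genericPoint W) ∉ Set.range ⇑(P1.sect X i)) :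
    ∃ f : W.residueField (genericPoint W), f ≠ 0 ∧ (∀ h0 : genericPoint W ∈ V ι 0,
        f = W.residue (genericPoint W) (W.presheaf.germ (V ι 0) (genericPoint W) h0 (t ι 0))) ∧
      ∀ w, Cyc.divFun δ (genericPoint W) f w =
        Cyc.subschemeFun δ k (q ι 0) w - Cyc.subschemeFun δ k (q ι 1) w := by
  classical
  set η := genericPoint W
  have hn : ∀ i, η ∉ Set.range ⇑(q ι i) := fun i ⟨z, hz⟩ => h i ⟨pullback.snd ι (P1.sect X i) z, by
    rw [← Scheme.Hom.comp_apply, ← pullback.condition, Scheme.Hom.comp_apply]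
    exact congrArg ι hz⟩
  have hres : Function.Injective (W.residue η) :=
    RingHom.injective (R := W.functionField) (W.residue η).hom
  have hne : ∀ i (hi : η ∈ V ι i), W.presheaf.germ (V ι i) η hi (t ι i) ≠ 0 := fun i hi =>
    (isUnit_germ ι i η hi (hn i)).ne_zero
  have hgen : ∀ i w, w ∈ V ι i → η ∈ V ι i := fun i w hw =>
    (genericPoint_specializes w).mem_open (V ι i).2 hw
  have cut : ∀ i (hi : η ∈ V ι i) w, w ∈ V ι i →
      Cyc.divFun δ η (W.residue η (W.presheaf.germ (V ι i) η hi (t ι i))) w =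
        Cyc.subschemeFun δ k (q ι i) w := fun i hi w hw =>
    Cut.divFun_eq_subschemeFun hδ hη (q ι i) (t ι i) hi (hne i hi)
      (fun z _ => (not_isUnit_iff_and_ker ι i).1 z) (not_isUnit_iff_and_ker ι i).2 hw
  have hcov : ∀ w, w ∈ V ι 0 ∨ w ∈ V ι 1 := fun w => P1Coord.mem_D (g ι w)
  by_cases h0 : η ∈ V ι 0
  · refine ⟨W.residue η (W.presheaf.germ (V ι 0) η h0 (t ι 0)),
      fun e => hne 0 h0 (hres (e.trans (map_zero _).symm)), fun _ => rfl, fun w => ?_⟩
    rcases hcov w with hw | hw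
    · rw [cut 0 h0 w hw, subschemeFun_eq_zero ι δ k 1 w hw, sub_zero]
    · rw [subschemeFun_eq_zero ι δ k 0 w hw, zero_sub, ← cut 1 (hgen 1 w hw) w hw]
      have hinv : W.residue η (W.presheaf.germ (V ι 0) η h0 (t ι 0)) =
          (W.residue η (W.presheaf.germ (V ι 1) η (hgen 1 w hw) (t ι 1)))⁻¹ := by
        refine eq_inv_of_mul_eq_one_left ?_
        rw [← map_mul]
        exact (congrArg (W.residue η) (germ_mul_germ ι 0 η h0 (hgen 1 w hw))).trans (map_one _)
      rw [hinv, Ord.divFun_inv hδ η _ fun e => hne 1 _ (hres (e.trans (map_zero _).symm))]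
      rfl
  · have h1 : η ∈ V ι 1 := (hcov η).resolve_left h0
    have he : W.residue η (W.presheaf.germ (V ι 1) η h1 (t ι 1)) ≠ 0 :=
      fun e => hne 1 h1 (hres (e.trans (map_zero _).symm))
    refine ⟨_, inv_ne_zero he, fun hc => absurd hc h0, fun w => ?_⟩
    have hw : w ∈ V ι 1 := (hcov w).resolve_left fun hw => h0 (hgen 0 w hw)
    rw [subschemeFun_eq_zero ι δ k 0 w hw, zero_sub, ← cut 1 h1 w hw, Ord.divFun_inv hδ η _ he]
    rfl

end

end Groth.Agent.Lib.Cyc.PP.P1Fib
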