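import Groth.Agent.Lib.Cyc.FP.Stalk
import Groth.Agent.Lib.PushClosed.Unit
import Groth.Agent.Lib.Cyc.Residue
import Mathlib.AlgebraicGeometry.Morphisms.Preimmersion

/-!
# Pullback along preimmersions of modules killed by the kernels of the stalk maps
-/

set_option autoImplicit false
set_option linter.style.haveILetI false
universe u

open CategoryTheory CategoryTheory.Limits AlgebraicGeometry IsLocalRing
open scoped TensorProduct

namespace Groth.Agent.Lib.Cyc.PP.PreImm

open Groth.Agent.Lib Groth.Agent.Lib.Modules.StalkModule Groth.Agent.Lib.DerivedOX.PullbackStalk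

variable {X Z : Scheme.{u}} (i : Z ⟶ X)

/-- The kernel of each stalk map kills the stalk. -/
def Killed (M : X.Modules) : Prop :=
  ∀ (z : Z) (a : X.presheaf.stalk (i z)), (i.stalkMap z).hom a = 0 →
    ∀ m : M.presheaf.stalk (i z), a • m = 0

theorem Killed.of_mono {A B : X.Modules} (f : A ⟶ B) [Mono f] (h : Killed i B) : Killed i A :=
  fun z a ha m => (mono_iff_stalkMapₗ_injective f).1 inferInstance (i z)
    (by rw [map_smul, map_zero]; exact h z a ha _)

theorem Killed.of_epi {A B : X.Modules} (f : A ⟶ B) [Epi f] (h : Killed i A) : Killed i B :=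
  fun z a ha m => by
    obtain ⟨b, rfl⟩ := (epi_iff_stalkMapₗ_surjective f).1 inferInstance (i z) m
    rw [← map_smul, h z a ha, map_zero]

variable [IsPreimmersion i]

theorem residueFieldMap_surjective (z : Z) :
    Function.Surjective (i.residueFieldMap z).hom := fun a => by
  obtain ⟨b, rfl⟩ := Z.residue_surjective z a
  obtain ⟨c, rfl⟩ := i.stalkMap_surjective z b
  exact ⟨X.residue (i z) c, ConcreteCategory.congr_hom (Scheme.residue_residueFieldMap i z) c⟩

theorem bijective_unitStalk {M : X.Modules} (h : Killed i M) (z : Z) :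
    Function.Bijective (unitStalk i z M) := by
  letI : Algebra (X.presheaf.stalk (i z)) (Z.presheaf.stalk z) := (i.stalkMap z).hom.toAlgebra
  haveI := isIso_comparison i z
  have hc := ConcreteCategory.bijective_of_isIso ((comparison i z).app M)
  have hg : ∀ m, unitStalk i z M m =
      (comparison i z).app M ((1 : Z.presheaf.stalk z) ⊗ₜ[X.presheaf.stalk (i z)] m) := fun m =>
    (comparison_one_tmul i z M m).symm
  let s := Function.surjInv (i.stalkMap_surjective z)
  have hs : ∀ c, i.stalkMap z (s c) = c := Function.surjInv_eq _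
  have hdiff : ∀ (a b : X.presheaf.stalk (i z)), i.stalkMap z a = i.stalkMap z b →
      ∀ m : M.presheaf.stalk (i z), a • m = b • m := fun a b hab m =>
    sub_eq_zero.1 ((sub_smul a b m).symm.trans (h z _ (by rw [map_sub, hab, sub_self]) m))
  let r : Z.presheaf.stalk z ⊗[X.presheaf.stalk (i z)] M.presheaf.stalk (i z) →ₗ[X.presheaf.stalk (i z)]
      M.presheaf.stalk (i z) :=
    TensorProduct.lift (LinearMap.mk₂ _ (fun c m => s c • m)
      (fun c d m => by rw [← add_smul]; exact hdiff _ _ (by rw [map_add, hs, hs, hs]) m)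
      (fun a c m => by
        rw [← mul_smul]
        exact hdiff _ _ (by rw [hs, map_mul, hs]; exact Algebra.smul_def a c) m)
      (fun c m m' => smul_add _ _ _) (fun a c m => smul_comm _ _ _))
  have hr : ∀ m, r ((1 : Z.presheaf.stalk z) ⊗ₜ m) = m := fun m =>
    (hdiff (s 1) 1 (by rw [hs, map_one]) m).trans (one_smul _ m)
  refine ⟨fun a b hab => ?_, fun b => ?_⟩
  · exact ((hr a).symm.trans (congrArg r (hc.1 ((hg a).symm.trans (hab.trans (hg b)))))).trans (hr b)
  · obtain ⟨t, rfl⟩ := hc.2 b
    suffices key : ∀ t : Z.presheaf.stalk z ⊗[X.presheaf.stalk (i z)] M.presheaf.stalk (i z),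
        ∃ m, (1 : Z.presheaf.stalk z) ⊗ₜ[X.presheaf.stalk (i z)] m = t by
      obtain ⟨m, hm⟩ := key t
      exact ⟨m, (hg m).trans (congrArg _ hm)⟩
    intro t
    induction t using TensorProduct.induction_on with
    | zero => exact ⟨0, TensorProduct.tmul_zero _ _⟩
    | tmul c a =>
      exact ⟨s c • a, by rw [← TensorProduct.smul_tmul, Algebra.smul_def, mul_one]; exact congrArg (· ⊗ₜ a) (hs c)⟩
    | add a b ha hb =>
      obtain ⟨ma, rfl⟩ := ha
      obtain ⟨mb, rfl⟩ := hb
      exact ⟨ma + mb, TensorProduct.tmul_add _ _ _⟩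

theorem nontrivial_pull {M : X.Modules} (h : Killed i M) (z : Z) :
    Nontrivial (((Scheme.Modules.pullback i).obj M).presheaf.stalk z) ↔
      Nontrivial (M.presheaf.stalk (i z)) :=
  (Equiv.ofBijective _ (bijective_unitStalk i h z)).nontrivial_congr.symm

theorem length_pull {M : X.Modules} (h : Killed i M) (z : Z) :
    Module.length (Z.presheaf.stalk z) (((Scheme.Modules.pullback i).obj M).presheaf.stalk z) =
      Module.length (X.presheaf.stalk (i z)) (M.presheaf.stalk (i z)) := by
  let N := ((Scheme.Modules.pullback i).obj M).presheaf.stalk z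
  letI : Algebra (X.presheaf.stalk (i z)) (Z.presheaf.stalk z) := (i.stalkMap z).hom.toAlgebra
  letI : Module (X.presheaf.stalk (i z)) N := Module.compHom N (i.stalkMap z).hom
  haveI : IsScalarTower (X.presheaf.stalk (i z)) (Z.presheaf.stalk z) N :=
    ⟨fun a b m => mul_smul ((i.stalkMap z).hom a) b m⟩
  rw [← Module.length_eq_of_surjective (S := X.presheaf.stalk (i z)) (R := Z.presheaf.stalk z)
    (M := N) (i.stalkMap_surjective z)]
  let e : M.presheaf.stalk (i z) →ₗ[X.presheaf.stalk (i z)] N :=
    { toFun := fun a => unitStalk i z M a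
      map_add' := fun a b => map_add (unitStalk i z M).hom a b
      map_smul' := fun c a => map_smul (unitStalk i z M).hom c a }
  exact (LinearEquiv.ofBijective e (bijective_unitStalk i h z)).length_eq.symm

theorem mono_pull {A B : X.Modules} (f : A ⟶ B) [Mono f] (h : Killed i B) :
    Mono ((Scheme.Modules.pullback i).map f) := by
  rw [mono_iff_stalkMapₗ_injective]
  intro z a b hab
  obtain ⟨a', rfl⟩ := (bijective_unitStalk i (h.of_mono i f) z).2 a
  obtain ⟨b', rfl⟩ := (bijective_unitStalk i (h.of_mono i f) z).2 b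
  have e := fun t => ConcreteCategory.congr_hom (unitStalk_natural i z f) t
  refine congrArg _ ((mono_iff_stalkMapₗ_injective f).1 inferInstance (i z)
    ((bijective_unitStalk i h z).1 ?_))
  exact (e a').trans (hab.trans (e b').symm)

end Groth.Agent.Lib.Cyc.PP.PreImm
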