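import Groth.Agent.Lib.Cyc.PP.Iso
import Groth.Agent.Lib.Cyc.Push
import Groth.Agent.Lib.Cyc.Ord
import Mathlib.RingTheory.LocalRing.Length
import Mathlib.Algebra.BigOperators.WithTop

/-!
# Lengths of stalks of proper direct images in the finite range
-/

set_option autoImplicit false
set_option linter.style.haveILetI false
universe u

open CategoryTheory CategoryTheory.Limits AlgebraicGeometry TopologicalSpace Opposite IsLocalRing

namespace Groth.Agent.Lib.Cyc.PP.FinStalk

open Groth.Agent.Lib Groth.Agent.Lib.Cyc Groth.Agent.Lib.Modules.StalkModule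

variable {X Y : Scheme.{u}} (p : X ⟶ Y) (F : X.Modules)

/-- The map `O_{Y,y} → O_{X,x}` for `p x = y`. -/
noncomputable def ringTo {y : Y} {x : X} (h : p x = y) : Y.presheaf.stalk y →+* X.presheaf.stalk x :=
  (Y.presheaf.stalkSpecializes (specializes_of_eq h) ≫ p.stalkMap x).hom

/-- The map `(p_* F)_y → F_x` for `p x = y`. -/
noncomputable def toStalk {y : Y} {x : X} (h : p x = y) :
    ((Coh.push p).obj F).presheaf.stalk y →+ F.presheaf.stalk x :=
  (SheafLen.pushStalk p F x).comp
    (((Coh.push p).obj F).presheaf.stalkSpecializes (specializes_of_eq h)).hom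

theorem toStalk_germ {y : Y} {x : X} (h : p x = y) {V : Y.Opens} (hy : y ∈ V)
    (m : Γ((Coh.push p).obj F, V)) :
    toStalk p F h (((Coh.push p).obj F).presheaf.germ V y hy m) =
      F.presheaf.germ (p ⁻¹ᵁ V) x (show p x ∈ V from h.symm ▸ hy) m :=
  (congrArg (SheafLen.pushStalk p F x) (TopCat.Presheaf.germ_stalkSpecializes_apply _ hy _ m)).trans
    (SheafLen.pushStalk_germ p F x _ m)

theorem ringTo_germ {y : Y} {x : X} (h : p x = y) {V : Y.Opens} (hy : y ∈ V) (r : Γ(Y, V)) :
    ringTo p h (Y.presheaf.germ V y hy r) =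
      X.presheaf.germ (p ⁻¹ᵁ V) x (show p x ∈ V from h.symm ▸ hy) (p.app V r) :=
  (congrArg (p.stalkMap x) (TopCat.Presheaf.germ_stalkSpecializes_apply _ hy _ r)).trans
    (Scheme.Hom.germ_stalkMap_apply _ _ _ _ _)

theorem toStalk_smul {y : Y} {x : X} (h : p x = y) (a : Y.presheaf.stalk y)
    (v : ((Coh.push p).obj F).presheaf.stalk y) :
    toStalk p F h (a • v) = ringTo p h a • toStalk p F h v := by
  subst h
  simp only [toStalk, ringTo, AddMonoidHom.comp_apply, TopCat.Presheaf.stalkSpecializes_refl]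
  exact SheafLen.pushStalk_smul p F x a v

theorem length_restrict {y : Y} {x : X} (h : p x = y) (hfin : (p.residueFieldMap x).hom.Finite) :
    letI := Module.compHom (F.presheaf.stalk x) (ringTo p h)
    Module.length (Y.presheaf.stalk y) (F.presheaf.stalk x) =
      Module.length (X.presheaf.stalk x) (F.presheaf.stalk x) * (p.residueDegree x : ℕ∞) := by
  subst h
  letI := Module.compHom (F.presheaf.stalk x) (ringTo p (rfl : p x = p x))
  letI : Algebra (Y.presheaf.stalk (p x)) (X.presheaf.stalk x) := (p.stalkMap x).hom.toAlgebra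
  haveI : IsLocalHom (algebraMap (Y.presheaf.stalk (p x)) (X.presheaf.stalk x)) :=
    inferInstanceAs (IsLocalHom (p.stalkMap x).hom)
  have hσ : ∀ a, ringTo p (rfl : p x = p x) a = p.stalkMap x a := fun a => by
    simp [ringTo, TopCat.Presheaf.stalkSpecializes_refl]
  haveI : IsScalarTower (Y.presheaf.stalk (p x)) (X.presheaf.stalk x) (F.presheaf.stalk x) :=
    ⟨fun a b m => by
      show (algebraMap _ _ a * b) • m = ringTo p rfl a • b • m
      rw [hσ, mul_smul]
      rfl⟩
  rw [IsLocalRing.length_restrictScalars (Y.presheaf.stalk (p x)) (X.presheaf.stalk x)]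
  congr 1
  let i₁ : Module (ResidueField (Y.presheaf.stalk (p x))) (ResidueField (X.presheaf.stalk x)) :=
    inferInstance
  let i₂ : Module (ResidueField (Y.presheaf.stalk (p x))) (ResidueField (X.presheaf.stalk x)) :=
    @Algebra.toModule _ _ _ _ (p.residueFieldMap x).hom.toAlgebra
  have hM : i₁ = i₂ := Module.ext (funext fun a => funext fun b => by
    obtain ⟨a, rfl⟩ := residue_surjective a
    obtain ⟨b, rfl⟩ := residue_surjective b
    rfl)
  show @Module.length _ _ _ _ i₁ = _
  rw [hM]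
  letI := (p.residueFieldMap x).hom.toAlgebra
  haveI : Module.Finite (Y.residueField (p x)) (X.residueField x) := hfin
  exact Module.length_eq_finrank (K := Y.residueField (p x)) (M := X.residueField x)

variable {δX : X → ℤ} {δY : Y → ℤ} {k : ℤ}

theorem injective_toStalk [IsProper p] {y : Y} (v : ((Coh.push p).obj F).presheaf.stalk y)
    (h : ∀ x : Iso.fibSupp p F y, toStalk p F x.2.1 v = 0) : v = 0 := by
  obtain ⟨V, hy, m, rfl⟩ := TopCat.Presheaf.exists_germ_eq ((Coh.push p).obj F).presheaf v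
  let N : Set X := closure {x | ∃ hx : x ∈ p ⁻¹ᵁ V, F.presheaf.germ (p ⁻¹ᵁ V) x hx m ≠ 0}
  obtain ⟨V', hy', hV'⟩ := Iso.exists_open_avoid p (y := y) (N := N) isClosed_closure fun x hx hxN => by
    have hxV : x ∈ p ⁻¹ᵁ V := show p x ∈ V from hx.symm ▸ hy
    have h0 : F.presheaf.germ (p ⁻¹ᵁ V) x hxV m = 0 := by
      rcases subsingleton_or_nontrivial (F.presheaf.stalk x) with hs | hn
      · exact hs.elim _ _
      · exact (toStalk_germ p F hx hy m).symm.trans (h ⟨x, hx, hn⟩)
    obtain ⟨W, hxW, iU, iU', hW⟩ := TopCat.Presheaf.germ_eq F.presheaf x hxV hxV m 0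
      (h0.trans (map_zero _).symm)
    obtain ⟨z, hzW, hzV, hz⟩ := mem_closure_iff.1 hxN W W.2 hxW
    refine hz ?_
    rw [← TopCat.Presheaf.germ_res_apply F.presheaf iU z hzW]
    exact (congrArg _ (hW.trans (map_zero _))).trans (map_zero _)
  rw [← TopCat.Presheaf.germ_res_apply ((Coh.push p).obj F).presheaf
    (homOfLE (inf_le_left : V ⊓ V' ≤ V)) y ⟨hy, hy'⟩ m]
  refine (congrArg _ ?_).trans (map_zero _)
  refine Modules.Support.eq_zero_of_germ_eq_zero (M := F) (U := p ⁻¹ᵁ (V ⊓ V')) _ fun x hx _ => ?_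
  refine (TopCat.Presheaf.germ_res_apply F.presheaf (homOfLE (show p ⁻¹ᵁ (V ⊓ V') ≤ p ⁻¹ᵁ V from
    fun z hz => hz.1)) x hx m).trans ?_
  by_contra hne
  exact hV' x hx.2 (subset_closure ⟨hx.1, hne⟩)

theorem toNat_sum {κ : Type*} (s : Finset κ) (f : κ → ℕ∞) (h : ∀ j ∈ s, f j ≠ ⊤) :
    (∑ j ∈ s, f j).toNat = ∑ j ∈ s, (f j).toNat := by
  classical
  induction s using Finset.induction_on with
  | empty => rfl
  | insert a s ha ih =>
    have h' := fun j hj => h j (Finset.mem_insert_of_mem hj)
    rw [Finset.sum_insert ha, Finset.sum_insert ha, ← ih h']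
    exact ENat.toNat_add (h a (Finset.mem_insert_self a s)) (WithTop.sum_ne_top.2 h')

variable [IsLocallyNoetherian X]

theorem length_push [IsProper p] (hX : Cyc.IsDimFun X δX) (hδ : Cyc.DeltaCompat p δX δY)
    (hF : Cyc.CohLe δX k F) {y : Y} (hy : δY y = k) :
    Module.length (Y.presheaf.stalk y) (((Coh.push p).obj F).presheaf.stalk y) =
      ∑ x ∈ (Iso.finite_fibSupp p hX hδ hF hy).toFinset,
        Module.length (X.presheaf.stalk x) (F.presheaf.stalk x) * (p.residueDegree x : ℕ∞) := by
  classical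
  haveI := (Iso.finite_fibSupp p hX hδ hF hy).fintype
  letI : ∀ x : Iso.fibSupp p F y, Module (Y.presheaf.stalk y) (F.presheaf.stalk x.1) :=
    fun x => Module.compHom _ (ringTo p x.2.1)
  let Φ : ((Coh.push p).obj F).presheaf.stalk y →ₗ[Y.presheaf.stalk y]
      ∀ x : Iso.fibSupp p F y, F.presheaf.stalk x.1 :=
    LinearMap.pi fun x =>
      { toFun := toStalk p F x.2.1
        map_add' := map_add _
        map_smul' := toStalk_smul p F x.2.1 }
  have hsurj : Function.Surjective Φ := fun v => by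
    choose V hyV m hm hm' using fun x : Iso.fibSupp p F y =>
      Iso.exists_section p hX hδ hF hy x.2 (v x)
    refine ⟨∑ x, ((Coh.push p).obj F).presheaf.germ (V x) y (hyV x) (m x), funext fun t => ?_⟩
    rw [map_sum, Finset.sum_apply, Finset.sum_eq_single t]
    · exact (toStalk_germ p F t.2.1 (hyV t) (m t)).trans (hm t)
    · intro x _ hx
      exact (toStalk_germ p F t.2.1 (hyV x) (m x)).trans
        (hm' x t (fun e => hx (Subtype.ext e.symm)) _)
    · exact fun ht => absurd (Finset.mem_univ t) ht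
  have hinj : Function.Injective Φ := (injective_iff_map_eq_zero Φ).2 fun v hv =>
    injective_toStalk p F v fun x => congrFun hv x
  rw [(LinearEquiv.ofBijective Φ ⟨hinj, hsurj⟩).length_eq, Module.length_pi_of_fintype]
  refine Eq.trans (Finset.sum_congr rfl fun x _ => length_restrict p F x.2.1 ?_) ?_
  · exact Residue.residueFieldMap_finite_of_trdeg_eq_zero x.1
      ((Residue.trdegAt_eq_zero_iff_eq hδ x.1).2
        (by rw [Iso.delta_eq p hδ hF hy x.2, x.2.1, hy]))
  · exact (Finset.sum_subtype (p := (· ∈ Iso.fibSupp p F y))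
      (Iso.finite_fibSupp p hX hδ hF hy).toFinset (fun x => Set.Finite.mem_toFinset _)
      (fun x => Module.length (X.presheaf.stalk x) (F.presheaf.stalk x) * (p.residueDegree x : ℕ∞))).symm

/-- `p_*[F]_k = [p_* F]_k`. -/
theorem map_sheafFun [IsProper p] (hX : Cyc.IsDimFun X δX) (hδ : Cyc.DeltaCompat p δX δY)
    (hF : Cyc.CohLe δX k F) (α : AlgebraicCycle X ℤ) (hα : ⇑α = Cyc.sheafFun δX k F) (y : Y) :
    AlgebraicCycle.map p δX δY α y = Cyc.sheafFun δY k ((Coh.push p).obj F) y := by
  classical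
  rw [Push.map_apply, hα]
  by_cases hy : δY y = k
  swap
  · rw [Cyc.sheafFun, if_neg hy]
    refine finsum_mem_eq_zero_of_forall_eq_zero fun x hx => ?_
    have hxy : p x = y := hx
    simp only [Cyc.sheafFun, AlgebraicCycle.mapCoeff]
    split_ifs with h1 h2
    · exact absurd (hxy ▸ h2 ▸ h1) hy
    all_goals simp
  rw [Cyc.sheafFun, if_pos hy, length_push p F hX hδ hF hy, toNat_sum _ _ ?_, Nat.cast_sum]
  · rw [finsum_mem_eq_sum_of_inter_support_eq
      (t := (Iso.finite_fibSupp p hX hδ hF hy).toFinset)]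
    · refine Finset.sum_congr rfl fun x hx => ?_
      have hx' := (Set.Finite.mem_toFinset _).1 hx
      have hk := Iso.delta_eq p hδ hF hy hx'
      rw [Cyc.sheafFun, if_pos hk, ENat.toNat_mul, ENat.toNat_natCast, Nat.cast_mul,
        AlgebraicCycle.mapCoeff, if_pos (show δX x = δY (p x) by rw [hx'.1, hy, hk])]
    · refine Set.ext fun x => ⟨fun hx => ⟨?_, hx.2⟩, fun hx => ⟨?_, hx.2⟩⟩
      · refine (Set.Finite.mem_toFinset _).2 ⟨hx.1, ?_⟩
        by_contra hc
        haveI := not_nontrivial_iff_subsingleton.1 hc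
        refine hx.2 ?_
        simp only [Cyc.sheafFun, Module.length_eq_zero]
        split_ifs <;> simp
      · exact ((Set.Finite.mem_toFinset _).1 hx.1).1
  · intro x hx
    have hk := Iso.delta_eq p hδ hF hy ((Set.Finite.mem_toFinset _).1 hx)
    exact WithTop.mul_ne_top (K0.Cycles.length_ne_top k hX hF hk) (WithTop.natCast_ne_top _)

end Groth.Agent.Lib.Cyc.PP.FinStalk
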