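import Groth.Agent.Lib.Cyc.Gys.Killed
import Groth.Agent.Lib.ZarCoh.AnnIdeal
import Groth.Agent.Lib.QCoh.Sections
import Mathlib.AlgebraicGeometry.ZariskisMainTheorem

/-!
# Surjectivity on stalks of direct images where the support is finite over the base
-/

set_option autoImplicit false
set_option linter.style.haveILetI false
universe u

open CategoryTheory CategoryTheory.Limits AlgebraicGeometry TopologicalSpace Opposite

namespace Groth.Agent.Lib.Cyc.PP.Epi

open Groth.Agent.Lib Groth.Agent.Lib.Cyc Groth.Agent.Lib.Modules.StalkModule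

variable {X Y : Scheme.{u}}

/-- A coherent module is killed by its annihilator subscheme. -/
theorem isKilled_annIdeal (M : X.Modules) [M.IsQuasicoherent]
    [SheafOfModules.IsFiniteType (R := X.ringCatSheaf) M] :
    Gys.Killed.IsKilled (ZarCoh.AnnIdeal.annIdeal M).subschemeι M := by
  let I := ZarCoh.AnnIdeal.annIdeal M
  refine ⟨fun x hx => ?_, fun d c hc a => ?_⟩
  · rw [Scheme.IdealSheafData.range_subschemeι, ZarCoh.AnnIdeal.support_annIdeal] at hx
    exact Modules.Support.not_mem_support_iff.1 hx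
  · obtain ⟨U, hU, hxU, -⟩ :=
      exists_isAffineOpen_mem_and_subset (show I.subschemeι d ∈ (⊤ : X.Opens) from trivial)
    have h := Dev.SchemeCase.ker_stalkMap_le I.subschemeι ⟨U, hU⟩ d hxU
      (RingHom.mem_ker.2 hc)
    rw [Scheme.IdealSheafData.ker_subschemeι] at h
    obtain ⟨b, m, hb, e⟩ := StalkLoc.Basic.exists_smul_eq_germ (M := M) hU hxU a
    have hbu : IsUnit (X.presheaf.germ U _ hxU b) := (X.mem_basicOpen b _ hxU).1 hb
    refine hbu.smul_eq_zero.1 ?_
    rw [smul_comm, e]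
    refine Submodule.mem_annihilator_span_singleton _ _ |>.1 ?_
    refine (Ideal.map_le_iff_le_comap.2 ?_) h
    intro r hr
    rw [Ideal.mem_comap, Submodule.mem_annihilator_span_singleton]
    refine (Modules.StalkModule.germ_smul hxU r m).symm.trans ?_
    rw [show r • m = 0 from Module.mem_annihilator.1 hr m, map_zero]

/-- For an epimorphism with source support finite over `y` the direct images surject at `y`. -/
theorem surjective_push_stalk (p : X ⟶ Y) [IsProper p] [IsLocallyNoetherian X] {B C : X.Modules}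
    (π : B ⟶ C) [CategoryTheory.Epi π] (hB : Coh.IsCoh B) (hC : Coh.IsCoh C) (y : Y)
    (hfin : {x | p x = y ∧ Nontrivial (B.presheaf.stalk x)}.Finite) :
    Function.Surjective (stalkMapₗ ((Coh.push p).map π) y) := by
  haveI := hB.1
  haveI := hB.2
  haveI := hC.1
  let I := ZarCoh.AnnIdeal.annIdeal B
  let i := I.subschemeι
  have kB : Gys.Killed.IsKilled i B := isKilled_annIdeal B
  have kC : Gys.Killed.IsKilled i C := kB.of_epi i π
  haveI := Gys.Killed.isIso_unit i kB
  haveI := Gys.Killed.isIso_unit i kC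
  have hfinq : (⇑(i ≫ p) ⁻¹' {y}).Finite := by
    refine Set.Finite.of_finite_image (f := ⇑i) (hfin.subset ?_) i.isClosedEmbedding.injective.injOn
    rintro _ ⟨z, hz, rfl⟩
    have hs : i z ∈ CohB1.support B := by
      rw [← ZarCoh.AnnIdeal.support_annIdeal, ← Scheme.IdealSheafData.range_subschemeι]
      exact ⟨z, rfl⟩
    exact ⟨hz, not_subsingleton_iff_nontrivial.1 hs⟩
  obtain ⟨V, hyV, hV⟩ := exists_isFinite_morphismRestrict_of_finite_preimage_singleton (i ≫ p) y hfinq
  intro v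
  obtain ⟨W, hyW, c, rfl⟩ := TopCat.Presheaf.exists_germ_eq ((Coh.push p).obj C).presheaf v
  obtain ⟨V', hV', hyV', hle⟩ := exists_isAffineOpen_mem_and_subset (X := Y) (x := y) (U := W ⊓ V)
    ⟨hyW, hyV⟩
  have hA : IsAffineOpen ((i ≫ p) ⁻¹ᵁ V') := by
    have e : V.ι ''ᵁ (V.ι ⁻¹ᵁ V') = V' := by
      rw [Scheme.Hom.image_preimage_eq_opensRange_inf, Scheme.Opens.opensRange_ι]
      exact inf_eq_right.2 fun z hz => (hle hz).2
    have h1 : IsAffineOpen (V.ι ⁻¹ᵁ V') := by
      rw [← Scheme.Hom.isAffineOpen_iff_of_isOpenImmersion V.ι, e]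
      exact hV'
    have h2 := (h1.preimage ((i ≫ p) ∣_ V)).image_of_isOpenImmersion ((i ≫ p) ⁻¹ᵁ V).ι
    rwa [image_morphismRestrict_preimage, e] at h2
  let P := Scheme.Modules.pullback i
  let η := (Scheme.Modules.pullbackPushforwardAdjunction i).unit
  haveI : Epi (P.map π) := inferInstance
  haveI := QCoh.Pullback.isQCoh_pullback i B
  haveI := QCoh.Pullback.isQCoh_pullback i C
  let c' : Γ(C, p ⁻¹ᵁ V') :=
    C.presheaf.map (homOfLE (fun z hz => (hle hz).1 : p ⁻¹ᵁ V' ≤ p ⁻¹ᵁ W)).op c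
  obtain ⟨b', hb'⟩ := QCoh.Closure.sections_surjective_of_epi (P.map π) hA
    ((η.app C).app (p ⁻¹ᵁ V') c')
  have hbij : ∀ (M : X.Modules) [IsIso (η.app M)],
      Function.Bijective ((η.app M).app (p ⁻¹ᵁ V')) := fun M _ =>
    ConcreteCategory.bijective_of_isIso ((η.app M).app (p ⁻¹ᵁ V'))
  obtain ⟨b, hb⟩ := (hbij B).2 b'
  have hπb : π.app (p ⁻¹ᵁ V') b = c' := by
    refine (hbij C).1 ?_
    refine Eq.trans ?_ hb'
    rw [← hb]
    exact congrArg (fun φ : B ⟶ _ => φ.app (p ⁻¹ᵁ V') b) (η.naturality π)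
  refine ⟨((Coh.push p).obj B).presheaf.germ V' y hyV' b, (stalkMapₗ_germ _ _ _).trans ?_⟩
  refine (congrArg (((Coh.push p).obj C).presheaf.germ V' y hyV') hπb).trans ?_
  exact TopCat.Presheaf.germ_res_apply ((Coh.push p).obj C).presheaf
    (homOfLE (fun z hz => (hle hz).1 : V' ≤ W)) y hyV' c

end Groth.Agent.Lib.Cyc.PP.Epi
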