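import Groth.Agent.Lib.Cyc.PP.Div
import Groth.Agent.Lib.Cyc.PP.Epi
import Groth.Agent.Lib.Cyc.PP.Push

/-!
# Proper direct image respects rational equivalence
-/

set_option autoImplicit false
set_option linter.style.haveILetI false
universe u

open CategoryTheory CategoryTheory.Limits AlgebraicGeometry TopologicalSpace Opposite IsLocalRing

namespace Groth.Agent.Lib.Cyc.PP.Main

open Groth.Agent.Lib Groth.Agent.Lib.Cyc Groth.Agent.Lib.Modules.StalkModule

variable {X Y : Scheme.{u}} (p : X ⟶ Y) [IsProper p] [IsLocallyNoetherian X]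
  [IsLocallyNoetherian Y] {δX : X → ℤ} {δY : Y → ℤ} {k : ℤ}

theorem cohLe_push (hδ : Cyc.DeltaCompat p δX δY) (hY : Cyc.IsDimFun Y δY) {a : ℤ} {M : X.Modules}
    (hM : Cyc.CohLe δX a M) : Cyc.CohLe δY a ((Coh.push p).obj M) := by
  refine ⟨Push.isCoh_push p hM.1, fun y hy => ?_⟩
  haveI := hM.1.2
  by_contra hlt
  refine not_subsingleton_iff_nontrivial.2 hy (SheafLen.subsingleton_push_stalk p M
    (⇑p '' CohB1.support M) (p.isClosedMap _ (Modules.Support.isClosed_support M))
    (fun x hx => ⟨x, not_subsingleton_iff_nontrivial.2 hx, rfl⟩) y ?_)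
  rintro ⟨x, hx, rfl⟩
  exact hlt ((Residue.deltaY_le hδ x).trans (hM.2 x (not_subsingleton_iff_nontrivial.1 hx)))

theorem finite_fibre_of_forall_eq (hX : Cyc.IsDimFun X δX) {F : X.Modules}
    (hF : SheafOfModules.IsFiniteType (R := X.ringCatSheaf) F) {y : Y}
    (h : ∀ x, p x = y → Nontrivial (F.presheaf.stalk x) → δX x = k) :
    {x | p x = y ∧ Nontrivial (F.presheaf.stalk x)}.Finite := by
  haveI := hF
  letI : (p.fiber y).Over (Spec (CommRingCat.of (Y.residueField y))) := p.fiberOverSpecResidueField y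
  haveI : IsProper (p.fiber y ↘ Spec (CommRingCat.of (Y.residueField y))) :=
    MorphismProperty.pullback_snd _ _ inferInstance
  haveI := Curves.GlobalSections.isNoetherian_of_proper (Y.residueField y) (p.fiber y)
  have hfin := (DimFun.finite_maxPts (α := (p.fiber y))
    ((Modules.Support.isClosed_support F).preimage (p.fiberι y).continuous)).image ⇑(p.fiberι y)
  refine hfin.subset ?_
  rintro x ⟨hx, hn⟩
  obtain ⟨z, rfl⟩ := (p.range_fiberι y).symm.subset (show x ∈ ⇑p ⁻¹' {y} from hx)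
  refine ⟨z, ⟨not_subsingleton_iff_nontrivial.2 hn, fun w hw hwz => ?_⟩, rfl⟩
  refine (p.fiberι y).isEmbedding.injective (DimFun.eq_of_specializes_of_le hX
    (hwz.map (p.fiberι y).continuous) ?_)
  rw [h _ hx hn, h _ ((p.range_fiberι y).subset ⟨w, rfl⟩) (not_subsingleton_iff_nontrivial.1 hw)]

theorem finsum_mem_finset_comm {α κ : Type*} {s : Set α} (t : Finset κ) (g : κ → α → ℤ)
    (h : ∀ n ∈ t, (s ∩ Function.support (g n)).Finite) :
    ∑ᶠ x ∈ s, ∑ n ∈ t, g n x = ∑ n ∈ t, ∑ᶠ x ∈ s, g n x := by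
  classical
  induction t using Finset.induction_on with
  | empty => simp
  | insert a t ha ih =>
    have h' := fun n hn => h n (Finset.mem_insert_of_mem hn)
    simp only [Finset.sum_insert ha]
    rw [finsum_mem_add_distrib' (h a (Finset.mem_insert_self a t)), ih h']
    refine (t.finite_toSet.biUnion h').subset fun x hx => ?_
    obtain ⟨n, hn, hne⟩ := Finset.exists_ne_zero_of_sum_ne_zero (s := t) (f := fun n => g n x) hx.2
    exact Set.mem_biUnion hn ⟨hx.1, hne⟩

/-- The cokernel of the direct image of an injection in the generically finite range. -/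
theorem cokernel_spec (hX : Cyc.IsDimFun X δX) (hY : Cyc.IsDimFun Y δY)
    (hδ : Cyc.DeltaCompat p δX δY) {J O : X.Modules} (u : J ⟶ O) [Mono u] (cJ : Coh.IsCoh J)
    (cO : Coh.IsCoh O) (hu : Cyc.CohLe δX k (cokernel u))
    (hfib : ∀ y, δY y = k → ∀ x, p x = y → Nontrivial (O.presheaf.stalk x) → δX x = k) :
    Mono ((Coh.push p).map u) ∧ Cyc.CohLe δY k (cokernel ((Coh.push p).map u)) ∧
      ∀ y, Cyc.sheafFun δY k (cokernel ((Coh.push p).map u)) y =
        AlgebraicCycle.map p δX δY (FP.Rat.cycleOf k hX hu) y := by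
  let P := Coh.push p
  haveI : PreservesLimitsOfSize.{0, 0} P :=
    (Scheme.Modules.pullbackPushforwardAdjunction p).rightAdjoint_preservesLimits
  haveI : PreservesFiniteLimits P := PreservesLimitsOfSize.preservesFiniteLimits P
  let S := ShortComplex.mk u (cokernel.π u) (cokernel.condition u)
  have hS : S.Exact := ShortComplex.exact_cokernel u
  haveI hm : Mono (P.map u) := inferInstance
  have hex : (S.map P).Exact := by
    haveI : Mono S.f := inferInstanceAs (Mono u)
    exact hS.map_of_mono_of_preservesKernel P inferInstance inferInstance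
  haveI hmd : Mono (cokernel.desc (P.map u) (P.map (cokernel.π u))
      (by rw [← P.map_comp, cokernel.condition, Functor.map_zero])) :=
    (ShortComplex.exact_iff_mono_cokernel_desc (S.map P)).1 hex
  set φ := cokernel.desc (P.map u) (P.map (cokernel.π u))
    (by rw [← P.map_comp, cokernel.condition, Functor.map_zero])
  have hJ := Push.isCoh_push p cJ
  have hO := Push.isCoh_push p cO
  have hC : Coh.IsCoh (cokernel (P.map u)) := CohBasics.Closure.isCoh_cokernel _ hJ.1 hO
  have hle := K0.Cycles.cohLe_of_mono φ hC (cohLe_push p hδ hY hu)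
  refine ⟨hm, hle, fun y => ?_⟩
  rw [FinStalk.map_sheafFun p _ hX hδ hu _ rfl]
  by_cases hy : δY y = k
  swap
  · rw [Cyc.sheafFun, Cyc.sheafFun, if_neg hy, if_neg hy]
  have hfin := finite_fibre_of_forall_eq p hX cO.2 (hfib y hy)
  have hsur : Function.Surjective (stalkMapₗ φ y) := fun v => by
    obtain ⟨b, rfl⟩ := Epi.surjective_push_stalk p (cokernel.π u) cO hu.1 y hfin v
    refine ⟨stalkMapₗ (cokernel.π (P.map u)) y b, ?_⟩
    rw [← LinearMap.comp_apply, ← stalkMapₗ_comp, cokernel.π_desc]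
  have hbij : Function.Bijective (stalkMapₗ φ y) :=
    ⟨(mono_iff_stalkMapₗ_injective φ).1 inferInstance y, hsur⟩
  rw [Cyc.sheafFun, Cyc.sheafFun, if_pos hy, if_pos hy,
    (LinearEquiv.ofBijective _ hbij).length_eq]

theorem ratEquivZero_map (hX : Cyc.IsDimFun X δX) (hY : Cyc.IsDimFun Y δY)
    (hδ : Cyc.DeltaCompat p δX δY) {α : AlgebraicCycle X ℤ} (h : Cyc.RatEquivZero δX k α) :
    Cyc.RatEquivZero δY k (AlgebraicCycle.map p δX δY α) := by
  classical
  obtain ⟨ι, ξ, f, hξ, hf, hlf, hα⟩ := h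
  let I₁ := {n : ι // δY (p (ξ n)) = k + 1}
  let I₂ := {n : ι // δY (p (ξ n)) ≠ k + 1}
  have hlf₁ : C1K.Family.LF fun n : I₁ => ξ n.1 := fun x => by
    obtain ⟨U, hU, hx, hfin⟩ := hlf x
    exact ⟨U, hU, hx, (hfin.preimage (f := Subtype.val) Subtype.val_injective.injOn).subset fun n hn => hn⟩
  have hex : ∀ n : I₁, ∃ c : X.presheaf.stalk (ξ n.1), X.residue (ξ n.1) c = f n.1 ∧ IsUnit c :=
    fun n => by
    obtain ⟨c, hc⟩ := X.residue_surjective (ξ n.1) (f n.1)
    refine ⟨c, hc, ?_⟩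
    by_contra hne
    exact hf n.1 (hc ▸ (IsLocalRing.residue_eq_zero_iff _).2 ((mem_maximalIdeal c).2 hne))
  choose c hcf hc using hex
  let O := fun n : I₁ => Cyc.closureStructureSheaf (ξ n.1)
  let u := fun n : I₁ => Retr.Witness.incl (ξ n.1) (c n)
  let v := fun n : I₁ => Retr.Witness.quot (hc n)
  haveI : ∀ n, Mono (v n) := fun n => Retr.Witness.mono_quot (hc n)
  have hOn : C1K.Family.OnCl (fun n : I₁ => ξ n.1) O := fun n y hy =>
    Retr.Witness.stalk_trivial_of_not_specializes hy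
  have hJn : C1K.Family.OnCl (fun n : I₁ => ξ n.1) fun n => Retr.Witness.J (ξ n.1) (c n) :=
    fun n y hy =>
    haveI := hOn n y hy
    ((mono_iff_stalkMapₗ_injective (u n)).1 inferInstance y).subsingleton
  obtain ⟨mu, hu, fu⟩ := C1K.Family.sigma_map_spec hlf₁ hX u hOn fun n =>
    Retr.Witness.cohLe_cokernel hX (hξ n.1) _ Retr.Witness.isCoh_cokernel_incl
      (Retr.Witness.surjective_incl_self (hc n))
  obtain ⟨mv, hv, fv⟩ := C1K.Family.sigma_map_spec hlf₁ hX v hOn fun n =>
    Retr.Witness.cohLe_cokernel hX (hξ n.1) _ (Retr.Witness.isCoh_cokernel_quot (hc n))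
      (Retr.Witness.surjective_quot_self (hc n))
  have cJ : Coh.IsCoh (∐ fun n => Retr.Witness.J (ξ n.1) (c n)) :=
    C1K.Family.isCoh_sigma hlf₁ hJn fun n => Retr.Witness.isCoh_J _ _
  have hO : Cyc.CohLe δX (k + 1) (∐ O) := C1K.Family.cohLe_sigma hlf₁ hOn fun n =>
    ⟨Devissage.Closure.isCoh_closureStructureSheaf _, fun y hy => by
      by_cases hs : ξ n.1 ⤳ y
      · exact (DimFun.le_of_specializes hX hs).trans (hξ n.1).le
      · exact absurd (hOn n y hs) (not_subsingleton_iff_nontrivial.2 hy)⟩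
  have hfib : ∀ y, δY y = k → ∀ x, p x = y → Nontrivial ((∐ O).presheaf.stalk x) → δX x = k :=
    fun y hy x hxy hn => by
    have h1 := Residue.deltaY_le hδ x
    have h2 := hO.2 x hn
    rw [hxy, hy] at h1
    by_contra hne
    have hx : δX x = k + 1 := by omega
    have hbot : (⊥ : Submodule (X.presheaf.stalk x) ((∐ O).presheaf.stalk x)) = ⊤ :=
      K0.Sum.span_stalk_sigma _ x _ fun n w => by
        haveI : Subsingleton ((O n).presheaf.stalk x) := hOn n x fun hsp => by
          have := DimFun.eq_of_specializes_of_le hX hsp (by rw [hξ n.1, hx])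
          have h3 := n.2
          dsimp only at this
          rw [this, hxy, hy] at h3
          omega
        rw [Subsingleton.elim w 0, map_zero]
        exact Submodule.zero_mem _
    obtain ⟨w, hw⟩ := exists_ne (0 : (∐ O).presheaf.stalk x)
    exact hw ((Submodule.mem_bot _).1 (hbot ▸ trivial : w ∈ (⊥ : Submodule (X.presheaf.stalk x) _)))
  haveI := mu
  haveI := mv
  obtain ⟨mu', hu', fu'⟩ := cokernel_spec p hX hY hδ _ cJ hO.1 hu hfib
  obtain ⟨mv', hv', fv'⟩ := cokernel_spec p hX hY hδ _ cJ hO.1 hv hfib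
  let α₁ := Gys.Rat.diffCycle hX hu hv
  have hα₁ : ∀ x, α₁ x = ∑ᶠ n : I₁, Cyc.divFun δX (ξ n.1) (f n.1) x := fun x => by
    have hs : ∀ (g : ∀ n, Retr.Witness.J (ξ n.1) (c n) ⟶ O n),
        (Function.support fun n => Cyc.sheafFun δX k (cokernel (g n)) x).Finite := fun g => by
      refine (C1K.Family.finite_nontrivial hlf₁ hOn x).subset fun n hn => ?_
      by_contra hs
      haveI := not_nontrivial_iff_subsingleton.1 hs
      haveI : Subsingleton ((cokernel (g n)).presheaf.stalk x) :=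
        ((epi_iff_stalkMapₗ_surjective (cokernel.π (g n))).1 inferInstance x).subsingleton
      refine hn ?_
      simp only [Cyc.sheafFun, Module.length_eq_zero]
      split_ifs <;> rfl
    rw [Gys.Rat.diffCycle_apply, fu, fv, ← finsum_sub_distrib (hs u) (hs v)]
    exact finsum_congr fun n => hcf n ▸ (Retr.Witness.divFun_eq (hc n) hX (hξ n.1) x).symm
  have h0 : Cyc.RatEquivZero δY k (AlgebraicCycle.map p δX δY α₁) := by
    haveI := mu'
    haveI := mv'
    refine FP.Rat.ratEquivZero_sub hY hu' hv'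
      (Retr.Family.cl_eq _ _ (Push.isCoh_push p cJ) (cohLe_push p hδ hY hO)) _ fun y => ?_
    rw [fu', fv', ← Div.map_sub_apply]
    rfl
  suffices e : AlgebraicCycle.map p δX δY α = AlgebraicCycle.map p δX δY α₁ by rwa [e]
  refine Function.locallyFinsuppWithin.ext fun y => ?_
  rw [← sub_eq_zero, ← Div.map_sub_apply, Push.map_apply]
  have hrest : ∀ x, (α - α₁) x = ∑ᶠ n : I₂, Cyc.divFun δX (ξ n.1) (f n.1) x := fun x => by
    rw [Function.locallyFinsuppWithin.coe_sub, Pi.sub_apply, hα, hα₁, sub_eq_iff_eq_add']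
    let S : Set ι := {n | δY (p (ξ n)) = k + 1}
    let g : ι → ℤ := fun n => Cyc.divFun δX (ξ n) (f n) x
    have hfin : (Function.support g).Finite := Ord.finite_support_divFun_family δX ξ f hlf x
    have e1 : (∑ᶠ n : I₁, g n.1) = ∑ᶠ n ∈ S, g n := finsum_set_coe_eq_finsum_mem (f := g) S
    have e2 : (∑ᶠ n : I₂, g n.1) = ∑ᶠ n ∈ Sᶜ, g n := finsum_set_coe_eq_finsum_mem (f := g) Sᶜ
    have key := finsum_mem_union' (f := g) (disjoint_compl_right (a := S))
      (hfin.subset Set.inter_subset_right) (hfin.subset Set.inter_subset_right)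
    rw [Set.union_compl_self, finsum_mem_univ, ← e1, ← e2] at key
    exact key
  -- finitely many members meet the fibre
  choose U hU hxU hUfin using hlf
  obtain ⟨t, ht⟩ := (Scheme.Hom.isCompact_preimage_singleton p y).elim_finite_subcover
    U hU fun x _ => Set.mem_iUnion.2 ⟨x, hxU x⟩
  have hN : {n : I₂ | ∃ x, p x = y ∧ ξ n.1 ⤳ x}.Finite := by
    refine ((t.finite_toSet.biUnion fun i _ => hUfin i).preimage
      (f := Subtype.val) Subtype.val_injective.injOn).subset ?_
    rintro n ⟨x, hx, hsp⟩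
    obtain ⟨i, hi, hxi⟩ := Set.mem_iUnion₂.1 (ht hx)
    exact Set.mem_biUnion hi ⟨x, specializes_iff_mem_closure.1 hsp, hxi⟩
  have hsum : ∀ x ∈ ⇑p ⁻¹' {y}, (α - α₁) x * (AlgebraicCycle.mapCoeff p δX δY x : ℤ) =
      ∑ n ∈ hN.toFinset, Cyc.divFun δX (ξ n.1) (f n.1) x *
        (AlgebraicCycle.mapCoeff p δX δY x : ℤ) := fun x hx => by
    rw [hrest, finsum_eq_sum_of_support_subset (s := hN.toFinset) _ fun n hn =>
      hN.mem_toFinset.2 ⟨x, hx, by_contra fun h => hn (Ord.divFun_eq_zero_of_not_specializes δX _ _ _ h)⟩,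
      Finset.sum_mul]
  rw [finsum_mem_congr rfl hsum]
  rw [finsum_mem_finset_comm]
  · exact Finset.sum_eq_zero fun n _ => Div.finsum_divFun_eq_zero p hX hY hδ (hξ n.1)
      (by
        have h1 := Residue.deltaY_le hδ (ξ n.1)
        have h2 := n.2
        rw [hξ n.1] at h1
        omega) _ (hf n.1) y
  · intro n _
    choose U hU hxU hUfin using Ord.exists_open_finite_divFun hX (ξ n.1) (f n.1)
    obtain ⟨t, ht⟩ := (Scheme.Hom.isCompact_preimage_singleton p y).elim_finite_subcover
      U hU fun x _ => Set.mem_iUnion.2 ⟨x, hxU x⟩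
    refine (t.finite_toSet.biUnion fun i _ => hUfin i).subset fun x hx => ?_
    obtain ⟨i, hi, hxi⟩ := Set.mem_iUnion₂.1 (ht hx.1)
    exact Set.mem_biUnion hi ⟨hxi, left_ne_zero_of_mul hx.2⟩

end Groth.Agent.Lib.Cyc.PP.Main
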