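import Groth.Agent.Lib.Cyc.Gys.Closed

/-!
# Closed subschemes with the induced dimension function
-/

set_option autoImplicit false
set_option linter.style.haveILetI false
universe u

open AlgebraicGeometry CategoryTheory

namespace Groth.Agent.Lib.Cyc.PP.SubSetup

open Groth.Agent.Lib.Cyc

theorem isUniversallyCatenary_of_surjective {R B : Type u} [CommRing R] [CommRing B] (f : R →+* B)
    (hf : Function.Surjective f) (h : CAlg.IsUniversallyCatenary R) : CAlg.IsUniversallyCatenary B := by
  have := h.1
  refine ⟨isNoetherianRing_of_surjective R B f hf, fun S _ _ hft => ?_⟩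
  let := f.toAlgebra
  let := ((algebraMap B S).comp f).toAlgebra
  have : IsScalarTower R B S := IsScalarTower.of_algebraMap_eq fun _ => rfl
  exact h.2 S (Algebra.FiniteType.trans
    (Algebra.FiniteType.of_surjective (Algebra.ofId R B) hf) hft)

variable {X D : Scheme.{u}} (i : D ⟶ X) [IsClosedImmersion i] {δ : X → ℤ}

theorem isSetup (hX : Cyc.IsSetup X δ) : Cyc.IsSetup D (fun d => δ (i d)) := by
  haveI := hX.1
  exact ⟨LocallyOfFiniteType.isLocallyNoetherian i,
    fun d => isUniversallyCatenary_of_surjective (i.stalkMap d).hom (i.stalkMap_surjective d) (hX.2.1 (i d)),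
    Gys.Closed.isDimFun i hX.2.2⟩

theorem deltaCompat : Cyc.DeltaCompat i (fun d => δ (i d)) δ := fun d => ⟨0, by
  rw [Nat.cast_zero]
  exact FieldDim.trdegAt_eq_zero_of_surjective i d (FieldDim.residueFieldMap_surjective i d), by simp⟩

end Groth.Agent.Lib.Cyc.PP.SubSetup
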