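import Groth.Agent.Lib.Cyc.Gys.Closed

/-!
# Cycles and divisors along an open immersion
-/

set_option autoImplicit false
set_option linter.style.haveILetI false
universe u

open CategoryTheory AlgebraicGeometry IsLocalRing

namespace Groth.Agent.Lib.Cyc.PP.OpenImm

open Groth.Agent.Lib Groth.Agent.Lib.Cyc

variable {X D : Scheme.{u}} (i : D ⟶ X) [IsPreimmersion i] {δ : X → ℤ}

theorem specializes_iff {a b : D} : i a ⤳ i b ↔ a ⤳ b :=
  i.isEmbedding.isInducing.specializes_iff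

theorem residue_bijective (d : D) : Function.Bijective (i.residueFieldMap d).hom :=
  ⟨RingHom.injective _, FieldDim.residueFieldMap_surjective (f := i) d⟩

theorem locQuotMap_bijective {ζ d : D} (h : ζ ⤳ d) :
    Function.Bijective (InducedDimFun.locQuotMap i ζ d h) := by
  refine ⟨Ideal.quotientMap_injective' fun a ha => ?_, fun b => ?_⟩
  · rw [Ideal.mem_comap, RingHom.mem_ker] at ha
    rw [RingHom.mem_ker]
    exact (residue_bijective i ζ).1 ((InducedDimFun.specMap_stalkMap i ζ d h a).symm.trans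
      (ha.trans (map_zero _).symm))
  · obtain ⟨b, rfl⟩ := Ideal.Quotient.mk_surjective b
    obtain ⟨a, rfl⟩ := i.stalkMap_surjective d b
    exact ⟨Ideal.Quotient.mk _ a, InducedDimFun.locQuotMap_mk i ζ d h a⟩

variable [IsLocallyNoetherian X] [IsLocallyNoetherian D]

theorem ordAt_map (hδ : Cyc.IsDimFun X δ) (hδD : Cyc.IsDimFun D (fun d => δ (i d))) {ζ d : D} (h : ζ ⤳ d) (hd : δ (i ζ) ≤ δ (i d) + 1)
    (f : X.residueField (i ζ)) :
    Cyc.ordAt d ζ h (i.residueFieldMap ζ f) = Cyc.ordAt (i d) (i ζ) (h.map i.continuous) f := by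
  by_cases hf : f = 0
  · subst hf
    rw [map_zero]
    exact (Ord.ordFrac_of_eq_zero _).trans (Ord.ordFrac_of_eq_zero _).symm
  obtain ⟨a, b, hb, hab⟩ := Ord.exists_specMap_fraction (i d) (i ζ) (h.map i.continuous) f
  have ha : Cyc.specMap (i d) (i ζ) (h.map i.continuous) a ≠ 0 := hab ▸ mul_ne_zero hf hb
  have key : ∀ c : X.presheaf.stalk (i d), Cyc.specMap (i d) (i ζ) (h.map i.continuous) c ≠ 0 →
      Cyc.ordAt d ζ h (i.residueFieldMap ζ (Cyc.specMap (i d) (i ζ) (h.map i.continuous) c)) =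
        Cyc.ordAt (i d) (i ζ) (h.map i.continuous) (Cyc.specMap (i d) (i ζ) (h.map i.continuous) c) := by
    intro c hc
    have h1 := InducedDimFun.specMap_stalkMap i ζ d h c
    have h2 := Ord.ordAt_specMap hδ (i d) (i ζ) (h.map i.continuous) hd c hc
    have hc' : Cyc.specMap d ζ h (i.stalkMap d c) ≠ 0 := fun h0 =>
      hc ((residue_bijective i ζ).1 ((h1.symm.trans h0).trans (map_zero _).symm))
    have h3 := Ord.ordAt_specMap hδD d ζ h hd (i.stalkMap d c) hc'
    rw [← h1, h3, h2]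
    have h4 := Gys.Closed.ord_congr (A := Cyc.LocQuot (i d) (i ζ) (h.map i.continuous))
      (B := Cyc.LocQuot d ζ h) (RingEquiv.ofBijective _ (locQuotMap_bijective i h))
      (Ideal.Quotient.mk _ c)
    rw [RingEquiv.ofBijective_apply, InducedDimFun.locQuotMap_mk] at h4
    rw [h4]
  have hne : ∀ {z : X.residueField (i ζ)}, z ≠ 0 → i.residueFieldMap ζ z ≠ 0 := fun hz h0 =>
    hz ((residue_bijective i ζ).1 (h0.trans (map_zero _).symm))
  have e1 := Ord.ordAt_mul hδ (i d) (i ζ) (h.map i.continuous) hd f _ hf hb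
  have e2 := Ord.ordAt_mul hδD d ζ h hd _ _ (hne hf) (hne hb)
  rw [← map_mul, hab, key a ha, key b hb] at e2
  rw [hab] at e1
  omega

theorem divFun_map (hδ : Cyc.IsDimFun X δ) (hδD : Cyc.IsDimFun D (fun d => δ (i d))) (ζ : D) (f : X.residueField (i ζ)) (d : D) :
    Cyc.divFun (fun d => δ (i d)) ζ (i.residueFieldMap ζ f) d = Cyc.divFun δ (i ζ) f (i d) := by
  by_cases h : ζ ⤳ d ∧ δ (i d) + 1 = δ (i ζ)
  · rw [Cyc.divFun, Cyc.divFun, dif_pos h, dif_pos ⟨(specializes_iff i).2 h.1, h.2⟩]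
    exact ordAt_map i hδ hδD h.1 h.2.ge f
  · rw [Cyc.divFun, Cyc.divFun, dif_neg h, dif_neg fun hc => h ⟨(specializes_iff i).1 hc.1, hc.2⟩]

omit [IsPreimmersion i] [IsLocallyNoetherian X] [IsLocallyNoetherian D] in
/-- A dimension function restricts along an open immersion. -/
theorem isDimFun [IsOpenImmersion i] (hδ : Cyc.IsDimFun X δ) :
    Cyc.IsDimFun D (fun d => δ (i d)) := by
  intro x y h hne
  obtain ⟨h1, h2⟩ := hδ (i x) (i y) (h.map i.continuous)
    fun e => hne (i.isOpenEmbedding.injective e)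
  refine ⟨h1, fun H => h2 fun z hxz hzy => ?_⟩
  obtain ⟨w, rfl⟩ : z ∈ Set.range ⇑i :=
    hzy.mem_open i.isOpenEmbedding.isOpen_range (Set.mem_range_self y)
  rcases H w (i.isOpenEmbedding.isInducing.specializes_iff.1 hxz)
      (i.isOpenEmbedding.isInducing.specializes_iff.1 hzy) with rfl | rfl
  · exact Or.inl rfl
  · exact Or.inr rfl

omit [IsPreimmersion i] [IsLocallyNoetherian D] in
/-- A locally finite family of closures in an open subscheme is locally finite in the space. -/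
theorem locallyFinite [IsOpenImmersion i] [QuasiCompact i] {ι : Type*} (ξ : ι → D)
    (hlf : ∀ x : D, ∃ U : Set D, IsOpen U ∧ x ∈ U ∧ {n | (closure {ξ n} ∩ U).Nonempty}.Finite)
    (x : X) :
    ∃ U : Set X, IsOpen U ∧ x ∈ U ∧ {n | (closure {i (ξ n)} ∩ U).Nonempty}.Finite := by
  obtain ⟨_, ⟨V, hV, rfl⟩, hxV, -⟩ :=
    X.isBasis_affineOpens.exists_subset_of_mem_open (Set.mem_univ x) isOpen_univ
  choose U hU hxU hfin using hlf
  obtain ⟨t, ht⟩ := (i.isCompact_preimage hV.isCompact).elim_finite_subcover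
    U hU fun d _ => Set.mem_iUnion.2 ⟨d, hxU d⟩
  refine ⟨V, V.2, hxV, (t.finite_toSet.biUnion fun d _ => hfin d).subset ?_⟩
  rintro n ⟨y, hy, hyV⟩
  have hmem : i (ξ n) ∈ (V : Set X) := (specializes_iff_mem_closure.2 hy).mem_open V.2 hyV
  obtain ⟨d, hd, hxd⟩ := Set.mem_iUnion₂.1 (ht hmem)
  exact Set.mem_biUnion hd ⟨ξ n, subset_closure (Set.mem_singleton _), hxd⟩

end Groth.Agent.Lib.Cyc.PP.OpenImm
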