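import Groth.Agent.Lib.Cyc.PP.C1Push
import Groth.Agent.Lib.Cyc.PP.SubSetup
import Groth.Agent.Lib.Ideal.Comap
import Groth.Agent.Lib.Cyc.Dev.Scheme

/-!
# Gysin maps and proper direct image
-/

set_option autoImplicit false
set_option linter.style.haveILetI false
universe u

open CategoryTheory CategoryTheory.Limits AlgebraicGeometry IsLocalRing

namespace Groth.Agent.Lib.Cyc.PP.GysPush

open Groth.Agent.Lib Groth.Agent.Lib.Cyc

variable {X X' D : Scheme.{u}}

theorem ker_stalkMap_eq (i : D ⟶ X) [IsClosedImmersion i] (U : X.affineOpens) (d : D) (hd : i d ∈ U.1) :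
    RingHom.ker (i.stalkMap d).hom = (i.ker.ideal U).map (X.presheaf.germ U.1 (i d) hd).hom := by
  refine le_antisymm (Dev.SchemeCase.ker_stalkMap_le i U d hd) ?_
  rw [Ideal.map_le_iff_le_comap]
  intro r hr
  rw [Scheme.Hom.ker_apply, RingHom.mem_ker] at hr
  show (i.stalkMap d).hom _ = 0
  rw [Scheme.Hom.germ_stalkMap_apply, hr, map_zero]

variable (f : X' ⟶ X) (i : D ⟶ X) [IsClosedImmersion i] {L : X.Modules}
  {s : L.presheaf.obj (Opposite.op ⊤)}

theorem mem_range_fst (x : X') : x ∈ Set.range ⇑(pullback.fst f i) ↔ f x ∈ Set.range ⇑i := by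
  rw [Scheme.Pullback.range_fst]; rfl

theorem cond_apply (z : (pullback f i : Scheme.{u})) :
    f (pullback.fst f i z) = i (pullback.snd f i z) := by
  rw [← Scheme.Hom.comp_apply, pullback.condition, Scheme.Hom.comp_apply]

/-- The base change of the zero scheme is cut out by the pulled back equation. -/
theorem exists_coeff (hD : Cyc.IsZeroSchemeOf i L s) (z : (pullback f i : Scheme.{u})) :
    ∃ (t : L.presheaf.stalk (f (pullback.fst f i z))) (a : X.presheaf.stalk (f (pullback.fst f i z))),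
      Submodule.span (X.presheaf.stalk (f (pullback.fst f i z))) {t} = ⊤ ∧
        L.presheaf.germ ⊤ (f (pullback.fst f i z)) trivial s = a • t ∧
        RingHom.ker ((pullback.fst f i).stalkMap z).hom =
          Ideal.span {f.stalkMap (pullback.fst f i z) a} := by
  obtain ⟨U, V, hU, hV, -, -, e⟩ := Ideal.Comap.exists_affine_le_preimage f (pullback.fst f i z)
    (W := ⊤) trivial (U := ⊤) trivial
  have key : ∀ (y : X) (hy : y ∈ U.1) (d : D), y = i d →
      ∃ (t : L.presheaf.stalk y) (a : X.presheaf.stalk y),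
        Submodule.span (X.presheaf.stalk y) {t} = ⊤ ∧ L.presheaf.germ ⊤ y trivial s = a • t ∧
        (i.ker.ideal U).map (X.presheaf.germ U.1 y hy).hom = Ideal.span {a} := by
    rintro y hy d rfl
    obtain ⟨t, a, ht, hs, hker⟩ := hD.2 d
    exact ⟨t, a, ht, hs, (ker_stalkMap_eq i U d hy).symm.trans hker⟩
  obtain ⟨t, a, ht, hs, hI⟩ := key _ hU (pullback.snd f i z) (cond_apply f i z)
  refine ⟨t, a, ht, hs, ?_⟩
  have hg : f.appLE U.1 V.1 e ≫ X'.presheaf.germ V.1 (pullback.fst f i z) hV =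
      X.presheaf.germ U.1 (f (pullback.fst f i z)) hU ≫ f.stalkMap (pullback.fst f i z) := by
    rw [Scheme.Hom.germ_stalkMap, Scheme.Hom.appLE, Category.assoc, TopCat.Presheaf.germ_res]
  rw [ker_stalkMap_eq (pullback.fst f i) V z hV, Scheme.IdealSheafData.ker_fst_of_isClosedImmersion,
    Ideal.Comap.ideal_comap f _ U V e, Ideal.map_map, ← CommRingCat.hom_comp, hg,
    CommRingCat.hom_comp, ← Ideal.map_map, hI, Ideal.map_span, Set.image_singleton]

variable [IsLocallyNoetherian X'] {δ' : X' → ℤ}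

/-- Two sections with the same zero scheme have the same divisor outside of it. -/
theorem secDivFun_eq (hX' : Cyc.IsDimFun X' δ') (hL : PicF.IsInvertible L)
    (hD : Cyc.IsZeroSchemeOf i L s)
    {s' : ((Scheme.Modules.pullback f).obj L).presheaf.obj (Opposite.op ⊤)}
    (hD' : Cyc.IsZeroSchemeOf (pullback.fst f i) ((Scheme.Modules.pullback f).obj L) s') (ξ : X')
    (hξ : ξ ∉ Set.range ⇑(pullback.fst f i))
    (hne : C1Push.pullSec f ξ (L.presheaf.germ ⊤ (f ξ) trivial s) ≠ 0) (x : X') :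
    Cyc.secDivFun δ' ((Scheme.Modules.pullback f).obj L) ξ
        (C1Push.pullSec f ξ (L.presheaf.germ ⊤ (f ξ) trivial s)) x =
      Cyc.secDivFun δ' ((Scheme.Modules.pullback f).obj L) ξ
        (Submodule.Quotient.mk
          (((Scheme.Modules.pullback f).obj L).presheaf.germ ⊤ ξ trivial s')) x := by
  have hL' : PicF.IsInvertible ((Scheme.Modules.pullback f).obj L) := PicLoc.isInvertible_pullback f hL
  by_cases h : ξ ⤳ x ∧ δ' x + 1 = δ' ξ
  swap
  · rw [Cyc.secDivFun, Cyc.secDivFun, dif_neg h, dif_neg h]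
  rw [Cyc.secDivFun, Cyc.secDivFun, dif_pos h, dif_pos h]
  have hne' : (Submodule.Quotient.mk (((Scheme.Modules.pullback f).obj L).presheaf.germ ⊤ ξ trivial s') : Cyc.secFibre ((Scheme.Modules.pullback f).obj L) ξ) ≠ 0 :=
    fun h0 => hξ (hD'.1 ▸ h0)
  obtain ⟨t, a, t', b, ht, hs, ht', hs', hab⟩ :
      ∃ (t : L.presheaf.stalk (f x)) (a : X.presheaf.stalk (f x)) (t' : ((Scheme.Modules.pullback f).obj L).presheaf.stalk x)
        (b : X'.presheaf.stalk x),
        Submodule.span (X.presheaf.stalk (f x)) {t} = ⊤ ∧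
        L.presheaf.germ ⊤ (f x) trivial s = a • t ∧
        Submodule.span (X'.presheaf.stalk x) {t'} = ⊤ ∧
        ((Scheme.Modules.pullback f).obj L).presheaf.germ ⊤ x trivial s' = b • t' ∧
        (Ideal.span {f.stalkMap x a} : Ideal (X'.presheaf.stalk x)) = Ideal.span {b} := by
    by_cases hx : x ∈ Set.range ⇑(pullback.fst f i)
    · obtain ⟨z, rfl⟩ := hx
      obtain ⟨t, a, ht, hs, hker⟩ := exists_coeff f i hD z
      obtain ⟨t', b, ht', hs', hker'⟩ := hD'.2 z
      exact ⟨t, a, t', b, ht, hs, ht', hs', hker.symm.trans hker'⟩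
    · obtain ⟨t, a, ht, hs⟩ := Gys.MulMap.exists_coeff L s hL (f x)
      obtain ⟨t', b, ht', hs'⟩ := Gys.MulMap.exists_coeff ((Scheme.Modules.pullback f).obj L) s' hL' x
      refine ⟨t, a, t', b, ht, hs, ht', hs', ?_⟩
      have ha : IsUnit a := Gys.MulMap.isUnit_coeff L s hD
        (fun hc => hx ((mem_range_fst f i x).2 hc)) hs
      rw [Ideal.span_singleton_eq_top.2 (ha.map (f.stalkMap x).hom),
        Ideal.span_singleton_eq_top.2 (Gys.MulMap.isUnit_coeff ((Scheme.Modules.pullback f).obj L) s' hD' hx hs')]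
  have hd : δ' ξ ≤ δ' x + 1 := h.2.ge
  have e₁ : C1Push.pullSec f ξ (L.presheaf.germ ⊤ (f ξ) trivial s) =
      X'.presheaf.stalkSpecializes h.1 (f.stalkMap x a) •
        (Submodule.Quotient.mk (((Scheme.Modules.pullback f).obj L).presheaf.stalkSpecializes h.1
          (DerivedOX.PullbackStalk.unitStalk f x L t)) : Cyc.secFibre ((Scheme.Modules.pullback f).obj L) ξ) := by
    rw [← ConcreteCategory.congr_hom (TopCat.Presheaf.germ_stalkSpecializes L.presheaf
      (U := ⊤) trivial (h.1.map f.continuous)) s, ConcreteCategory.comp_apply, hs,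
      C1.stalkSpecializes_smul, C1Push.pullSec_smul, Gys.Closed.unitStalk_specializes,
      Scheme.Hom.stalkSpecializes_stalkMap_apply]
    rfl
  have e₂ : (Submodule.Quotient.mk (((Scheme.Modules.pullback f).obj L).presheaf.germ ⊤ ξ trivial s') : Cyc.secFibre ((Scheme.Modules.pullback f).obj L) ξ) =
      X'.presheaf.stalkSpecializes h.1 b •
        (Submodule.Quotient.mk (((Scheme.Modules.pullback f).obj L).presheaf.stalkSpecializes h.1 t') : Cyc.secFibre ((Scheme.Modules.pullback f).obj L) ξ) := by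
    rw [← ConcreteCategory.congr_hom (TopCat.Presheaf.germ_stalkSpecializes ((Scheme.Modules.pullback f).obj L).presheaf
      (U := ⊤) trivial h.1) s', ConcreteCategory.comp_apply, hs', C1.stalkSpecializes_smul]
    rfl
  rw [C1Indep.secOrdAt_eq hX' hL' x ξ h.1 hd _ hne _ (Gys.Closed.exists_gen_pullback f L x t ht) _ e₁,
    C1Indep.secOrdAt_eq hX' hL' x ξ h.1 hd _ hne' t' ht' _ e₂]
  have n₁ : Cyc.specMap x ξ h.1 (f.stalkMap x a) ≠ 0 := C1Indep.residue_ne_zero_of_smul hne e₁
  have n₂ : Cyc.specMap x ξ h.1 b ≠ 0 := C1Indep.residue_ne_zero_of_smul hne' e₂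
  refine (Ord.ordAt_specMap hX' x ξ h.1 hd _ n₁).trans (Eq.trans ?_
    (Ord.ordAt_specMap hX' x ξ h.1 hd _ n₂).symm)
  have hspan : (Ideal.span {Ideal.Quotient.mk _ (f.stalkMap x a)} : Ideal (Cyc.LocQuot x ξ h.1)) =
      Ideal.span {Ideal.Quotient.mk _ b} := by
    simpa only [Ideal.map_span, Set.image_singleton] using
      congrArg (Ideal.map (Ideal.Quotient.mk (RingHom.ker (Cyc.specMap x ξ h.1)))) hab
  simp only [Ring.ord]
  exact congrArg (fun n : ℕ∞ => (n.toNat : ℤ)) (Submodule.quotEquivOfEq _ _ hspan).length_eq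

variable [IsLocallyNoetherian X] {δ : X → ℤ} {k : ℤ} [IsProper f]

/-- `i^* f_* = g_* i'^*`. -/
theorem ratEquiv_gysin_map (hX : Cyc.IsDimFun X δ) (hX' : Cyc.IsDimFun X' δ')
    (hδ : Cyc.DeltaCompat f δ' δ) (hL : PicF.IsInvertible L) (hD : Cyc.IsZeroSchemeOf i L s)
    {s' : ((Scheme.Modules.pullback f).obj L).presheaf.obj (Opposite.op ⊤)}
    (hD' : Cyc.IsZeroSchemeOf (pullback.fst f i) ((Scheme.Modules.pullback f).obj L) s')
    {α' : AlgebraicCycle X' ℤ} (hα' : α' ∈ Cyc.Zk X' δ' (k + 1))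
    (w : (ξ : X) → Cyc.secFibre L ξ) (hw : ∀ ξ, w ξ ≠ 0)
    (w' : (ξ : X') → Cyc.secFibre ((Scheme.Modules.pullback f).obj L) ξ) (hw' : ∀ ξ, w' ξ ≠ 0)
    (γ : AlgebraicCycle D ℤ)
    (hγ : ∀ d, γ d = Cyc.c1CapFun δ L ⇑(AlgebraicCycle.map f δ' δ α') (Cyc.gysinChoice L s w) (i d))
    (γ' : AlgebraicCycle (pullback f i) ℤ)
    (hγ' : ∀ z, γ' z = Cyc.c1CapFun δ' ((Scheme.Modules.pullback f).obj L) ⇑α'
      (Cyc.gysinChoice ((Scheme.Modules.pullback f).obj L) s' w') (pullback.fst f i z)) :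
    Cyc.RatEquiv (fun d => δ (i d)) k γ (AlgebraicCycle.map (pullback.snd f i)
      (fun z => δ' (pullback.fst f i z)) (fun d => δ (i d)) γ') := by
  classical
  let i' := pullback.fst f i
  let g := pullback.snd f i
  haveI : IsLocallyNoetherian D := LocallyOfFiniteType.isLocallyNoetherian i
  haveI : IsLocallyNoetherian (pullback f i : Scheme.{u}) := LocallyOfFiniteType.isLocallyNoetherian i'
  have hL' : PicF.IsInvertible ((Scheme.Modules.pullback f).obj L) := PicLoc.isInvertible_pullback f hL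
  have hδD := Gys.Closed.isDimFun i hX
  have hδD' := Gys.Closed.isDimFun i' hX'
  have hgc : Cyc.DeltaCompat g (fun z => δ' (i' z)) (fun d => δ (i d)) := fun z => by
    obtain ⟨n, hn, hn'⟩ := Residue.exists_trdegAt hδ (i' z)
    refine ⟨n, ?_, ?_⟩
    · have h1 := FieldDim.trdegAt_congr (pullback.condition (f := f) (g := i)) z
      rw [Residue.trdegAt_comp, Residue.trdegAt_comp,
        FieldDim.trdegAt_eq_zero_of_surjective i' z (FieldDim.residueFieldMap_surjective (f := i') z),
        FieldDim.trdegAt_eq_zero_of_surjective i (g z)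
          (FieldDim.residueFieldMap_surjective (f := i) (g z)), add_zero, zero_add, hn] at h1
      exact h1.symm
    · show δ' (i' z) = δ (i (g z)) + n
      rw [hn']
      exact congrArg (fun q => δ q + (n : ℤ)) (cond_apply f i z)
  -- sections
  obtain ⟨wl, hwl, hwp⟩ := C1Push.exists_sections f hL w hw
  let sg : (η : X) → L.presheaf.stalk η := fun η =>
    if (Submodule.Quotient.mk (L.presheaf.germ ⊤ η trivial s) : Cyc.secFibre L η) ≠ 0 then
      L.presheaf.germ ⊤ η trivial s else wl η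
  have hsg : ∀ η, Submodule.Quotient.mk (sg η) = Cyc.gysinChoice L s w η := fun η => by
    simp only [sg, Cyc.gysinChoice]
    split_ifs <;> first | rfl | exact hwl η
  have hgne := Gys.Cycle.gysinChoice_ne_zero (s := s) hw
  have hgne' := Gys.Cycle.gysinChoice_ne_zero (s := s') hw'
  let u : (ξ : X') → Cyc.secFibre ((Scheme.Modules.pullback f).obj L) ξ := fun ξ => C1Push.pullSec f ξ (sg (f ξ))
  have hu : ∀ ξ, u ξ ≠ 0 := by
    intro ξ hz
    obtain ⟨t, ht, -⟩ := C1Indep.exists_free_gen hL (f ξ)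
    obtain ⟨a, ha⟩ := Submodule.mem_span_singleton.1
      (show sg (f ξ) ∈ Submodule.span (X.presheaf.stalk (f ξ)) {t} by rw [ht]; trivial)
    have hau : IsUnit a := by
      by_contra hu
      refine hgne (f ξ) ?_
      rw [← hsg, ← ha, Submodule.Quotient.mk_eq_zero]
      exact Submodule.smul_mem_smul ((mem_maximalIdeal a).2 hu) trivial
    have hz' : C1Push.pullSec f ξ (a • t) = 0 := ha ▸ hz
    rw [C1Push.pullSec_smul] at hz'
    exact C1Indep.mk_ne_zero hL' ξ (Gys.Closed.exists_gen_pullback f L ξ t ht)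
      ((hau.map (f.stalkMap ξ).hom).smul_eq_zero.1 hz')
  obtain ⟨Γ, hΓ⟩ := Gys.C1.exists_cap hX' hL' hα' u hu
  let γu := Gys.C1.pullCycle i' Γ
  -- the push forward
  have h1 : AlgebraicCycle.map g (fun z => δ' (i' z)) (fun d => δ (i d)) γu = γ := by
    refine Function.locallyFinsuppWithin.ext fun d => ?_
    have hc := C1Push.map_cap f hX' hX hδ hL hα' (Cyc.gysinChoice L s w) hgne sg hsg hu Γ hΓ (i d)
    rw [hγ, ← hc, ← Gys.Closed.map_apply_image i (δ := δ), Push.map_map_apply g i _ _ _ hgc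
      (SubSetup.deltaCompat i)]
    have e : ∀ (q : (pullback f i : Scheme.{u}) ⟶ X) [QuasiCompact q], q = i' ≫ f →
        AlgebraicCycle.map q (fun z => δ' (i' z)) δ γu =
          AlgebraicCycle.map f δ' δ (AlgebraicCycle.map i' (fun z => δ' (i' z)) δ' γu) := by
      intro q _ hq
      subst hq
      exact (Push.map_map_apply i' f _ _ _ (SubSetup.deltaCompat i') hδ γu).symm
    rw [e (g ≫ i) pullback.condition.symm, Push.map_apply, Push.map_apply]
    refine finsum_mem_congr rfl fun x hx => ?_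
    obtain ⟨z, rfl⟩ := (mem_range_fst f i x).2 ⟨d, (Set.mem_singleton_iff.1 hx).symm⟩
    rw [Gys.Closed.map_apply_image]
    rfl
  -- inside
  let a := Gys.C1.pullCycle i' α'
  have ha : a ∈ Cyc.Zk (pullback f i) (fun z => δ' (i' z)) (k + 1) := fun z hz => hα' _ hz
  choose φ hφ0 hφ using fun ξ => C1Indep.exists_smul_eq hL' ξ
    (Cyc.gysinChoice ((Scheme.Modules.pullback f).obj L) s' w' ξ) (u ξ) (hgne' ξ) (hu ξ)
  have h2 : Cyc.RatEquiv (fun z => δ' (i' z)) k γu γ' := by
    refine C1Indep.ratEquivZero_sum hδD' ha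
      (fun e => i'.residueFieldMap e (X'.residue (i' e) (φ (i' e))))
      (fun e _ h0 => hφ0 (i' e) ((Gys.Closed.residue_bijective i' e).1 (h0.trans (map_zero _).symm)))
      fun z => ?_
    rw [Function.locallyFinsuppWithin.coe_sub, Pi.sub_apply, hγ']
    show Γ (i' z) - _ = _
    rw [hΓ, Cyc.c1CapFun, Cyc.c1CapFun]
    dsimp only
    rw [← finsum_sub_distrib
      (C1Indep.finite_support_mul α' _ _ fun ξ h => dif_neg fun hc => h hc.1)
      (C1Indep.finite_support_mul α' _ _ fun ξ h => dif_neg fun hc => h hc.1)]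
    refine Eq.trans ?_ ((finsum_mem_range (f := fun ξ => α' ξ *
      Cyc.divFun δ' ξ (X'.residue ξ (φ ξ)) (i' z)) (Gys.Closed.injective i')).trans
      (finsum_congr fun e => ?_))
    · rw [finsum_mem_def]
      refine finsum_congr fun ξ => ?_
      by_cases hξ : ξ ∈ Set.range ⇑i'
      · rw [Set.indicator_of_mem hξ, hφ ξ,
          C1Indep.secDivFun_smul hX' hL' ξ _ (hgne' ξ) (φ ξ) (hφ0 ξ), Pi.add_apply]
        ring
      · rw [Set.indicator_of_notMem hξ]
        have hfξ : (Submodule.Quotient.mk (L.presheaf.germ ⊤ (f ξ) trivial s) :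
            Cyc.secFibre L (f ξ)) ≠ 0 := fun h0 => hξ ((mem_range_fst f i ξ).2 (hD.1 ▸ h0))
        have hne' : (Submodule.Quotient.mk (((Scheme.Modules.pullback f).obj L).presheaf.germ ⊤ ξ trivial s') :
            Cyc.secFibre ((Scheme.Modules.pullback f).obj L) ξ) ≠ 0 := fun h0 => hξ (hD'.1 ▸ h0)
        have hu' : u ξ = C1Push.pullSec f ξ (L.presheaf.germ ⊤ (f ξ) trivial s) := by
          simp only [u, sg, if_pos hfξ]
        rw [show Cyc.gysinChoice ((Scheme.Modules.pullback f).obj L) s' w' ξ = Submodule.Quotient.mk (((Scheme.Modules.pullback f).obj L).presheaf.germ ⊤ ξ trivial s')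
          from if_pos hne', hu', secDivFun_eq f i hX' hL hD hD' ξ hξ (hu' ▸ hu ξ), sub_self]
    · show α' (i' e) * _ = a e * _
      rw [Gys.Closed.divFun_map i' hX']
      rfl
  have h3 := Main.ratEquivZero_map g hδD' hδD hgc h2
  rw [Cyc.RatEquiv, ← h1]
  convert h3 using 1
  refine Function.locallyFinsuppWithin.ext fun d => ?_
  exact (Div.map_sub_apply g _ _ d).symm

end Groth.Agent.Lib.Cyc.PP.GysPush
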