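import Groth.Agent.Lib.Cyc.PP.Fibre
import Groth.Agent.Lib.Cyc.C1K.Family
import Groth.Agent.Lib.Cyc.Retr.Family
import Groth.Agent.Lib.Cyc.Gys.Rat

/-!
# Direct images of principal divisors of contracted subvarieties
-/

set_option autoImplicit false
set_option linter.style.haveILetI false
universe u

open CategoryTheory CategoryTheory.Limits AlgebraicGeometry TopologicalSpace Opposite IsLocalRing

namespace Groth.Agent.Lib.Cyc.PP.Div

open Groth.Agent.Lib Groth.Agent.Lib.Cyc Groth.Agent.Lib.Modules.StalkModule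

variable {X Y : Scheme.{u}} (p : X ⟶ Y) {δX : X → ℤ} {δY : Y → ℤ} {k : ℤ}

theorem map_sub_apply [QuasiCompact p] (α β : AlgebraicCycle X ℤ) (y : Y) :
    AlgebraicCycle.map p δX δY (α - β) y =
      AlgebraicCycle.map p δX δY α y - AlgebraicCycle.map p δX δY β y := by
  rw [Push.map_apply, Push.map_apply, Push.map_apply, eq_sub_iff_add_eq, ← finsum_mem_add_distrib']
  · exact finsum_mem_congr rfl fun x _ => by
      rw [Function.locallyFinsuppWithin.coe_sub, Pi.sub_apply]
      ring
  · exact (Push.finite_fiber_support p (α - β) y).subset fun x hx => ⟨hx.1, left_ne_zero_of_mul hx.2⟩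
  · exact (Push.finite_fiber_support p β y).subset fun x hx => ⟨hx.1, left_ne_zero_of_mul hx.2⟩

variable [IsProper p] [IsLocallyNoetherian X]

/-- `p_* div(f) = 0` at every point when the subvariety is contracted. -/
theorem finsum_divFun_eq_zero (hX : Cyc.IsDimFun X δX) (hY : Cyc.IsDimFun Y δY)
    (hδ : Cyc.DeltaCompat p δX δY) {ξ : X} (hξ : δX ξ = k + 1) (hc : δY (p ξ) ≤ k)
    (f : X.residueField ξ) (hf : f ≠ 0) (y : Y) :
    ∑ᶠ x ∈ ⇑p ⁻¹' {y}, Cyc.divFun δX ξ f x * (AlgebraicCycle.mapCoeff p δX δY x : ℤ) = 0 := by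
  classical
  obtain ⟨c, rfl⟩ := X.residue_surjective ξ f
  have hcu : IsUnit c := by
    by_contra hne
    exact hf ((IsLocalRing.residue_eq_zero_iff _).2 ((mem_maximalIdeal c).2 hne))
  by_cases hy : δY y = k ∧ p ξ = y
  · obtain ⟨hyk, hpξ⟩ := hy
    haveI := Retr.Witness.mono_quot hcu
    have hu : Cyc.CohLe δX k (cokernel (Retr.Witness.incl ξ c)) := Retr.Witness.cohLe_cokernel hX hξ _
      Retr.Witness.isCoh_cokernel_incl (Retr.Witness.surjective_incl_self hcu)
    have hv : Cyc.CohLe δX k (cokernel (Retr.Witness.quot hcu)) := Retr.Witness.cohLe_cokernel hX hξ _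
      (Retr.Witness.isCoh_cokernel_quot hcu) (Retr.Witness.surjective_quot_self hcu)
    have kO : PreImm.Killed (p.fiberι y) (Cyc.closureStructureSheaf ξ) := by
      intro z a ha m
      by_cases hsp : ξ ⤳ p.fiberι y z
      swap
      · exact (Retr.Witness.stalk_trivial_of_not_specializes hsp).elim _ _
      refine Retr.Witness.injective_specializes hsp ?_
      rw [map_zero, C1.stalkSpecializes_smul]
      refine Retr.Witness.smul_eq_zero_of_mem ξ ?_ _
      obtain ⟨z₀, hz₀⟩ := (p.range_fiberι y).symm.subset (show ξ ∈ ⇑p ⁻¹' {y} from hpξ)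
      subst hz₀
      have hzz : z₀ ⤳ z := (p.fiberι y).isEmbedding.isInducing.specializes_iff.1 hsp
      have e := ConcreteCategory.congr_hom
        (Scheme.Hom.stalkSpecializes_stalkMap (p.fiberι y) z₀ z hzz) a
      simp only [CommRingCat.comp_apply] at e
      rw [mem_maximalIdeal, mem_nonunits_iff]
      intro hu
      have h1 := hu.map ((p.fiberι y).stalkMap z₀).hom
      erw [e, ha, map_zero] at h1
      exact not_isUnit_zero h1
    have key := Fibre.map_cokernel_eq p y hX hδ (Retr.Witness.incl ξ c) (Retr.Witness.quot hcu)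
      (Retr.Witness.isCoh_J ξ c) (Devissage.Closure.isCoh_closureStructureSheaf ξ) kO hu hv hyk
    rw [← sub_eq_zero, ← map_sub_apply, Push.map_apply] at key
    refine Eq.trans (finsum_mem_congr rfl fun x _ => ?_) key
    rw [Retr.Witness.divFun_eq hcu hX hξ x]
    rfl
  · refine finsum_mem_eq_zero_of_forall_eq_zero fun x hx => ?_
    have hxy : p x = y := hx
    by_contra hne
    obtain ⟨h1, h2⟩ := mul_ne_zero_iff.1 hne
    have hk : ξ ⤳ x ∧ δX x + 1 = δX ξ := by
      by_contra h
      exact h1 (dif_neg h)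
    have hm : δX x = δY (p x) := by
      by_contra h
      exact h2 (by simp [AlgebraicCycle.mapCoeff, h])
    rw [hxy] at hm
    have hyk : δY y = k := by omega
    have hsp : p ξ ⤳ y := hxy ▸ hk.1.map p.continuous
    exact hy ⟨hyk, DimFun.eq_of_specializes_of_le hY hsp (by omega)⟩

end Groth.Agent.Lib.Cyc.PP.Div
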