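import Groth.Agent.Lib.Cyc.PP.FinStalk
import Groth.Agent.Lib.SurfInt.Bound
import Groth.Agent.Lib.Snapper.Finite

/-!
# The Euler characteristic of a module with finite support
-/

set_option autoImplicit false
set_option linter.style.haveILetI false
universe u

open CategoryTheory CategoryTheory.Limits AlgebraicGeometry TopologicalSpace Opposite IsLocalRing

namespace Groth.Agent.Lib.Cyc.PP.Count

open Groth.Agent.Lib Groth.Agent.Lib.Cyc Groth.Agent.Lib.Modules.StalkModule

variable {X : Scheme.{u}}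

/-- Sections of a module with discrete finite support are tuples of stalk elements. -/
theorem bijective_germs (Q : X.Modules) (S : Set X) (hfin : S.Finite)
    (hcl : ∀ z ∈ S, IsClosed ({z} : Set X)) (hS : ∀ z, z ∉ S → Subsingleton (Q.presheaf.stalk z)) :
    Function.Bijective fun (m : Γ(Q, ⊤)) (z : S) => Q.presheaf.germ ⊤ z.1 trivial m := by
  classical
  refine ⟨fun a b hab => RefHull.SecHom.sec_ext fun x hx => ?_, fun v => ?_⟩
  · by_cases h : x ∈ S
    · exact congrFun hab ⟨x, h⟩
    · exact @Subsingleton.elim _ (hS x h) _ _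
  let g : ∀ x : (⊤ : X.Opens), Q.presheaf.stalk x.1 :=
    fun x => if h : x.1 ∈ S then v ⟨x.1, h⟩ else 0
  have hclS : ∀ T ⊆ S, IsClosed T := fun T hT => by
    rw [← Set.biUnion_of_singleton T]
    exact (hfin.subset hT).isClosed_biUnion fun z hz => hcl z (hT hz)
  obtain ⟨m, hm⟩ := RefHull.SecHom.exists_glue (M := Q) ⊤ g fun x => by
    by_cases hx : x.1 ∈ S
    · obtain ⟨W, hxW, n, hn⟩ := TopCat.Presheaf.exists_germ_eq Q.presheaf (v ⟨x.1, hx⟩)
      refine ⟨W ⊓ ⟨(S \ {x.1})ᶜ, (hclS _ Set.sdiff_subset).isOpen_compl⟩,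
        ⟨hxW, fun h => h.2 rfl⟩, le_top, Q.presheaf.map (homOfLE inf_le_left).op n, fun z => ?_⟩
      refine Eq.trans ?_ (TopCat.Presheaf.germ_res_apply Q.presheaf _ _ _ n).symm
      by_cases hz : z.1 ∈ S
      · have he : z.1 = x.1 := by_contra fun hc => z.2.2 ⟨hz, hc⟩
        obtain ⟨z, hzW, hz'⟩ := z
        dsimp only at he hz ⊢
        subst he
        exact (dif_pos hx).trans hn.symm
      · exact @Subsingleton.elim _ (hS _ hz) _ _
    · refine ⟨⟨Sᶜ, (hclS S le_rfl).isOpen_compl⟩, hx, le_top, 0, fun z => ?_⟩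
      exact @Subsingleton.elim _ (hS _ z.2) _ _
  exact ⟨m, funext fun z => (hm ⟨z.1, trivial⟩).trans (dif_pos z.2)⟩

variable {K : Type u} [Field K] [X.Over (Spec (CommRingCat.of K))]

/-- `χ(Q) = Σ [κ(z) : K] · length Q_z`. -/
theorem euler_eq_sum [LocallyOfFiniteType (X ↘ Spec (CommRingCat.of K))] [IsNoetherian X]
    (Q : X.Modules) [SheafOfModules.IsFiniteType (R := X.ringCatSheaf) Q]
    (hfin : {z | Nontrivial (Q.presheaf.stalk z)}.Finite)
    (hres : ∀ z, Nontrivial (Q.presheaf.stalk z) →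
      ((X ↘ Spec (CommRingCat.of K)).residueFieldMap z).hom.Finite)
    (hlen : ∀ z, Nontrivial (Q.presheaf.stalk z) →
      Module.length (X.presheaf.stalk z) (Q.presheaf.stalk z) ≠ ⊤) (d : ℕ) :
    FGA.eulerCharLE K X Q d = ∑ z ∈ hfin.toFinset,
      ((Module.length (X.presheaf.stalk z) (Q.presheaf.stalk z)).toNat : ℤ) *
        ((X ↘ Spec (CommRingCat.of K)).residueDegree z : ℤ) := by
  classical
  let c := X ↘ Spec (CommRingCat.of K)
  set S := {z : X | Nontrivial (Q.presheaf.stalk z)}
  have hsupp : CohB1.support Q = S := Set.ext fun z =>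
    ⟨fun h => not_subsingleton_iff_nontrivial.1 h, fun h => not_subsingleton_iff_nontrivial.2 h⟩
  have hSc : IsClosed S := hsupp ▸ Modules.Support.isClosed_support Q
  have hS : ∀ z, z ∉ S → Subsingleton (Q.presheaf.stalk z) := fun z hz =>
    not_nontrivial_iff_subsingleton.1 hz
  have hcl : ∀ z ∈ S, IsClosed ({z} : Set X) := fun z hz =>
    SurfInt.Bound.isClosed_singleton_of_finite c hSc hfin hz
  rw [SurfInt.Bound.eulerCharLE_of_finite Q hSc hfin hsupp.subset]
  haveI := hfin.fintype
  letI := Curves.GlobalSections.secModule K Q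
  letI : ∀ z : S, Module K (Q.presheaf.stalk z.1) := fun z =>
    Module.compHom _ ((X.presheaf.germ ⊤ z.1 trivial).hom.comp (Coh.toGlobal c))
  let e : (Q.val.obj (op ⊤) : Type u) →ₗ[K] ∀ z : S, Q.presheaf.stalk z.1 :=
    { toFun := fun m z => Q.presheaf.germ ⊤ z.1 trivial m
      map_add' := fun a b => funext fun z => map_add (Q.presheaf.germ ⊤ z.1 trivial).hom a b
      map_smul' := fun a m => funext fun z =>
        Modules.StalkModule.germ_smul (M := Q) (U := (⊤ : X.Opens)) (x := z.1) trivial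
          (Coh.toGlobal c a) m }
  have hl : ∀ z : S, Module.length K (Q.presheaf.stalk z.1) =
      Module.length (X.presheaf.stalk z.1) (Q.presheaf.stalk z.1) * (c.residueDegree z.1 : ℕ∞) :=
    fun z => by
    rw [← FinStalk.length_restrict c Q (rfl : c z.1 = c z.1) (hres z.1 z.2)]
    letI := Module.compHom (Q.presheaf.stalk z.1) (FinStalk.ringTo c (rfl : c z.1 = c z.1))
    let τ : K →+* (Spec (CommRingCat.of K)).presheaf.stalk (c z.1) :=
      ((Spec (CommRingCat.of K)).presheaf.germ ⊤ (c z.1) trivial).hom.comp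
        (Scheme.ΓSpecIso (CommRingCat.of K)).inv.hom
    have hτ : Function.Surjective τ := fun t => by
      obtain ⟨U, hU, r, rfl⟩ := TopCat.Presheaf.exists_germ_eq (Spec (CommRingCat.of K)).presheaf t
      obtain rfl : U = ⊤ := top_le_iff.1 fun w _ => Subsingleton.elim (α := PrimeSpectrum K) (c z.1) w ▸ hU
      exact ⟨(Scheme.ΓSpecIso (CommRingCat.of K)).hom r,
        congrArg _ (Iso.hom_inv_id_apply (Scheme.ΓSpecIso (CommRingCat.of K)) r)⟩
    letI := τ.toAlgebra
    haveI : IsScalarTower K ((Spec (CommRingCat.of K)).presheaf.stalk (c z.1))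
        (Q.presheaf.stalk z.1) := IsScalarTower.of_algebraMap_smul fun a m => by
      show FinStalk.ringTo c (rfl : c z.1 = c z.1) (τ a) • m = _
      rw [RingHom.comp_apply, FinStalk.ringTo_germ]
      rfl
    exact Module.length_eq_of_surjective hτ
  have hne : ∀ z : S, Module.length K (Q.presheaf.stalk z.1) ≠ ⊤ := fun z => by
    rw [hl]
    exact WithTop.mul_ne_top (hlen z.1 z.2) (WithTop.natCast_ne_top _)
  have hlenΓ : Module.length K (Q.val.obj (op ⊤) : Type u) =
      ∑ z : S, Module.length (X.presheaf.stalk z.1) (Q.presheaf.stalk z.1) * (c.residueDegree z.1 : ℕ∞) := by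
    rw [(LinearEquiv.ofBijective e (bijective_germs Q S hfin hcl hS)).length_eq,
      Module.length_pi_of_fintype]
    exact Finset.sum_congr rfl fun z _ => hl z
  haveI : ∀ z : S, Module.Finite K (Q.presheaf.stalk z.1) := fun z => by
    haveI := (isFiniteLength_iff_isNoetherian_isArtinian.1 (Module.length_ne_top_iff.1 (hne z))).1
    infer_instance
  haveI : Module.Finite K (Q.val.obj (op ⊤) : Type u) :=
    Module.Finite.equiv (LinearEquiv.ofBijective e (bijective_germs Q S hfin hcl hS)).symm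
  rw [(Curves.GlobalSections.h0Linear K Q).finrank_eq]
  have h1 := Module.length_eq_finrank (K := K) (M := (Q.val.obj (op ⊤) : Type u))
  rw [hlenΓ] at h1
  have h2 : (∑ z : S, Module.length (X.presheaf.stalk z.1) (Q.presheaf.stalk z.1) *
      (c.residueDegree z.1 : ℕ∞)).toNat = Module.finrank K (Q.val.obj (op ⊤) : Type u) :=
    (congrArg ENat.toNat h1).trans (ENat.toNat_natCast _)
  have h3 := (FinStalk.toNat_sum Finset.univ (fun z : S =>
    Module.length (X.presheaf.stalk z.1) (Q.presheaf.stalk z.1) * (c.residueDegree z.1 : ℕ∞))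
    fun z _ => WithTop.mul_ne_top (hlen z.1 z.2) (WithTop.natCast_ne_top _)).symm.trans h2
  rw [← h3, Nat.cast_sum, Finset.sum_subtype (p := (· ∈ S)) hfin.toFinset
    (fun z => Set.Finite.mem_toFinset _)]
  exact Finset.sum_congr rfl fun z _ => by rw [ENat.toNat_mul, ENat.toNat_natCast, Nat.cast_mul]

end Groth.Agent.Lib.Cyc.PP.Count
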