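import Groth.Agent.Lib.Cyc.SheafLen
import Groth.Agent.Lib.Cyc.C1
import Groth.Agent.Lib.StalkLoc.Basic

/-!
# The stalk at a generalisation is a localisation of the stalk
-/

set_option autoImplicit false
set_option linter.style.haveILetI false
universe u

open CategoryTheory AlgebraicGeometry IsLocalRing

namespace Groth.Agent.Lib.Cyc.PP.StalkLocal

open Groth.Agent.Lib Groth.Agent.Lib.Cyc

variable {X : Scheme.{u}}

theorem length_localized {M : X.Modules} (hM : Coh.IsCoh M) {q p : X} (h : q ⤳ p) :
    Module.length (Localization.AtPrime (DimFun.genPrime p q h).asIdeal)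
        (LocalizedModule (DimFun.genPrime p q h).asIdeal.primeCompl (M.presheaf.stalk p)) =
      Module.length (X.presheaf.stalk q) (M.presheaf.stalk q) := by
  have := hM.1
  obtain ⟨_, ⟨U, hU, rfl⟩, hpU, -⟩ :=
    X.isBasis_affineOpens.exists_subset_of_mem_open (Set.mem_univ p) isOpen_univ
  have hqU : q ∈ U := h.mem_open U.2 hpU
  set Q := (DimFun.genPrime p q h).asIdeal with hQdef
  letI algS : Algebra (X.presheaf.stalk p) (X.presheaf.stalk q) :=
    (X.presheaf.stalkSpecializes h).hom.toAlgebra
  have hunit : ∀ c : X.presheaf.stalk p, c ∉ Q → IsUnit (algebraMap (X.presheaf.stalk p) (X.presheaf.stalk q) c) :=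
    fun c hc => by
      by_contra hu
      exact hc ((IsLocalRing.residue_eq_zero_iff _).2 ((mem_maximalIdeal _).2 hu))
  have hnot : ∀ a : Γ(X, U), q ∈ X.basicOpen a → X.presheaf.germ U p hpU a ∉ Q := fun a ha hmem => by
    have e : X.presheaf.stalkSpecializes h (X.presheaf.germ U p hpU a) = X.presheaf.germ U q hqU a :=
      ConcreteCategory.congr_hom (TopCat.Presheaf.germ_stalkSpecializes X.presheaf hpU h) a
    have h0 : X.residue q (X.presheaf.stalkSpecializes h (X.presheaf.germ U p hpU a)) = 0 := hmem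
    rw [e] at h0
    exact (((X.mem_basicOpen a q hqU).mp ha).map (X.residue q).hom).ne_zero h0
  have es : ∀ a : Γ(X, U), algebraMap (X.presheaf.stalk p) (X.presheaf.stalk q)
      (X.presheaf.germ U p hpU a) = X.presheaf.germ U q hqU a := fun a =>
    ConcreteCategory.congr_hom (TopCat.Presheaf.germ_stalkSpecializes X.presheaf hpU h) a
  have em : ∀ t : Γ(M, U), M.presheaf.stalkSpecializes h (M.presheaf.germ U p hpU t) =
      M.presheaf.germ U q hqU t := fun t =>
    ConcreteCategory.congr_hom (TopCat.Presheaf.germ_stalkSpecializes M.presheaf hpU h) t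
  letI modS : Module (X.presheaf.stalk p) (M.presheaf.stalk q) :=
    Module.compHom _ (X.presheaf.stalkSpecializes h).hom
  haveI : IsScalarTower (X.presheaf.stalk p) (X.presheaf.stalk q) (M.presheaf.stalk q) :=
    IsScalarTower.of_algebraMap_smul fun _ _ => rfl
  let l : M.presheaf.stalk p →ₗ[X.presheaf.stalk p] M.presheaf.stalk q :=
    { toFun := M.presheaf.stalkSpecializes h
      map_add' := map_add _
      map_smul' := fun r v => C1.stalkSpecializes_smul M h r v }
  haveI hloc : IsLocalizedModule Q.primeCompl l := by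
    refine ⟨fun c => ?_, fun v => ?_, fun {v w} e => ?_⟩
    · obtain ⟨u, hu⟩ := hunit c.1 c.2
      rw [Module.End.isUnit_iff]
      refine ⟨fun v w e => ?_, fun v => ⟨(↑u⁻¹ : X.presheaf.stalk q) • v, ?_⟩⟩
      · have e' : (u : X.presheaf.stalk q) • v = (u : X.presheaf.stalk q) • w := by rw [hu]; exact e
        exact (smul_left_cancel_iff u).1 e'
      · show algebraMap (X.presheaf.stalk p) (X.presheaf.stalk q) c.1 • ((↑u⁻¹ : X.presheaf.stalk q) • v) = v
        rw [← hu, smul_smul, Units.mul_inv, one_smul]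
    · obtain ⟨a, t, ha, hat⟩ := StalkLoc.Basic.exists_smul_eq_germ hU hqU v
      refine ⟨(M.presheaf.germ U p hpU t, ⟨_, hnot a ha⟩), ?_⟩
      show algebraMap (X.presheaf.stalk p) (X.presheaf.stalk q) (X.presheaf.germ U p hpU a) • v =
        M.presheaf.stalkSpecializes h _
      rw [es, hat, em]
    · obtain ⟨a, t, ha, hat⟩ := StalkLoc.Basic.exists_smul_eq_germ hU hpU (v - w)
      have h0 : M.presheaf.germ U q hqU t = 0 := by
        rw [← em, ← hat, C1.stalkSpecializes_smul, map_sub,
          (sub_eq_zero.2 e : M.presheaf.stalkSpecializes h v - M.presheaf.stalkSpecializes h w = 0),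
          smul_zero]
      obtain ⟨b, hb, hbt⟩ := (StalkLoc.Basic.germ_eq_zero_iff hU hqU t).1 h0
      refine ⟨⟨X.presheaf.germ U p hpU b * X.presheaf.germ U p hpU a,
        fun hm => ((RingHom.ker_isPrime (Cyc.specMap p q h)).mem_or_mem hm).elim (hnot b hb)
          (hnot a (h.mem_open (X.basicOpen a).2 ha))⟩, ?_⟩
      rw [← sub_eq_zero, ← smul_sub, Submonoid.smul_def, mul_smul, hat,
        ← Modules.StalkModule.germ_smul hpU b t, hbt, map_zero]
  let σ : Localization.AtPrime Q →+* X.presheaf.stalk q :=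
    IsLocalization.lift (M := Q.primeCompl) (g := algebraMap (X.presheaf.stalk p) (X.presheaf.stalk q))
      fun c => hunit c.1 c.2
  have hσ : Function.Surjective σ := by
    intro y
    let := (X.presheaf.germ U q hqU).hom.toAlgebra
    have := hU.isLocalization_stalk ⟨q, hqU⟩
    obtain ⟨⟨r, s⟩, hrs⟩ := IsLocalization.surj (hU.primeIdealOf ⟨q, hqU⟩).asIdeal.primeCompl y
    have hsu : IsUnit (X.presheaf.germ U q hqU (s : Γ(X, U))) :=
      IsLocalization.map_units (X.presheaf.stalk q) s
    have hs : X.presheaf.germ U p hpU (s : Γ(X, U)) ∈ Q.primeCompl :=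
      hnot _ ((X.mem_basicOpen _ q hqU).2 hsu)
    refine ⟨IsLocalization.mk' _ (X.presheaf.germ U p hpU r) ⟨_, hs⟩, ?_⟩
    rw [IsLocalization.lift_mk'_spec, es, es, mul_comm]
    exact hrs.symm
  letI : Algebra (Localization.AtPrime Q) (X.presheaf.stalk q) := σ.toAlgebra
  letI : Module (Localization.AtPrime Q) (M.presheaf.stalk q) := Module.compHom _ σ
  haveI : IsScalarTower (Localization.AtPrime Q) (X.presheaf.stalk q) (M.presheaf.stalk q) :=
    IsScalarTower.of_algebraMap_smul fun _ _ => rfl
  haveI : IsScalarTower (X.presheaf.stalk p) (Localization.AtPrime Q) (M.presheaf.stalk q) := by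
    refine IsScalarTower.of_algebraMap_smul fun r v => ?_
    show σ (algebraMap _ _ r) • v = _
    rw [IsLocalization.lift_eq]
    rfl
  exact ((IsLocalizedModule.iso Q.primeCompl l).extendScalarsOfIsLocalization Q.primeCompl
    (Localization.AtPrime Q)).length_eq.trans (Module.length_eq_of_surjective hσ)

end Groth.Agent.Lib.Cyc.PP.StalkLocal
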