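import Groth.Agent.Lib.Cyc.PP.Norm
import Groth.Agent.Lib.Cyc.Gys.C1

/-!
# Proper direct image and `c₁`
-/

set_option autoImplicit false
set_option linter.style.haveILetI false
universe u

open CategoryTheory CategoryTheory.Limits AlgebraicGeometry IsLocalRing

namespace Groth.Agent.Lib.Cyc.PP.C1Push

open Groth.Agent.Lib Groth.Agent.Lib.Cyc Groth.Agent.Lib.Modules.StalkModule

variable {X Y : Scheme.{u}} (p : X ⟶ Y) {L : Y.Modules}

/-- The pullback of a rational section. -/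
noncomputable def pullSec (ξ : X) (w : L.presheaf.stalk (p ξ)) :
    Cyc.secFibre ((Scheme.Modules.pullback p).obj L) ξ :=
  Submodule.Quotient.mk (DerivedOX.PullbackStalk.unitStalk p ξ L w)

theorem pullSec_smul (ξ : X) (a : Y.presheaf.stalk (p ξ)) (w : L.presheaf.stalk (p ξ)) :
    pullSec p ξ (a • w) = (p.stalkMap ξ).hom a • pullSec p ξ w :=
  congrArg Submodule.Quotient.mk (map_smul (DerivedOX.PullbackStalk.unitStalk p ξ L).hom a w)

theorem exists_sections (hL : PicF.IsInvertible L) (v : (η : Y) → Cyc.secFibre L η)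
    (hv : ∀ η, v η ≠ 0) :
    ∃ w : (η : Y) → L.presheaf.stalk η, (∀ η, Submodule.Quotient.mk (w η) = v η) ∧
      ∀ ξ : X, pullSec p ξ (w (p ξ)) ≠ 0 := by
  choose w hw using fun η => Submodule.Quotient.mk_surjective _ (v η)
  refine ⟨w, hw, fun ξ hz => ?_⟩
  obtain ⟨t, ht, -⟩ := C1Indep.exists_free_gen hL (p ξ)
  obtain ⟨a, ha⟩ := Submodule.mem_span_singleton.1
    (show w (p ξ) ∈ Submodule.span (Y.presheaf.stalk (p ξ)) {t} by rw [ht]; trivial)
  have hau : IsUnit a := by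
    by_contra hu
    refine hv (p ξ) ?_
    rw [← hw, ← ha, Submodule.Quotient.mk_eq_zero]
    exact Submodule.smul_mem_smul ((mem_maximalIdeal a).2 hu) trivial
  rw [← ha, pullSec_smul] at hz
  exact C1Indep.mk_ne_zero (PicLoc.isInvertible_pullback p hL) ξ (Gys.Closed.exists_gen_pullback p L ξ t ht)
    ((hau.map (p.stalkMap ξ).hom).smul_eq_zero.1 hz)

variable [IsProper p] [IsLocallyNoetherian X] [IsLocallyNoetherian Y] {δX : X → ℤ} {δY : Y → ℤ}
  {k : ℤ}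

theorem divFun_pow (hY : Cyc.IsDimFun Y δY) {η : Y} (g : Y.residueField η) (hg : g ≠ 0) (n : ℕ)
    (y : Y) : Cyc.divFun δY η (g ^ n) y = n * Cyc.divFun δY η g y := by
  induction n with
  | zero => rw [pow_zero, C1.divFun_one hY η, Pi.zero_apply, Nat.cast_zero, zero_mul]
  | succ n ih =>
    rw [pow_succ, Ord.divFun_mul hY η _ _ (pow_ne_zero _ hg) hg, Pi.add_apply, ih]
    push_cast
    ring

/-- Over a point the pulled back section has the divisor of a function of the base. -/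
theorem exists_eq_divFun (hX : Cyc.IsDimFun X δX) (hY : Cyc.IsDimFun Y δY) (hL : PicF.IsInvertible L)
    {ξ : X} (w : L.presheaf.stalk (p ξ))
    (hw : (Submodule.Quotient.mk w : Cyc.secFibre L (p ξ)) ≠ 0) (hw' : pullSec p ξ w ≠ 0) {y : Y}
    (hsp : p ξ ⤳ y) :
    ∃ ψ : Y.residueField (p ξ), ψ ≠ 0 ∧ p.residueFieldMap ξ ψ ≠ 0 ∧
      (δY y + 1 = δY (p ξ) →
        Cyc.secDivFun δY L (p ξ) (Submodule.Quotient.mk w) y = Cyc.divFun δY (p ξ) ψ y) ∧
      ∀ x ∈ ⇑p ⁻¹' {y}, Cyc.secDivFun δX ((Scheme.Modules.pullback p).obj L) ξ (pullSec p ξ w) x =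
        Cyc.divFun δX ξ (p.residueFieldMap ξ ψ) x := by
  obtain ⟨t, ht, -⟩ := C1Indep.exists_free_gen hL y
  obtain ⟨φ, hφ⟩ := Submodule.mem_span_singleton.1
    (show w ∈ Submodule.span (Y.presheaf.stalk (p ξ)) {L.presheaf.stalkSpecializes hsp t} by
      rw [C1Indep.span_stalkSpecializes hL hsp ht]; trivial)
  have hsφ : (Submodule.Quotient.mk w : Cyc.secFibre L (p ξ)) = φ •
      (Submodule.Quotient.mk (L.presheaf.stalkSpecializes hsp t) : Cyc.secFibre L (p ξ)) := by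
    rw [← hφ]; rfl
  let ψ := Y.residue (p ξ) φ
  have hψ : ψ ≠ 0 := C1Indep.residue_ne_zero_of_smul hw hsφ
  have hψ' : p.residueFieldMap ξ ψ ≠ 0 := fun h0 => hψ ((p.residueFieldMap ξ).hom.injective
    (h0.trans (map_zero _).symm))
  refine ⟨ψ, hψ, hψ', fun hd => ?_, fun x hx => ?_⟩
  · rw [Cyc.secDivFun, Cyc.divFun, dif_pos ⟨hsp, hd⟩, dif_pos ⟨hsp, hd⟩,
      C1Indep.secOrdAt_eq hY hL y (p ξ) hsp hd.ge _ hw t ht φ hsφ]
  have hxy : p x = y := hx
  subst hxy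
  have hres : p.residueFieldMap ξ ψ = X.residue ξ (p.stalkMap ξ φ) :=
    ConcreteCategory.congr_hom (Scheme.residue_residueFieldMap p ξ) φ
  by_cases h : ξ ⤳ x ∧ δX x + 1 = δX ξ
  swap
  · rw [Cyc.secDivFun, Cyc.divFun, dif_neg h, dif_neg h]
  rw [Cyc.secDivFun, Cyc.divFun, dif_pos h, dif_pos h, hres]
  refine C1Indep.secOrdAt_eq hX (PicLoc.isInvertible_pullback p hL) x ξ h.1 h.2.ge _ hw'
    (DerivedOX.PullbackStalk.unitStalk p x L t) (Gys.Closed.exists_gen_pullback p L x t ht) _ ?_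
  rw [Gys.Closed.unitStalk_specializes]
  refine (congrArg (pullSec p ξ) hφ.symm).trans ?_
  rw [pullSec_smul]
  rfl

/-- One subvariety. -/
theorem finsum_secDivFun (hX : Cyc.IsDimFun X δX) (hY : Cyc.IsDimFun Y δY)
    (hδ : Cyc.DeltaCompat p δX δY) (hL : PicF.IsInvertible L) {ξ : X} (hξ : δX ξ = k + 1)
    (w : L.presheaf.stalk (p ξ)) (hw : (Submodule.Quotient.mk w : Cyc.secFibre L (p ξ)) ≠ 0)
    (hw' : pullSec p ξ w ≠ 0) (y : Y) :
    ∑ᶠ x ∈ ⇑p ⁻¹' {y}, Cyc.secDivFun δX ((Scheme.Modules.pullback p).obj L) ξ (pullSec p ξ w) x *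
        (AlgebraicCycle.mapCoeff p δX δY x : ℤ) =
      (AlgebraicCycle.mapCoeff p δX δY ξ : ℤ) * Cyc.secDivFun δY L (p ξ) (Submodule.Quotient.mk w) y := by
  classical
  have hle := Residue.deltaY_le hδ ξ
  by_cases hy : p ξ ⤳ y ∧ δY y = k
  swap
  · refine (finsum_mem_eq_zero_of_forall_eq_zero fun x hx => ?_).trans ?_
    · have hxy : p x = y := hx
      by_contra hne
      obtain ⟨h1, h2⟩ := mul_ne_zero_iff.1 hne
      have hk : ξ ⤳ x ∧ δX x + 1 = δX ξ := by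
        by_contra h
        exact h1 (dif_neg h)
      have hm : δX x = δY (p x) := by
        by_contra h
        exact h2 (by simp [AlgebraicCycle.mapCoeff, h])
      rw [hxy] at hm
      exact hy ⟨hxy ▸ hk.1.map p.continuous, by omega⟩
    · symm
      by_contra hne
      obtain ⟨h1, h2⟩ := mul_ne_zero_iff.1 hne
      have hk : p ξ ⤳ y ∧ δY y + 1 = δY (p ξ) := by
        by_contra h
        exact h2 (dif_neg h)
      have hm : δX ξ = δY (p ξ) := by
        by_contra h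
        exact h1 (by simp [AlgebraicCycle.mapCoeff, h])
      exact hy ⟨hk.1, by omega⟩
  obtain ⟨hsp, hyk⟩ := hy
  obtain ⟨ψ, hψ, hψ', hd, hterm⟩ := exists_eq_divFun p (δX := δX) (δY := δY) hX hY hL w hw hw' hsp
  rw [finsum_mem_congr rfl fun x hx => congrArg (· * (AlgebraicCycle.mapCoeff p δX δY x : ℤ)) (hterm x hx)]
  by_cases hfin : δY (p ξ) = k + 1
  · rw [Norm.map_divFun p hX hY hδ hξ hfin _ hψ' y, AlgebraicCycle.mapCoeff,
      if_pos (show δX ξ = δY (p ξ) by omega)]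
    have hn : Cyc.normGen p ξ (p.residueFieldMap ξ ψ) = ψ ^ p.residueDegree ξ := by
      letI := (p.residueFieldMap ξ).hom.toAlgebra
      exact Algebra.norm_algebraMap (S := X.residueField ξ) ψ
    rw [hn, divFun_pow hY ψ hψ]
    rw [hd (by omega)]
  · rw [Div.finsum_divFun_eq_zero p hX hY hδ hξ (by omega) _ hψ' y, AlgebraicCycle.mapCoeff,
      if_neg (show ¬ δX ξ = δY (p ξ) by omega), Nat.cast_zero, zero_mul]

/-- `p_*(c₁(p^*L) ∩ α) = c₁(L) ∩ p_*α` for pulled back sections. -/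
theorem map_cap (hX : Cyc.IsDimFun X δX) (hY : Cyc.IsDimFun Y δY)
    (hδ : Cyc.DeltaCompat p δX δY) (hL : PicF.IsInvertible L) {α : AlgebraicCycle X ℤ}
    (hα : α ∈ Cyc.Zk X δX (k + 1)) (v : (η : Y) → Cyc.secFibre L η) (hv : ∀ η, v η ≠ 0)
    (w : (η : Y) → L.presheaf.stalk η) (hw : ∀ η, Submodule.Quotient.mk (w η) = v η)
    (hw' : ∀ ξ : X, pullSec p ξ (w (p ξ)) ≠ 0) (γ : AlgebraicCycle X ℤ)
    (hγ : ⇑γ = Cyc.c1CapFun δX ((Scheme.Modules.pullback p).obj L) ⇑α fun ξ => pullSec p ξ (w (p ξ)))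
    (y : Y) :
    AlgebraicCycle.map p δX δY γ y = Cyc.c1CapFun δY L ⇑(AlgebraicCycle.map p δX δY α) v y := by
  classical
  set L' := (Scheme.Modules.pullback p).obj L
  let u := fun ξ => pullSec p ξ (w (p ξ))
  choose U hxU hfinU using fun x => C1K.Comm.finite_nhd α x
  obtain ⟨t, ht⟩ := (Scheme.Hom.isCompact_preimage_singleton p y).elim_finite_subcover
    (fun x => (U x : Set X)) (fun x => (U x).2) fun x _ => Set.mem_iUnion.2 ⟨x, hxU x⟩
  have hN : {ξ | α ξ ≠ 0 ∧ ∃ x, p x = y ∧ ξ ⤳ x}.Finite := by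
    refine (t.finite_toSet.biUnion fun i _ => hfinU i).subset fun ξ hξ => ?_
    obtain ⟨h0, x, hx, hsp⟩ := hξ
    obtain ⟨i, hi, hxi⟩ := Set.mem_iUnion₂.1 (ht hx)
    exact Set.mem_biUnion hi ⟨hsp.mem_open (U i).2 hxi, h0⟩
  rw [Push.map_apply]
  have h1 : ∀ x ∈ ⇑p ⁻¹' {y}, γ x * (AlgebraicCycle.mapCoeff p δX δY x : ℤ) =
      ∑ ξ ∈ hN.toFinset, α ξ * (Cyc.secDivFun δX L' ξ (u ξ) x *
        (AlgebraicCycle.mapCoeff p δX δY x : ℤ)) := fun x hx => by
    rw [hγ, Cyc.c1CapFun, finsum_eq_sum_of_support_subset (s := hN.toFinset) _ fun ξ hξ =>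
      hN.mem_toFinset.2 ⟨left_ne_zero_of_mul hξ, x, hx, by_contra fun h =>
        right_ne_zero_of_mul hξ (dif_neg fun hc => h hc.1)⟩, Finset.sum_mul]
    exact Finset.sum_congr rfl fun ξ _ => mul_assoc _ _ _
  rw [finsum_mem_congr rfl h1, Main.finsum_mem_finset_comm]
  swap
  · intro ξ _
    by_cases hsp : p ξ ⤳ y
    · obtain ⟨ψ, -, -, -, hψ⟩ := exists_eq_divFun p (δX := δX) (δY := δY) hX hY hL (w (p ξ))
        (by rw [hw]; exact hv _) (hw' ξ) hsp
      choose U' hU' hxU' hfin' using Ord.exists_open_finite_divFun hX ξ (p.residueFieldMap ξ ψ)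
      obtain ⟨t', ht'⟩ := (Scheme.Hom.isCompact_preimage_singleton p y).elim_finite_subcover
        U' hU' fun x _ => Set.mem_iUnion.2 ⟨x, hxU' x⟩
      refine (t'.finite_toSet.biUnion fun i _ => hfin' i).subset fun x hx => ?_
      obtain ⟨i, hi, hxi⟩ := Set.mem_iUnion₂.1 (ht' hx.1)
      refine Set.mem_biUnion hi ⟨hxi, ?_⟩
      rw [Function.mem_support, ← hψ x hx.1]
      exact left_ne_zero_of_mul (right_ne_zero_of_mul hx.2)
    · refine Set.finite_empty.subset fun x hx => ?_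
      refine hsp ?_
      have h0 : Cyc.secDivFun δX L' ξ (u ξ) x ≠ 0 := left_ne_zero_of_mul (right_ne_zero_of_mul hx.2)
      have hk : ξ ⤳ x ∧ δX x + 1 = δX ξ := by
        by_contra h
        exact h0 (dif_neg h)
      exact (show p x = y from hx.1) ▸ hk.1.map p.continuous
  refine (Finset.sum_congr rfl fun ξ hξ => ?_).trans ?_ (b := ∑ ξ ∈ hN.toFinset,
    α ξ * (AlgebraicCycle.mapCoeff p δX δY ξ : ℤ) * Cyc.secDivFun δY L (p ξ) (v (p ξ)) y)
  · have h0 := (hN.mem_toFinset.1 hξ).1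
    have hk : δX ξ = k + 1 := by by_contra hne; exact h0 (hα ξ hne)
    rw [← mul_finsum_mem, finsum_secDivFun p hX hY hδ hL hk _ (by rw [hw]; exact hv _) (hw' ξ) y, hw,
      mul_assoc]
  let F := fun η => Cyc.secDivFun δY L η (v η) y
  show ∑ ξ ∈ hN.toFinset, α ξ * (AlgebraicCycle.mapCoeff p δX δY ξ : ℤ) * F (p ξ) = _
  rw [Cyc.c1CapFun, ← Finset.sum_fiberwise_of_maps_to (t := hN.toFinset.image ⇑p)
    (fun ξ hξ => Finset.mem_image_of_mem _ hξ)]
  have hmem : ∀ ξ, α ξ ≠ 0 → p ξ ⤳ y → ξ ∈ hN.toFinset := fun ξ h0 hsp => hN.mem_toFinset.2 ⟨h0, by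
    obtain ⟨x, hx, hxy⟩ := hsp.mem_closed (p.isClosedMap _ (isClosed_closure (s := ({ξ} : Set X)))) ⟨ξ, subset_closure rfl, rfl⟩
    exact ⟨x, hxy, specializes_iff_mem_closure.2 hx⟩⟩
  have hF : ∀ η, F η ≠ 0 → η ⤳ y := fun η h => by
    by_contra hsp
    exact h (dif_neg fun hc => hsp hc.1)
  rw [finsum_eq_sum_of_support_subset (s := hN.toFinset.image ⇑p) _ ?_]
  · refine Finset.sum_congr rfl fun η _ => ?_
    by_cases hFη : F η = 0
    · rw [show Cyc.secDivFun δY L η (v η) y = 0 from hFη, mul_zero]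
      exact Finset.sum_eq_zero fun ξ hξ => by rw [(Finset.mem_filter.1 hξ).2, hFη, mul_zero]
    · rw [Push.map_apply, finsum_mem_eq_sum_of_inter_support_eq
        (t := hN.toFinset.filter fun ξ => p ξ = η) _ ?_, Finset.sum_mul]
      · exact Finset.sum_congr rfl fun ξ hξ => by rw [(Finset.mem_filter.1 hξ).2]
      · ext ξ
        simp only [Set.mem_inter_iff, Set.mem_preimage, Set.mem_singleton_iff, Function.mem_support,
          Finset.coe_filter, Set.mem_setOf_eq]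
        refine ⟨fun h => ⟨⟨hmem ξ (left_ne_zero_of_mul h.2) (h.1 ▸ hF η hFη), h.1⟩, h.2⟩,
          fun h => ⟨h.1.2, h.2⟩⟩
  · intro η hη
    obtain ⟨h1, h2⟩ := mul_ne_zero_iff.1 hη
    rw [Push.map_apply] at h1
    obtain ⟨ξ, hξ, hne⟩ := exists_ne_zero_of_finsum_mem_ne_zero h1
    exact Finset.mem_coe.2 (Finset.mem_image.2 ⟨ξ, hmem ξ (left_ne_zero_of_mul hne)
      ((show p ξ = η from hξ) ▸ hF η h2), hξ⟩)

end Groth.Agent.Lib.Cyc.PP.C1Push
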