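import Groth.Agent.Lib.Cyc.Retr.Idx
import Groth.Agent.Lib.Cyc.Ord
import Mathlib.LinearAlgebra.Matrix.Transvection
import Mathlib.LinearAlgebra.Determinant
import Mathlib.RingTheory.Artinian.Module
import Mathlib.Algebra.BigOperators.WithTop

/-!
# The index of a lattice in its image is the order of the determinant
-/

set_option autoImplicit false
universe u

open Module Submodule Groth.Agent.Lib.Cyc.Retr.Idx

namespace Groth.Agent.Lib.Cyc.PP.DetOrd

variable {R : Type u} [CommRing R] [IsDomain R] [IsNoetherianRing R] [Ring.KrullDimLE 1 R]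
  {K : Type u} [Field K] [Algebra R K] [IsFractionRing R K]
  {V : Type u} [AddCommGroup V] [Module K V] [Module R V] [IsScalarTower R K V]

/-- A finitely generated submodule spanning the space. -/
def IsLattice (K : Type u) [Field K] [Module K V] (M : Submodule R V) : Prop :=
  M.FG ∧ Submodule.span K (M : Set V) = ⊤

omit [IsNoetherianRing R] [Ring.KrullDimLE 1 R] in
theorem exists_smul_mem {B : Submodule R V} (hB : IsLattice K B) (v : V) :
    ∃ r : R, r ≠ 0 ∧ r • v ∈ B := by
  have hv : v ∈ Submodule.span K (B : Set V) := hB.2 ▸ trivial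
  induction hv using Submodule.span_induction with
  | mem x hx => exact ⟨1, one_ne_zero, B.smul_mem 1 hx⟩
  | zero => exact ⟨1, one_ne_zero, by rw [smul_zero]; exact B.zero_mem⟩
  | add x y _ _ hx hy =>
    obtain ⟨r, hr, hrx⟩ := hx
    obtain ⟨s, hs, hsy⟩ := hy
    refine ⟨r * s, mul_ne_zero hr hs, ?_⟩
    rw [smul_add, mul_smul, mul_smul, smul_comm r s x]
    exact B.add_mem (B.smul_mem s hrx) (B.smul_mem r hsy)
  | smul a x _ hx =>
    obtain ⟨r, hr, hrx⟩ := hx
    obtain ⟨⟨p, q⟩, hpq⟩ := IsLocalization.surj (nonZeroDivisors R) a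
    dsimp only at hpq
    refine ⟨r * q, mul_ne_zero hr (nonZeroDivisors.ne_zero q.2), ?_⟩
    have e : (r * (q : R)) • (a • x) = p • (r • x) := by
      rw [← algebraMap_smul K (r * (q : R)) (a • x), smul_smul, map_mul, mul_assoc,
        mul_comm (algebraMap R K (q : R)), hpq, ← map_mul, algebraMap_smul, mul_comm r p, mul_smul]
    rw [e]
    exact B.smul_mem p hrx

omit [IsFractionRing R K] in
theorem qlen_lt_top {A B : Submodule R V} (hA : A.FG)
    (h : ∀ v : V, ∃ r : R, r ≠ 0 ∧ r • v ∈ B) : qlen A B < ⊤ := by
  classical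
  haveI : Module.Finite R A := Module.Finite.iff_fg.2 hA
  obtain ⟨n, s, hs⟩ := Module.Finite.exists_fin (R := R) (M := (↥A ⧸ B.comap A.subtype))
  have hr : ∀ i, ∃ r : R, r ≠ 0 ∧ r • s i = 0 := fun i => by
    obtain ⟨a, ha⟩ := Submodule.Quotient.mk_surjective _ (s i)
    obtain ⟨r, hr, hra⟩ := h a.1
    exact ⟨r, hr, by rw [← ha, ← Submodule.Quotient.mk_smul, Submodule.Quotient.mk_eq_zero]; exact hra⟩
  choose r hr0 hr using hr
  let g : (∀ i : Fin n, R ⧸ Ideal.span {r i}) →ₗ[R] ↥A ⧸ B.comap A.subtype :=
    LinearMap.lsum R (fun i => R ⧸ Ideal.span {r i}) R fun i =>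
      Submodule.liftQ _ (LinearMap.toSpanSingleton R _ (s i)) (by
        rw [Ideal.span, Submodule.span_le, Set.singleton_subset_iff, SetLike.mem_coe,
          LinearMap.mem_ker, LinearMap.toSpanSingleton_apply]
        exact hr i)
  have hg : Function.Surjective g := by
    rw [← LinearMap.range_eq_top, eq_top_iff, ← hs, Submodule.span_le]
    rintro _ ⟨i, rfl⟩
    refine ⟨Pi.single i (Submodule.Quotient.mk 1), ?_⟩
    rw [LinearMap.lsum_piSingle, Submodule.liftQ_apply, LinearMap.toSpanSingleton_apply, one_smul]
  refine lt_of_le_of_lt (Module.length_le_of_surjective g hg) ?_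
  rw [Module.length_pi_of_fintype]
  refine WithTop.sum_lt_top.2 fun i _ => lt_top_iff_ne_top.2 (Module.length_ne_top_iff.2
    (isFiniteLength_quotient_span_singleton R (mem_nonZeroDivisors_of_ne_zero (hr0 i))))

theorem comm {A B : Submodule R V} (hA : IsLattice K A) (hB : IsLattice K B) : Comm A B :=
  ⟨qlen_lt_top hA.1 (exists_smul_mem hB), qlen_lt_top hB.1 (exists_smul_mem hA)⟩

omit [IsDomain R] [IsNoetherianRing R] [Ring.KrullDimLE 1 R] [IsFractionRing R K] in
theorem IsLattice.map {M : Submodule R V} (hM : IsLattice K M) (φ : V →ₗ[K] V)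
    (hφ : Function.Surjective φ) : IsLattice K (M.map (φ.restrictScalars R)) := by
  refine ⟨hM.1.map _, ?_⟩
  rw [Submodule.map_coe, LinearMap.coe_restrictScalars, ← Submodule.map_span, hM.2,
    Submodule.map_top, LinearMap.range_eq_top.2 hφ]

/-- The index of a lattice in its image. -/
noncomputable def h (L : Submodule R V) (φ : V →ₗ[K] V) : ℤ := idx L (L.map (φ.restrictScalars R))

omit [IsFractionRing R K] [Ring.KrullDimLE 1 R] in
theorem bijective_of_det {ι : Type*} [Fintype ι] [DecidableEq ι] (b : Basis ι K V) (φ : V →ₗ[K] V)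
    (hφ : LinearMap.det φ ≠ 0) : Function.Bijective φ := by
  haveI := Module.Finite.of_basis b
  exact (LinearMap.equivOfDetNeZero φ hφ).bijective

section Basis

variable {ι : Type u} [Fintype ι] [DecidableEq ι] (b : Basis ι K V)

omit [IsDomain R] [IsNoetherianRing R] [Ring.KrullDimLE 1 R] [IsFractionRing R K] in
theorem isLattice_span : IsLattice K (Submodule.span R (Set.range b)) :=
  ⟨Submodule.fg_span (Set.finite_range b), by
    rw [eq_top_iff, ← b.span_eq, Submodule.span_le]
    rintro _ ⟨i, rfl⟩
    exact Submodule.subset_span (Submodule.subset_span ⟨i, rfl⟩)⟩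

theorem h_comp {L : Submodule R V} (hL : IsLattice K L) (φ ψ : V →ₗ[K] V)
    (hφ : Function.Bijective φ) (hψ : Function.Bijective ψ) : h L (φ ∘ₗ ψ) = h L φ + h L ψ := by
  have h1 := hL.map φ hφ.2
  have h2 := (hL.map ψ hψ.2).map φ hφ.2
  rw [h, h, h, show (L.map ((φ ∘ₗ ψ).restrictScalars R)) =
      (L.map (ψ.restrictScalars R)).map (φ.restrictScalars R) from
      Submodule.map_comp (ψ.restrictScalars R) (φ.restrictScalars R) L,
    ← idx_trans (comm hL h1) (comm h1 h2), idx_map_of_injective (φ.restrictScalars R) hφ.1]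

/-- The scaling of one coordinate. -/
noncomputable def scale (i : ι) (c : K) : V →ₗ[K] V :=
  Matrix.toLin b b (Matrix.diagonal (Function.update 1 i c))

omit [Ring.KrullDimLE 1 R] [IsNoetherianRing R] [IsDomain R] [IsFractionRing R K] in
theorem scale_repr (i : ι) (c : K) (v : V) (j : ι) :
    b.repr (scale b i c v) j = Function.update (1 : ι → K) i c j * b.repr v j := by
  rw [scale, Matrix.toLin_apply]
  simp [Matrix.mulVec_diagonal, Finsupp.single_apply]

theorem scale_mul (i : ι) (c d : K) : scale b i (c * d) = scale b i c ∘ₗ scale b i d := by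
  refine LinearMap.ext fun v => b.ext_elem fun j => ?_
  rw [LinearMap.comp_apply, scale_repr, scale_repr, scale_repr, ← mul_assoc]
  congr 1
  rcases eq_or_ne j i with rfl | hj
  · simp
  · simp [Function.update_of_ne hj]

theorem scale_bijective (i : ι) {c : K} (hc : c ≠ 0) : Function.Bijective (scale b i c) := by
  refine bijective_of_det b _ ?_
  rw [scale, LinearMap.det_toLin, Matrix.det_diagonal]
  refine Finset.prod_ne_zero_iff.2 fun j _ => ?_
  rcases eq_or_ne j i with rfl | hj
  · simpa using hc
  · simp [Function.update_of_ne hj]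

theorem h_scale_algebraMap (i : ι) {a : R} (ha : a ≠ 0) :
    h (Submodule.span R (Set.range b)) (scale b i (algebraMap R K a)) =
      ((Ring.ord R a).toNat : ℤ) := by
  let L := Submodule.span R (Set.range b)
  let f : V →ₗ[R] K := (b.coord i).restrictScalars R
  have hmem : ∀ v, v ∈ L ↔ ∀ j, b.repr v j ∈ (algebraMap R K).range := fun v => b.mem_span_iff_repr_mem R v
  have hne : algebraMap R K a ≠ 0 :=
    (map_ne_zero_iff _ (IsFractionRing.injective R K)).2 ha
  have hle : L.map ((scale b i (algebraMap R K a)).restrictScalars R) ≤ L := by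
    rintro _ ⟨v, hv, rfl⟩
    rw [hmem]
    intro j
    rw [LinearMap.restrictScalars_apply, scale_repr]
    refine Subring.mul_mem _ ?_ ((hmem v).1 hv j)
    rcases eq_or_ne j i with rfl | hj
    · simp
    · rw [Function.update_of_ne hj]; exact Subring.one_mem _
  have hker : L ⊓ LinearMap.ker f ≤ L.map ((scale b i (algebraMap R K a)).restrictScalars R) := by
    rintro v ⟨hv, hv0⟩
    refine ⟨v, hv, b.ext_elem fun j => ?_⟩
    rw [LinearMap.restrictScalars_apply, scale_repr]
    rcases eq_or_ne j i with rfl | hj
    · rw [show b.repr v j = 0 from hv0, mul_zero]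
    · rw [Function.update_of_ne hj, Pi.one_apply, one_mul]
  rw [h, idx_of_le hle, qlen_map_add hle f, qlen_of_le (le_inf hker inf_le_right), zero_add]
  congr 2
  have e1 : L.map f = Submodule.span R {(1 : K)} := by
    refine le_antisymm ?_ ((Submodule.span_singleton_le_iff_mem _ _).2
      ⟨b i, Submodule.subset_span ⟨i, rfl⟩, by simp [f]⟩)
    rintro _ ⟨v, hv, rfl⟩
    obtain ⟨r, hr⟩ := (hmem v).1 hv i
    exact Submodule.mem_span_singleton.2 ⟨r, (Algebra.smul_def r 1).trans ((mul_one _).trans hr)⟩
  have e2 : (L.map ((scale b i (algebraMap R K a)).restrictScalars R)).map f =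
      Submodule.span R {a • (1 : K)} := by
    have : f ∘ₗ (scale b i (algebraMap R K a)).restrictScalars R = (LinearMap.lsmul R K a) ∘ₗ f := by
      refine LinearMap.ext fun v => ?_
      show b.repr (scale b i (algebraMap R K a) v) i = a • b.repr v i
      rw [scale_repr, Function.update_self, Algebra.smul_def]
    rw [← Submodule.map_comp, this, Submodule.map_comp, e1, Submodule.map_span, Set.image_singleton]
    rfl
  rw [e1, e2]
  let g := LinearMap.toSpanSingleton R K 1
  have hg : Function.Injective g := fun r s hrs => IsFractionRing.injective R K (by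
    simpa [g, Algebra.smul_def] using hrs)
  have hr1 : LinearMap.range g = Submodule.span R {(1 : K)} := LinearMap.range_toSpanSingleton (R := R) (1 : K)
  rw [← qlen_comap g (A := Submodule.span R {(1 : K)}) hr1.ge]
  have c1 : (Submodule.span R {(1 : K)}).comap g = ⊤ := by rw [← hr1]; exact eq_top_iff.2 fun x _ => ⟨x, rfl⟩
  have c2 : (Submodule.span R {a • (1 : K)}).comap g = Ideal.span {a} := by
    ext r
    rw [Submodule.mem_comap, Submodule.mem_span_singleton, Ideal.mem_span_singleton']
    exact exists_congr fun t => ⟨fun e => hg (by simpa [g, mul_smul] using e),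
      fun e => by rw [← e]; exact (mul_smul t a (1 : K)).symm⟩
  rw [c1, c2, qlen, Ring.ord]
  exact (Submodule.Quotient.equiv _ _ Submodule.topEquiv (by
    ext x; simp [Submodule.mem_map])).length_eq

theorem h_scale (i : ι) {c : K} (hc : c ≠ 0) :
    h (Submodule.span R (Set.range b)) (scale b i c) = CycAlg.ordFrac R K c := by
  obtain ⟨a, s, hs, rfl⟩ := IsFractionRing.div_surjective (A := R) c
  have hs0 : algebraMap R K s ≠ 0 :=
    (map_ne_zero_iff _ (IsFractionRing.injective R K)).2 (nonZeroDivisors.ne_zero hs)
  have ha0 : algebraMap R K a ≠ 0 := fun h0 => hc (by rw [h0, zero_div])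
  have ha : a ≠ 0 := fun h0 => ha0 (by rw [h0, map_zero])
  have e : algebraMap R K a / algebraMap R K s * algebraMap R K s = algebraMap R K a :=
    div_mul_cancel₀ _ hs0
  have h1 := h_comp (isLattice_span (R := R) b) _ _ (scale_bijective b i hc) (scale_bijective b i hs0)
  rw [← scale_mul, e, h_scale_algebraMap b i ha, h_scale_algebraMap b i (nonZeroDivisors.ne_zero hs)] at h1
  have h2 := Ord.ordFrac_mul R _ _ hc hs0
  rw [e, Ord.ordFrac_algebraMap R (mem_nonZeroDivisors_of_ne_zero ha), Ord.ordFrac_algebraMap R hs] at h2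
  omega

theorem h_transvection (t : Matrix.TransvectionStruct ι K) :
    h (Submodule.span R (Set.range b)) (Matrix.toLin b b t.toMatrix) = 0 := by
  let L := Submodule.span R (Set.range b)
  let T : K → (V →ₗ[K] V) := fun a => Matrix.toLin b b (Matrix.transvection t.i t.j a)
  have hbij : ∀ a, Function.Bijective (T a) := fun a => bijective_of_det b _ (by
    rw [LinearMap.det_toLin, Matrix.det_transvection_of_ne _ _ t.hij]; exact one_ne_zero)
  have hadd : ∀ a a', h L (T (a + a')) = h L (T a) + h L (T a') := fun a a' => by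
    rw [← h_comp (isLattice_span b) _ _ (hbij a) (hbij a')]
    congr 1
    simp only [T]
    rw [← Matrix.toLin_mul b b b, Matrix.transvection_mul_transvection_same _ _ t.hij]
  have hconj : ∀ (a d : K), d ≠ 0 → h L (T (d * a)) = h L (T a) := fun a d hd => by
    have e : scale b t.i d ∘ₗ T a = T (d * a) ∘ₗ scale b t.i d := by
      simp only [T, scale]
      rw [← Matrix.toLin_mul b b b, ← Matrix.toLin_mul b b b]
      congr 1
      ext p q
      simp only [Matrix.diagonal_mul, Matrix.mul_diagonal, Matrix.transvection, Matrix.add_apply,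
        Matrix.one_apply, Matrix.single_apply]
      rcases eq_or_ne p q with hpq | hpq
      · subst hpq
        have : ¬ (t.i = p ∧ t.j = p) := fun hh => t.hij (hh.1.trans hh.2.symm)
        simp [this]
      · by_cases hh : t.i = p ∧ t.j = q
        · obtain ⟨rfl, rfl⟩ := hh
          simp [hpq, Function.update_of_ne hpq.symm, mul_comm]
        · simp [hpq, hh]
    have h1 : h L (scale b t.i d) + h L (T a) = h L (T (d * a)) + h L (scale b t.i d) :=
      (h_comp (isLattice_span b) _ _ (scale_bijective b _ hd) (hbij a)).symm.trans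
        ((congrArg (h L) e).trans (h_comp (isLattice_span b) _ _ (hbij _) (scale_bijective b _ hd)))
    linarith
  -- pick a scalar other than 0 and -1
  show h L (T t.c) = 0
  rcases eq_or_ne (2 : K) 0 with h2 | h2
  · by_cases hF : ∃ d : K, d ≠ 0 ∧ d ≠ 1
    · obtain ⟨d, hd, hd1⟩ := hF
      have hz := hconj t.c d hd
      have hw := hconj t.c (d + 1) (fun e => hd1 (by linear_combination e - h2))
      rw [add_mul, one_mul, hadd, hz] at hw
      omega
    · push Not at hF
      classical
      haveI : Finite K := Finite.of_injective (fun x : K => decide (x = 0)) fun x y hxy => by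
        by_cases hx : x = 0
        · simp only [hx, decide_true] at hxy
          rw [hx, eq_comm]
          exact of_decide_eq_true hxy.symm
        · have hy : y ≠ 0 := fun hy => by simp [hx, hy] at hxy
          rw [hF x hx, hF y hy]
      have hR : Function.Surjective (algebraMap R K) := fun x => by
        rcases eq_or_ne x 0 with rfl | hx
        · exact ⟨0, map_zero _⟩
        · exact ⟨1, (map_one _).trans (hF x hx).symm⟩
      have hL : L = ⊤ := eq_top_iff.2 fun v _ => (b.mem_span_iff_repr_mem R v).2 fun j => hR _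
      rw [hL, h, Submodule.map_top, LinearMap.range_eq_top.2 (show Function.Surjective
        ((T t.c).restrictScalars R) from (hbij t.c).2), idx_self]
  · have hw := hconj t.c 2 h2
    rw [two_mul, hadd] at hw
    omega

theorem h_diagonal (D : ι → K) (hD : ∀ i, D i ≠ 0) :
    h (Submodule.span R (Set.range b)) (Matrix.toLin b b (Matrix.diagonal D)) =
      CycAlg.ordFrac R K (∏ i, D i) := by
  suffices H : ∀ s : Finset ι,
      h (Submodule.span R (Set.range b)) (Matrix.toLin b b (Matrix.diagonal fun j => if j ∈ s then D j else 1)) =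
        CycAlg.ordFrac R K (∏ i ∈ s, D i) by
    simpa using H Finset.univ
  intro s
  induction s using Finset.induction_on with
  | empty =>
    simp only [Finset.notMem_empty, if_false, Matrix.diagonal_one, Matrix.toLin_one,
      Finset.prod_empty, Ord.ordFrac_one]
    rw [h, LinearMap.restrictScalars_id, Submodule.map_id, idx_self]
  | insert a s ha ih =>
    have hne : ∀ j, (if j ∈ s then D j else 1) ≠ 0 := fun j => by
      split_ifs
      exacts [hD j, one_ne_zero]
    have e : Matrix.toLin b b (Matrix.diagonal fun j => if j ∈ insert a s then D j else 1) =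
        scale b a (D a) ∘ₗ Matrix.toLin b b (Matrix.diagonal fun j => if j ∈ s then D j else 1) := by
      rw [scale, ← Matrix.toLin_mul b b b, Matrix.diagonal_mul_diagonal]
      congr 2
      funext j
      rcases eq_or_ne j a with rfl | hj
      · simp [ha]
      · simp [Function.update_of_ne hj, hj]
    rw [e, h_comp (isLattice_span b) _ _ (scale_bijective b a (hD a))
      (bijective_of_det b _ (by
        rw [LinearMap.det_toLin, Matrix.det_diagonal]
        exact Finset.prod_ne_zero_iff.2 fun j _ => hne j)),
      ih, h_scale b a (hD a), Finset.prod_insert ha,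
      Ord.ordFrac_mul R _ _ (hD a) (Finset.prod_ne_zero_iff.2 fun j _ => hD j)]

theorem h_eq (φ : V →ₗ[K] V) (hφ : LinearMap.det φ ≠ 0) :
    h (Submodule.span R (Set.range b)) φ = CycAlg.ordFrac R K (LinearMap.det φ) := by
  obtain ⟨M, rfl⟩ := (Matrix.toLin b b).surjective φ
  rw [LinearMap.det_toLin] at hφ ⊢
  refine Matrix.diagonal_transvection_induction_of_det_ne_zero (fun N => h _ (Matrix.toLin b b N) =
    CycAlg.ordFrac R K N.det) M hφ (fun D hD => ?_) (fun t => ?_) fun A B hA hB iA iB => ?_
  · rw [Matrix.det_diagonal] at hD ⊢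
    exact h_diagonal b D fun i => Finset.prod_ne_zero_iff.1 hD i (Finset.mem_univ i)
  · rw [h_transvection, Matrix.TransvectionStruct.det, Ord.ordFrac_one]
  · rw [Matrix.toLin_mul b b b, h_comp (isLattice_span b) _ _
      (bijective_of_det b _ (by rwa [LinearMap.det_toLin]))
      (bijective_of_det b _ (by rwa [LinearMap.det_toLin])), iA, iB, Matrix.det_mul,
      Ord.ordFrac_mul R _ _ hA hB]

end Basis

/-- The index of any lattice in its image is the order of the determinant. -/
theorem idx_eq [FiniteDimensional K V] {M : Submodule R V} (hM : IsLattice K M) (φ : V →ₗ[K] V)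
    (hφ : LinearMap.det φ ≠ 0) :
    idx M (M.map (φ.restrictScalars R)) = CycAlg.ordFrac R K (LinearMap.det φ) := by
  classical
  let b := Module.finBasis K V
  let b' : Basis (ULift.{u} (Fin (Module.finrank K V))) K V := b.reindex Equiv.ulift.symm
  rw [← h_eq b' φ hφ, h]
  set L := Submodule.span R (Set.range b')
  have hL : IsLattice K L := isLattice_span b'
  have hbij := bijective_of_det b' φ hφ
  have h1 := hL.map φ hbij.2
  rw [← idx_trans (comm hM hL) (comm hL (hM.map φ hbij.2)),
    ← idx_trans (comm hL h1) (comm h1 (hM.map φ hbij.2)), idx_map_of_injective (φ.restrictScalars R) hbij.1, idx_symm M L]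
  ring

end Groth.Agent.Lib.Cyc.PP.DetOrd
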