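import Groth.Agent.Lib.Cyc.PP.Main
import Groth.Agent.Lib.Cyc.PP.DetOrd
import Mathlib.RingTheory.Norm.Defs

/-!
# Direct image of a principal divisor in the generically finite case
-/

set_option autoImplicit false
set_option linter.style.haveILetI false
universe u

open CategoryTheory CategoryTheory.Limits AlgebraicGeometry TopologicalSpace Opposite IsLocalRing

namespace Groth.Agent.Lib.Cyc.PP.Norm

open Groth.Agent.Lib Groth.Agent.Lib.Cyc Groth.Agent.Lib.Modules.StalkModule
  Groth.Agent.Lib.Cyc.Retr.Idx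

section Restrict

variable {R₀ R : Type u} [CommRing R₀] [CommRing R] [Algebra R₀ R] {V : Type u} [AddCommGroup V]
  [Module R V] [Module R₀ V] [IsScalarTower R₀ R V]

theorem qlen_restrict (h : Function.Surjective (algebraMap R₀ R)) (A B : Submodule R V) :
    qlen (A.restrictScalars R₀) (B.restrictScalars R₀) = qlen A B := by
  unfold qlen
  rw [← Module.length_eq_of_surjective (S := R₀) (R := R) (M := ↥A ⧸ B.comap A.subtype) h]
  exact (Submodule.Quotient.restrictScalarsEquiv R₀ (B.comap A.subtype)).length_eq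

theorem idx_restrict (h : Function.Surjective (algebraMap R₀ R)) (A B : Submodule R V) :
    idx (A.restrictScalars R₀) (B.restrictScalars R₀) = idx A B := by
  rw [idx, idx, qlen_restrict h, qlen_restrict h]

end Restrict

variable {X Y : Scheme.{u}} (p : X ⟶ Y)

/-- `(p_* F)_y → F_ξ` for `p ξ ⤳ y`. -/
noncomputable def toGen (F : X.Modules) {y : Y} {ξ : X} (h : p ξ ⤳ y) :
    ((Coh.push p).obj F).presheaf.stalk y →+ F.presheaf.stalk ξ :=
  (SheafLen.pushStalk p F ξ).comp (((Coh.push p).obj F).presheaf.stalkSpecializes h).hom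

theorem toGen_germ (F : X.Modules) {y : Y} {ξ : X} (h : p ξ ⤳ y) {V : Y.Opens} (hy : y ∈ V)
    (m : Γ((Coh.push p).obj F, V)) :
    toGen p F h (((Coh.push p).obj F).presheaf.germ V y hy m) =
      F.presheaf.germ (p ⁻¹ᵁ V) ξ (h.mem_open V.2 hy) m :=
  (congrArg (SheafLen.pushStalk p F ξ) (TopCat.Presheaf.germ_stalkSpecializes_apply _ hy h m)).trans
    (SheafLen.pushStalk_germ p F ξ _ m)

theorem toGen_smul (F : X.Modules) {y : Y} {ξ : X} (h : p ξ ⤳ y) (a : Y.presheaf.stalk y)
    (v : ((Coh.push p).obj F).presheaf.stalk y) :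
    toGen p F h (a • v) = p.stalkMap ξ (Y.presheaf.stalkSpecializes h a) • toGen p F h v := by
  simp only [toGen, AddMonoidHom.comp_apply]
  exact (congrArg (SheafLen.pushStalk p F ξ) (C1.stalkSpecializes_smul _ h a v)).trans
    (SheafLen.pushStalk_smul p F ξ _ _)

theorem toGen_natural {F G : X.Modules} (u : F ⟶ G) {y : Y} {ξ : X} (h : p ξ ⤳ y)
    (v : ((Coh.push p).obj F).presheaf.stalk y) :
    toGen p G h (stalkMapₗ ((Coh.push p).map u) y v) = stalkMapₗ u ξ (toGen p F h v) := by
  obtain ⟨V, hy, m, rfl⟩ := TopCat.Presheaf.exists_germ_eq ((Coh.push p).obj F).presheaf v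
  rw [toGen_germ, stalkMapₗ_germ, stalkMapₗ_germ]
  exact toGen_germ p G h hy _

theorem injective_toGen {ξ : X} {y : Y} (h : p ξ ⤳ y) :
    Function.Injective (toGen p (Cyc.closureStructureSheaf ξ) h) := by
  rw [injective_iff_map_eq_zero]
  intro v hv
  obtain ⟨V, hy, m, rfl⟩ :=
    TopCat.Presheaf.exists_germ_eq ((Coh.push p).obj (Cyc.closureStructureSheaf ξ)).presheaf v
  rw [toGen_germ] at hv
  refine (congrArg _ ?_).trans (map_zero _)
  refine Modules.Support.eq_zero_of_germ_eq_zero (M := Cyc.closureStructureSheaf ξ) (U := p ⁻¹ᵁ V) m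
    fun x hx _ => ?_
  by_cases hsp : ξ ⤳ x
  · refine Retr.Witness.injective_specializes hsp ?_
    rw [map_zero]
    exact (TopCat.Presheaf.germ_stalkSpecializes_apply (Cyc.closureStructureSheaf ξ).presheaf hx hsp m).trans hv
  · exact (Retr.Witness.stalk_trivial_of_not_specializes hsp).elim _ _

variable {ξ : X}

/-- The generic stalk of a closure as its function field. -/
noncomputable def toField (v : (Cyc.closureStructureSheaf ξ).presheaf.stalk ξ) : X.residueField ξ :=
  X.residue ξ (Retr.Witness.exists_smul_oneAt ξ ξ v).choose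

theorem toField_smul_one (r : X.presheaf.stalk ξ) :
    toField (r • Retr.Witness.oneAt ξ ξ) = X.residue ξ r := by
  have h := (Retr.Witness.exists_smul_oneAt ξ ξ (r • Retr.Witness.oneAt ξ ξ)).choose_spec
  rw [toField]
  set s := (Retr.Witness.exists_smul_oneAt ξ ξ (r • Retr.Witness.oneAt ξ ξ)).choose
  rw [← sub_eq_zero, ← map_sub]
  refine (IsLocalRing.residue_eq_zero_iff _).2 ?_
  by_contra hne
  rw [mem_maximalIdeal, mem_nonunits_iff, not_not] at hne
  exact Retr.Witness.oneAt_ne_zero ξ (hne.smul_eq_zero.1 (by rw [sub_smul, h, sub_self]))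

theorem toField_smul (r : X.presheaf.stalk ξ) (v : (Cyc.closureStructureSheaf ξ).presheaf.stalk ξ) :
    toField (r • v) = X.residue ξ r * toField v := by
  obtain ⟨s, rfl⟩ := Retr.Witness.exists_smul_oneAt ξ ξ v
  rw [smul_smul, toField_smul_one, toField_smul_one, map_mul]

theorem toField_add (v w : (Cyc.closureStructureSheaf ξ).presheaf.stalk ξ) :
    toField (v + w) = toField v + toField w := by
  obtain ⟨s, rfl⟩ := Retr.Witness.exists_smul_oneAt ξ ξ v
  obtain ⟨t, rfl⟩ := Retr.Witness.exists_smul_oneAt ξ ξ w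
  rw [← add_smul, toField_smul_one, toField_smul_one, toField_smul_one, map_add]

theorem toField_injective : Function.Injective (toField (X := X) (ξ := ξ)) := fun v w h => by
  obtain ⟨s, rfl⟩ := Retr.Witness.exists_smul_oneAt ξ ξ v
  obtain ⟨t, rfl⟩ := Retr.Witness.exists_smul_oneAt ξ ξ w
  rw [toField_smul_one, toField_smul_one, ← sub_eq_zero, ← map_sub] at h
  rw [← sub_eq_zero, ← sub_smul]
  exact Retr.Witness.smul_eq_zero_of_mem ξ ((IsLocalRing.residue_eq_zero_iff _).1 h) _

variable [IsProper p] [IsLocallyNoetherian X] [IsLocallyNoetherian Y] {δX : X → ℤ} {δY : Y → ℤ}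
  {k : ℤ}

/-- `p_* div(f) = div(Nm f)` in the generically finite case. -/
theorem map_divFun (hX : Cyc.IsDimFun X δX) (hY : Cyc.IsDimFun Y δY)
    (hδ : Cyc.DeltaCompat p δX δY) (hξ : δX ξ = k + 1) (hpξ : δY (p ξ) = k + 1)
    (f : X.residueField ξ) (hf : f ≠ 0) (y : Y) :
    ∑ᶠ x ∈ ⇑p ⁻¹' {y}, Cyc.divFun δX ξ f x * (AlgebraicCycle.mapCoeff p δX δY x : ℤ) =
      Cyc.divFun δY (p ξ) (Cyc.normGen p ξ f) y := by
  classical
  by_cases hy : p ξ ⤳ y ∧ δY y + 1 = δY (p ξ)
  swap
  · rw [show Cyc.divFun δY (p ξ) (Cyc.normGen p ξ f) y = 0 from dif_neg hy]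
    refine finsum_mem_eq_zero_of_forall_eq_zero fun x hx => ?_
    have hxy : p x = y := hx
    by_contra hne
    obtain ⟨h1, h2⟩ := mul_ne_zero_iff.1 hne
    have hk : ξ ⤳ x ∧ δX x + 1 = δX ξ := by
      by_contra h
      exact h1 (dif_neg h)
    have hm : δX x = δY (p x) := by
      by_contra h
      exact h2 (by simp [AlgebraicCycle.mapCoeff, h])
    rw [hxy] at hm
    exact hy ⟨hxy ▸ hk.1.map p.continuous, by omega⟩
  obtain ⟨hsp, hy1⟩ := hy
  have hyk : δY y = k := by omega
  rw [show Cyc.divFun δY (p ξ) (Cyc.normGen p ξ f) y = Cyc.ordAt y (p ξ) hsp (Cyc.normGen p ξ f) from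
    dif_pos ⟨hsp, hy1⟩]
  obtain ⟨c, rfl⟩ := X.residue_surjective ξ f
  have hc : IsUnit c := by
    by_contra hne
    exact hf ((IsLocalRing.residue_eq_zero_iff _).2 ((mem_maximalIdeal c).2 hne))
  haveI := Retr.Witness.mono_quot hc
  let O := Cyc.closureStructureSheaf ξ
  let u := Retr.Witness.incl ξ c
  let v := Retr.Witness.quot hc
  have cO := Devissage.Closure.isCoh_closureStructureSheaf ξ
  have cJ := Retr.Witness.isCoh_J ξ c
  have hu : Cyc.CohLe δX k (cokernel u) := Retr.Witness.cohLe_cokernel hX hξ _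
    Retr.Witness.isCoh_cokernel_incl (Retr.Witness.surjective_incl_self hc)
  have hv : Cyc.CohLe δX k (cokernel v) := Retr.Witness.cohLe_cokernel hX hξ _
    (Retr.Witness.isCoh_cokernel_quot hc) (Retr.Witness.surjective_quot_self hc)
  have hOle : Cyc.CohLe δX (k + 1) O := ⟨cO, fun z hz => by
    by_cases hs : ξ ⤳ z
    · exact (DimFun.le_of_specializes hX hs).trans hξ.le
    · exact absurd (Retr.Witness.stalk_trivial_of_not_specializes hs)
        (not_subsingleton_iff_nontrivial.2 hz)⟩
  have hfib : ∀ y', δY y' = k → ∀ x, p x = y' → Nontrivial (O.presheaf.stalk x) → δX x = k :=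
    fun y' hy' x hx hn => by
    have h1 := Residue.deltaY_le hδ x
    have h2 := hOle.2 x hn
    rw [hx, hy'] at h1
    by_contra hne
    have hs : ξ ⤳ x := by
      by_contra hs
      exact not_subsingleton_iff_nontrivial.2 hn (Retr.Witness.stalk_trivial_of_not_specializes hs)
    have := DimFun.eq_of_specializes_of_le hX hs (by omega)
    subst this
    rw [hx] at hpξ
    omega
  obtain ⟨mu, hlu, fu⟩ := Main.cokernel_spec p hX hY hδ u cJ cO hu hfib
  obtain ⟨mv, hlv, fv⟩ := Main.cokernel_spec p hX hY hδ v cJ cO hv hfib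
  haveI := mu
  haveI := mv
  rw [finsum_mem_congr rfl fun x _ => congrArg (· * (AlgebraicCycle.mapCoeff p δX δY x : ℤ))
    (Retr.Witness.divFun_eq hc hX hξ x)]
  have e0 := Div.map_sub_apply p (δX := δX) (δY := δY) (FP.Rat.cycleOf k hX hu) (FP.Rat.cycleOf k hX hv) y
  rw [Push.map_apply] at e0
  refine e0.trans ?_
  rw [← fu, ← fv, Cyc.sheafFun, Cyc.sheafFun, if_pos hyk, if_pos hyk,
    Retr.Witness.length_cokernel_stalk, Retr.Witness.length_cokernel_stalk]
  -- the embedding into the function field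
  let R₀ := Y.presheaf.stalk y
  let R := Cyc.LocQuot y (p ξ) hsp
  let K := Y.residueField (p ξ)
  let V := X.residueField ξ
  letI : Algebra K V := (p.residueFieldMap ξ).hom.toAlgebra
  letI : Algebra R V := ((algebraMap K V).comp (algebraMap R K)).toAlgebra
  haveI : IsScalarTower R K V := IsScalarTower.of_algebraMap_eq' rfl
  letI : Algebra R₀ V := ((algebraMap R V).comp (Ideal.Quotient.mk _)).toAlgebra
  haveI : IsScalarTower R₀ R V := IsScalarTower.of_algebraMap_eq' rfl
  letI : Algebra R₀ K := ((algebraMap R K).comp (Ideal.Quotient.mk _)).toAlgebra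
  haveI : IsScalarTower R₀ K V := IsScalarTower.of_algebraMap_eq' rfl
  haveI hfin : Module.Finite K V := Residue.residueFieldMap_finite_of_trdeg_eq_zero ξ
    ((Residue.trdegAt_eq_zero_iff_eq hδ ξ).2 (hξ.trans hpξ.symm))
  let G : ((Coh.push p).obj O).presheaf.stalk y →ₗ[R₀] V :=
    { toFun := fun w => toField (toGen p O hsp w)
      map_add' := fun a b => by rw [map_add, toField_add]
      map_smul' := fun a w => by
        rw [toGen_smul, toField_smul, RingHom.id_apply, Algebra.smul_def]
        congr 1 }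
  have hG : Function.Injective G := toField_injective.comp (injective_toGen p hsp)
  let I₁ := LinearMap.range (stalkMapₗ ((Coh.push p).map u) y)
  let I₂ := LinearMap.range (stalkMapₗ ((Coh.push p).map v) y)
  have hl : ∀ {A B : Y.Modules} (g : A ⟶ B) [Mono g], Cyc.CohLe δY k (cokernel g) →
      qlen ⊤ (LinearMap.range (stalkMapₗ g y)) < ⊤ := fun g _ hg => by
    rw [← Retr.Witness.length_cokernel_stalk]
    exact lt_top_iff_ne_top.2 (K0.Cycles.length_ne_top k hY hg hyk)
  have cT₁ : Comm ⊤ I₁ := comm_of_le le_top (hl _ hlu)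
  have cT₂ : Comm ⊤ I₂ := comm_of_le le_top (hl _ hlv)
  change ((qlen ⊤ I₁).toNat : ℤ) - ((qlen ⊤ I₂).toNat : ℤ) = _
  rw [← idx_of_le le_top, ← idx_of_le le_top, ← idx_trans cT₂ (cT₂.symm.trans cT₁), add_sub_cancel_left,
    ← idx_map_of_injective G hG]
  let φ : V →ₗ[K] V := LinearMap.mulLeft K (X.residue ξ c)
  have hquot : ∀ j, stalkMapₗ u ξ j = c • stalkMapₗ v ξ j := fun j => by
    have := Retr.Witness.quot_stalk hc specializes_rfl j
    rw [TopCat.Presheaf.stalkSpecializes_refl] at this
    exact this.symm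
  have hAB : I₁.map G = (I₂.map G).map (φ.restrictScalars R₀) := by
    rw [← Submodule.map_comp, ← LinearMap.range_comp, ← LinearMap.range_comp]
    congr 1
    refine LinearMap.ext fun w => ?_
    show toField (toGen p O hsp (stalkMapₗ ((Coh.push p).map u) y w)) =
      X.residue ξ c * toField (toGen p O hsp (stalkMapₗ ((Coh.push p).map v) y w))
    rw [toGen_natural, toGen_natural, hquot, toField_smul]
  rw [hAB]
  have hσ : Function.Surjective (algebraMap R₀ R) := Ideal.Quotient.mk_surjective
  let B : Submodule R V := Submodule.span R (I₂.map G : Set V)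
  have hB0 : B.restrictScalars R₀ = I₂.map G :=
    (Submodule.restrictScalars_span R₀ R hσ _).trans (Submodule.span_eq _)
  have hB : DetOrd.IsLattice K B := by
    constructor
    · haveI : Module.Finite R₀ (((Coh.push p).obj (Retr.Witness.J ξ c)).presheaf.stalk y) :=
        RefHull.LocFree.finite_stalk (Push.isCoh_push p cJ) y
      haveI : Module.Finite R₀ I₂ := Module.Finite.range _
      have hfg : (I₂.map G).FG := (Module.Finite.iff_fg.1 (inferInstance : Module.Finite R₀ I₂)).map G
      obtain ⟨S, hS⟩ := hfg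
      refine ⟨S, ?_⟩
      show Submodule.span R _ = Submodule.span R (I₂.map G : Set V)
      rw [← hS]
      exact (Submodule.span_span_of_tower R₀ R _).symm
    · rw [eq_top_iff]
      rintro a -
      obtain ⟨r, rfl⟩ := X.residue_surjective ξ a
      obtain ⟨j, hj⟩ := Retr.Witness.surjective_quot_self hc (r • Retr.Witness.oneAt ξ ξ)
      haveI := Retr.Witness.mono_quot hc
      have hJle : Cyc.CohLe δX (k + 1) (Retr.Witness.J ξ c) := K0.Cycles.cohLe_of_mono u cJ hOle
      by_cases hjn : Nontrivial ((Retr.Witness.J ξ c).presheaf.stalk ξ)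
      swap
      · haveI := not_nontrivial_iff_subsingleton.1 hjn
        rw [← toField_smul_one, ← hj, Subsingleton.elim j 0, map_zero,
          show toField (0 : O.presheaf.stalk ξ) = 0 by rw [← zero_smul (X.presheaf.stalk ξ) (Retr.Witness.oneAt ξ ξ), toField_smul_one, map_zero]]
        exact Submodule.zero_mem _
      obtain ⟨W, hW, m, hm, -⟩ := Iso.exists_section p hX hδ hJle hpξ (s := ξ) ⟨rfl, hjn⟩ j
      obtain ⟨_, ⟨U, hU, rfl⟩, hyU, -⟩ :=
        Y.isBasis_affineOpens.exists_subset_of_mem_open (Set.mem_univ y) isOpen_univ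
      have hηU : p ξ ∈ U := hsp.mem_open U.2 hyU
      haveI := (Push.isCoh_push p cJ).1
      obtain ⟨b, t, hb, e⟩ := StalkLoc.Basic.exists_smul_eq_germ (M := (Coh.push p).obj (Retr.Witness.J ξ c))
        hU hηU (((Coh.push p).obj (Retr.Witness.J ξ c)).presheaf.germ W (p ξ) hW m)
      have hbu : IsUnit (Y.presheaf.germ U (p ξ) hηU b) := (Y.mem_basicOpen b _ hηU).1 hb
      let κb : K := Y.residue (p ξ) (Y.presheaf.germ U (p ξ) hηU b)
      have hkey : κb • X.residue ξ r ∈ (B : Set V) := by
        refine Submodule.subset_span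
          ⟨stalkMapₗ ((Coh.push p).map v) y (((Coh.push p).obj _).presheaf.germ U y hyU t),
            LinearMap.mem_range_self _ _, ?_⟩
        show toField (toGen p O hsp (stalkMapₗ ((Coh.push p).map v) y _)) = _
        rw [toGen_natural, toGen_germ]
        have h3 := congrArg (SheafLen.pushStalk p (Retr.Witness.J ξ c) ξ) e
        rw [SheafLen.pushStalk_smul] at h3
        erw [SheafLen.pushStalk_germ, SheafLen.pushStalk_germ, hm] at h3
        rw [← h3, map_smul, hj, toField_smul, toField_smul_one, Algebra.smul_def]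
        congr 1
      have hκ : κb ≠ 0 := (hbu.map (Y.residue (p ξ)).hom).ne_zero
      have := Submodule.smul_mem (Submodule.span K (B : Set V)) κb⁻¹ (Submodule.subset_span hkey)
      rwa [smul_smul, inv_mul_cancel₀ hκ, one_smul] at this
  have hB1 : (I₂.map G).map (φ.restrictScalars R₀) =
      (B.map (φ.restrictScalars R)).restrictScalars R₀ := by
    rw [← hB0]
    rfl
  rw [hB1, ← hB0, idx_restrict hσ]
  haveI : Ring.KrullDimLE 1 R := Ord.locQuot_krullDimLE_one hY y (p ξ) hsp (by omega)
  haveI : IsNoetherianRing R₀ := inferInstance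
  haveI : IsNoetherianRing R := inferInstance
  have hdet : LinearMap.det φ = Algebra.norm K (X.residue ξ c) := (Algebra.norm_apply K _).symm
  rw [DetOrd.idx_eq hB φ (hdet ▸ Algebra.norm_ne_zero_iff.2 hf), hdet]
  rfl

end Groth.Agent.Lib.Cyc.PP.Norm
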