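import Groth.Agent.Lib.Cyc.PP.P1Push
import Groth.Agent.Lib.Cyc.PP.Norm
import Groth.Agent.S2266
import Mathlib.FieldTheory.FinTrdeg

/-!
# The graph closure of a rational function
-/

set_option autoImplicit false
set_option linter.style.haveILetI false
universe u

open CategoryTheory CategoryTheory.Limits AlgebraicGeometry Opposite

namespace Groth.Agent.Lib.Cyc.PP.P1Graph

open Groth.Agent.Lib Groth.Agent.Lib.Cyc P1Fib P1Coord

/-- The induced dimension function exists for morphisms locally of finite type. -/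
theorem exists_deltaCompat {X Y : Scheme.{u}} (f : X ⟶ Y) [LocallyOfFiniteType f] (δ : Y → ℤ) :
    ∃ δX : X → ℤ, Cyc.DeltaCompat f δX δ := by
  refine ⟨fun x => δ (f x) + (Residue.trdegAt f x).toNat, fun x => ⟨(Residue.trdegAt f x).toNat, ?_, rfl⟩⟩
  letI := (f.residueFieldMap x).hom.toAlgebra
  haveI : Algebra.EssFiniteType (Y.residueField (f x)) (X.residueField x) :=
    Residue.residueFieldMap_essFiniteType x
  exact (Cardinal.cast_toNat_of_lt_aleph0 (trdeg_lt_aleph0 (Y.residueField (f x)) (X.residueField x))).symm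

theorem evaluation_transfer {X : Scheme.{u}} (δ : X → ℤ) (U : X.Opens) (f : Γ(X, U)) {x y : X} (e : x = y)
    (hx : x ∈ U) (hy : y ∈ U) :
    Cyc.divFun δ x (X.evaluation U x hx f) = Cyc.divFun δ y (X.evaluation U y hy f) := by
  subst e; rfl

variable (X : Scheme.{u}) (U : X.Opens) (f : Γ(X, U))

theorem graph_fst : P1.graph X U f ≫ pullback.fst _ _ =
    U.toSpecΓ ≫ Spec.map (CommRingCat.ofHom (P1.chartMap 0 Γ(X, U) f)) ≫ χ 0 := pullback.lift_fst _ _ _

theorem graph_toBase : P1.graph X U f ≫ CohB1.ProjSpaceOver.toBase 1 X = U.ι := pullback.lift_snd _ _ _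

theorem chartMap_c : P1.chartMap 0 Γ(X, U) f (c 0) = f := by
  rw [P1.chartMap, RingHom.comp_apply, HomogeneousLocalization.algebraMap_apply, c,
    ProjSpace.Charts.val_coord, Localization.mk_eq_mk', IsLocalization.Away.lift, IsLocalization.lift_mk'_spec]
  simp

theorem le_preimage (G : (↑U : Scheme.{u}) ⟶ CohB1.ProjSpace 1 P1.R0.{u})
    (hG : G = U.toSpecΓ ≫ Spec.map (CommRingCat.ofHom (P1.chartMap 0 Γ(X, U) f)) ≫ χ 0) :
    ⊤ ≤ G ⁻¹ᵁ D 0 := fun x _ => (opensRange_χ 0).le ⟨(U.toSpecΓ ≫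
      Spec.map (CommRingCat.ofHom (P1.chartMap 0 Γ(X, U) f))) x, by subst hG; rfl⟩

/-- The coordinate pulls back to the function. -/
theorem appLE_coord (G : (↑U : Scheme.{u}) ⟶ CohB1.ProjSpace 1 P1.R0.{u})
    (hG : G = U.toSpecΓ ≫ Spec.map (CommRingCat.ofHom (P1.chartMap 0 Γ(X, U) f)) ≫ χ 0) :
    G.appLE (D 0) ⊤ (le_preimage X U f G hG) (s 0) = U.topIso.inv f := by
  subst hG
  let h := U.toSpecΓ ≫ Spec.map (CommRingCat.ofHom (P1.chartMap 0 Γ(X, U) f))
  have e : (h ≫ χ 0).appLE (D 0) ⊤ (fun x _ => (opensRange_χ 0).le ⟨h x, rfl⟩) (s 0) =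
      h.appTop ((Scheme.ΓSpecIso (CommRingCat.of (ProjSpace.Charts.AwayX P1.R0.{u} 0))).inv (c 0)) := by
    rw [← appLE_s, ← Scheme.Hom.appLE_comp_appLE (V := ⊤) (e₁ := le_preimage_D 0) (e₂ := le_top)]
    simp [Scheme.Hom.app_eq_appLE]
  have e2 : (Scheme.ΓSpecIso (CommRingCat.of (ProjSpace.Charts.AwayX P1.R0.{u} 0))).inv ≫ h.appTop =
      CommRingCat.ofHom (P1.chartMap 0 Γ(X, U) f) ≫ U.topIso.inv := by
    rw [Scheme.Hom.comp_appTop, ← Scheme.ΓSpecIso_inv_naturality_assoc]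
    erw [Scheme.Opens.toSpecΓ_appTop]
    rw [Iso.inv_hom_id_assoc]
  refine e.trans ((ConcreteCategory.congr_hom e2 (c 0)).trans ?_)
  show U.topIso.inv (P1.chartMap 0 Γ(X, U) f (c 0)) = _
  rw [chartMap_c]

/-- The graph of a function along an integral scheme mapping into `U`. -/
theorem main' {T : Scheme.{u}} [IsIntegral T] (a : T ⟶ (↑U : Scheme.{u})) [IsPreimmersion a]
    [QuasiCompact (a ≫ P1.graph X U f)] {δ : X → ℤ} (hX : Cyc.IsSetup X δ)
    {δP : ↥(CohB1.ProjSpaceOver 1 X) → ℤ} (hP : Cyc.DeltaCompat (CohB1.ProjSpaceOver.toBase 1 X) δP δ)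
    {ξ : X} (hξ : U.ι (a (genericPoint T)) = ξ) {n : ℤ} (hn : δ ξ = n) (hη : ξ ∈ U) (hf : IsUnit f) :
    IsIntegral (a ≫ P1.graph X U f).image ∧
    (∀ _ : IsIntegral (a ≫ P1.graph X U f).image,
      δP ((a ≫ P1.graph X U f).imageι (genericPoint (a ≫ P1.graph X U f).image)) = n ∧
      CohB1.ProjSpaceOver.toBase 1 X
          ((a ≫ P1.graph X U f).imageι (genericPoint (a ≫ P1.graph X U f).image)) = ξ ∧
      ∀ i, (a ≫ P1.graph X U f).imageι (genericPoint (a ≫ P1.graph X U f).image) ∉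
        Set.range ⇑(P1.sect X i)) ∧
    ∀ x, Cyc.divFun δ ξ (X.evaluation U ξ hη f) x =
      Cyc.subschemeFun δ (n - 1) (pullback.snd (a ≫ P1.graph X U f).imageι (P1.sect X 0)) x -
        Cyc.subschemeFun δ (n - 1) (pullback.snd (a ≫ P1.graph X U f).imageι (P1.sect X 1)) x := by
  classical
  haveI := hX.1
  set gr := a ≫ P1.graph X U f with hgr
  haveI : IrreducibleSpace gr.image := (S2266.result gr).2 ‹_› inferInstance
  haveI : IsReduced gr.image := (S2266.result gr).1
  haveI : IsIntegral gr.image := isIntegral_of_irreducibleSpace_of_isReduced gr.image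
  set ι := gr.imageι with hι
  set p := ι ≫ CohB1.ProjSpaceOver.toBase 1 X with hp
  set G := gr.toImage with hG
  have hGp : G ≫ p = a ≫ U.ι := by
    rw [hp, hG, hι, ← Category.assoc, Scheme.Hom.toImage_imageι, hgr, Category.assoc, graph_toBase]
  have hGg : G ≫ g ι = a ≫ P1.graph X U f ≫ pullback.fst _ _ := by
    rw [g, hG, hι, ← Category.assoc, Scheme.Hom.toImage_imageι, hgr, Category.assoc]
  have hle : (⊤ : T.Opens) ≤ G ⁻¹ᵁ V ι 0 := fun x _ => by
    show (G ≫ g ι) x ∈ D 0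
    rw [hGg]
    exact le_preimage X U f _ (graph_fst X U f) (show a x ∈ (⊤ : (↑U : Scheme.{u}).Opens) from trivial)
  set ηU := genericPoint T with hηU
  have hgenY : G ηU = genericPoint gr.image := by
    apply ((genericPoint_spec gr.image).eq ?_).symm
    convert! (genericPoint_spec T).image G.continuous
    rw [Set.image_univ, eq_comm, ← dense_iff_closure_eq]
    exact G.denseRange
  have hpη : p (G ηU) = ξ := by
    rw [← Scheme.Hom.comp_apply, hGp, Scheme.Hom.comp_apply]; exact hξ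
  have hV0 : G ηU ∈ V ι 0 := hle (show ηU ∈ (⊤ : T.Opens) from trivial)
  -- the coordinate at the generic point
  have hgermU : G.stalkMap ηU (gr.image.presheaf.germ (V ι 0) (G ηU) hV0 (t ι 0)) =
      (a ≫ U.ι).stalkMap ηU (X.presheaf.germ U ((a ≫ U.ι) ηU) (a ηU).2 f) := by
    have hle' : (⊤ : T.Opens) ≤ (a ≫ U.ι) ⁻¹ᵁ U := fun x _ => (a x).2
    have e : G.appLE (V ι 0) ⊤ hle (t ι 0) = (a ≫ U.ι).appLE U ⊤ hle' f := by
      rw [t, ← CommRingCat.comp_apply, Scheme.Hom.app_eq_appLE, Scheme.Hom.appLE_comp_appLE]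
      simp only [hGg]
      rw [← Scheme.Hom.appLE_comp_appLE (f := a) (g := P1.graph X U f ≫ pullback.fst _ _) (V := ⊤)
          (e₁ := le_preimage X U f _ (graph_fst X U f)) (e₂ := le_top),
        ← Scheme.Hom.appLE_comp_appLE (f := a) (g := U.ι) (V := ⊤)
          (e₁ := (Scheme.Opens.ι_preimage_self _).ge) (e₂ := le_top)]
      refine congrArg (a.appLE ⊤ ⊤ le_top) ((appLE_coord X U f _ (graph_fst X U f)).trans ?_)
      erw [Scheme.Opens.ι_appLE]; rw [Scheme.Opens.topIso_inv]; rfl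
    rw [Scheme.Hom.germ_stalkMap_apply, Scheme.Hom.germ_stalkMap_apply]
    rw [← TopCat.Presheaf.germ_res_apply T.presheaf (homOfLE hle) ηU trivial,
      ← TopCat.Presheaf.germ_res_apply T.presheaf (homOfLE hle') ηU trivial]
    exact congrArg (T.presheaf.germ ⊤ ηU trivial) e
  have hunit : IsUnit (gr.image.presheaf.germ (V ι 0) (G ηU) hV0 (t ι 0)) := by
    refine (isUnit_map_iff (G.stalkMap ηU).hom _).1 ?_
    change IsUnit (G.stalkMap ηU (gr.image.presheaf.germ (V ι 0) (G ηU) hV0 (t ι 0)))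
    rw [hgermU]
    exact (hf.map _).map _
  have hres : gr.image.residue (G ηU) (gr.image.presheaf.germ (V ι 0) (G ηU) hV0 (t ι 0)) =
      p.residueFieldMap (G ηU) (X.evaluation U (p (G ηU)) (hpη ▸ hη) f) := by
    apply RingHom.injective (G.residueFieldMap ηU).hom
    have l := ConcreteCategory.congr_hom (Scheme.residue_residueFieldMap G ηU)
      (gr.image.presheaf.germ (V ι 0) (G ηU) hV0 (t ι 0))
    refine l.trans ?_
    show T.residue ηU (G.stalkMap ηU _) = _
    rw [hgermU]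
    have key : ∀ (m : T ⟶ X) (hm : m = a ≫ U.ι) (hx : m ηU ∈ U),
        m.residueFieldMap ηU (X.evaluation U (m ηU) hx f) =
          T.residue ηU ((a ≫ U.ι).stalkMap ηU (X.presheaf.germ U ((a ≫ U.ι) ηU) (a ηU).2 f)) := by
      intro m hm hx
      subst hm
      exact ConcreteCategory.congr_hom (Scheme.residue_residueFieldMap (a ≫ U.ι) ηU) _
    refine (key _ hGp (hpη ▸ hη)).symm.trans ?_
    rw [Scheme.residueFieldMap_comp]
    rfl
  have hsurj : Function.Surjective (p.residueFieldMap (G ηU)).hom := fun v => by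
    have h : ∀ (m : T ⟶ X), m = a ≫ U.ι → Function.Surjective (m.residueFieldMap ηU).hom := by
      intro m hm; subst hm; exact FieldDim.residueFieldMap_surjective (a ≫ U.ι) ηU
    obtain ⟨b, hb⟩ := h _ hGp (G.residueFieldMap ηU v)
    rw [Scheme.residueFieldMap_comp] at hb
    exact ⟨b, RingHom.injective (G.residueFieldMap ηU).hom hb⟩
  -- bookkeeping
  have hc := P1Push.deltaCompat_struct ι hP
  haveI : IsLocallyNoetherian gr.image := LocallyOfFiniteType.isLocallyNoetherian p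
  have hδW : Cyc.IsDimFun gr.image (fun w => δP (ι w)) :=
    InducedDimFun.isDimFun p hX.2.2 hX.2.1 hc
  have hd0 : δP (ι (G ηU)) = δ (p (G ηU)) :=
    (Residue.trdegAt_eq_zero_iff_eq hc (G ηU)).1 (FieldDim.trdegAt_eq_zero_of_surjective p _ hsurj)
  have hδη : δP (ι (genericPoint gr.image)) = (n - 1) + 1 := by
    rw [← hgenY, hd0, hpη, hn]; ring
  have hnot : ∀ i, ι (genericPoint gr.image) ∉ Set.range ⇑(P1.sect X i) := by
    intro i hi
    have : genericPoint gr.image ∈ Set.range ⇑(q ι i) := by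
      rw [Scheme.Pullback.range_fst]; exact hi
    rw [← hgenY] at this
    obtain ⟨z, hz⟩ := this
    fin_cases i
    · refine RingHom.ker_ne_top ((q ι 0).stalkMap z).hom ?_
      rw [(not_isUnit_iff_and_ker ι 0).1 z]
      refine Ideal.span_singleton_eq_top.2 ?_
      have : ∀ (y : gr.image) (hy : y ∈ V ι 0), y = G ηU →
          IsUnit (gr.image.presheaf.germ (V ι 0) y hy (t ι 0)) := by
        intro y hy e; subst e; exact hunit
      exact this _ _ hz
    · exact not_mem_V_rev ι 1 z (show q ι 1 z ∈ V ι 0 from (show q ι 1 z = G ηU from hz) ▸ hV0)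
  obtain ⟨F, hF0, hF, hdiv⟩ := exists_divFun_eq ι hδW hδη hnot
  have main : ∀ (ξ : gr.image), ξ = genericPoint gr.image → ∀ h0 : ξ ∈ V ι 0, ∀ w,
      Cyc.divFun (fun w => δP (ι w)) ξ (gr.image.residue ξ (gr.image.presheaf.germ (V ι 0) ξ h0 (t ι 0))) w =
        Cyc.subschemeFun (fun w => δP (ι w)) (n - 1) (q ι 0) w -
          Cyc.subschemeFun (fun w => δP (ι w)) (n - 1) (q ι 1) w := by
    intro ξ e h0 w
    subst e
    rw [← hF h0]
    exact hdiv w
  refine ⟨‹_›, fun _ => ⟨by rw [hδη]; ring, ?_, hnot⟩, fun x => ?_⟩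
  · rw [← hgenY, ← Scheme.Hom.comp_apply, ← hp]; exact hpη
  have hnorm : Cyc.normGen p (G ηU) (gr.image.residue (G ηU)
      (gr.image.presheaf.germ (V ι 0) (G ηU) hV0 (t ι 0))) = X.evaluation U (p (G ηU)) (hpη ▸ hη) f := by
    rw [hres]
    have h1 : p.residueDegree (G ηU) = 1 := Residue.residueDegree_eq_one_of_surjective _ hsurj
    letI := (p.residueFieldMap (G ηU)).hom.toAlgebra
    exact (Algebra.norm_algebraMap (S := gr.image.residueField (G ηU)) _).trans
      ((congrArg (_ ^ ·) h1).trans (pow_one _))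
  have hne : gr.image.residue (G ηU) (gr.image.presheaf.germ (V ι 0) (G ηU) hV0 (t ι 0)) ≠ 0 :=
    (hunit.map (gr.image.residue (G ηU)).hom).ne_zero
  have key := Norm.map_divFun p (ξ := G ηU) hδW hX.2.2 hc (k := n - 1)
    (by show δP (ι (G ηU)) = _; rw [hd0, hpη, hn]; ring) (by rw [hpη, hn]; ring) _ hne x
  rw [hnorm, congrFun (evaluation_transfer δ U f hpη (hpη ▸ hη) hη) x] at key
  rw [← key, ← (P1Push.finsum_fibre ι hP (n - 1) 0 x).2, ← (P1Push.finsum_fibre ι hP (n - 1) 1 x).2,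
    eq_sub_iff_add_eq, ← finsum_mem_add_distrib' ?_ (P1Push.finsum_fibre ι hP (n - 1) 1 x).1]
  · exact finsum_mem_congr rfl fun w _ => by rw [main _ hgenY hV0 w]; ring
  · refine ((P1Push.finsum_fibre ι hP (n - 1) 0 x).1.union (P1Push.finsum_fibre ι hP (n - 1) 1 x).1).subset ?_
    rintro w ⟨hw, hne'⟩
    by_contra hn'
    simp only [Set.mem_union, Set.mem_inter_iff, Function.mem_support, not_or, not_and, not_not] at hn'
    refine hne' ?_
    show _ * _ = (0 : ℤ)
    rw [main _ hgenY hV0 w, sub_mul, hn'.1 hw, hn'.2 hw, sub_zero]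

/-- The principal divisor of a rational function on an integral scheme. -/
theorem main [IsIntegral X] {δ : X → ℤ} (hX : Cyc.IsSetup X δ) {n : ℤ} (hn : δ (genericPoint X) = n)
    (hη : genericPoint X ∈ U) (hf : IsUnit f) :
    Cyc.divFun δ (genericPoint X) (X.evaluation U (genericPoint X) hη f) = fun x =>
      Cyc.subschemeFun δ (n - 1) (pullback.snd (P1.graphClosureι X U f) (P1.sect X 0)) x -
        Cyc.subschemeFun δ (n - 1) (pullback.snd (P1.graphClosureι X U f) (P1.sect X 1)) x := by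
  haveI := hX.1
  obtain ⟨δP, hP⟩ := exists_deltaCompat (CohB1.ProjSpaceOver.toBase 1 X) δ
  haveI : Nonempty (↑U : Scheme.{u}) := ⟨⟨genericPoint X, hη⟩⟩
  haveI : IsIntegral (↑U : Scheme.{u}) := isIntegral_of_isOpenImmersion U.ι
  haveI : QuasiCompact (P1.graph X U f) := by
    haveI : QuasiCompact (P1.graph X U f ≫ CohB1.ProjSpaceOver.toBase 1 X) := by
      rw [graph_toBase]; infer_instance
    exact QuasiCompact.of_comp _ (CohB1.ProjSpaceOver.toBase 1 X)
  haveI : QuasiCompact (𝟙 (↑U : Scheme.{u}) ≫ P1.graph X U f) := by rw [Category.id_comp]; infer_instance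
  have key := (main' X U f (𝟙 (↑U : Scheme.{u})) hX hP (ξ := genericPoint X)
    (genericPoint_eq_of_isOpenImmersion U.ι) hn hη hf).2.2
  funext x
  revert key
  rw [Category.id_comp]
  exact fun key => key x

/-- Every principal divisor is a difference of the two fibres of an integral subscheme of `P¹`. -/
theorem exists_subscheme {δ : X → ℤ} (hX : Cyc.IsSetup X δ)
    {δP : ↥(CohB1.ProjSpaceOver 1 X) → ℤ} (hP : Cyc.DeltaCompat (CohB1.ProjSpaceOver.toBase 1 X) δP δ)
    (ξ : X) (φ : X.residueField ξ) (hφ : φ ≠ 0) :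
    ∃ (W : Scheme.{u}) (ι : W ⟶ CohB1.ProjSpaceOver 1 X) (_ : IsIntegral W) (_ : IsClosedImmersion ι),
      δP (ι (genericPoint W)) = δ ξ ∧
      CohB1.ProjSpaceOver.toBase 1 X (ι (genericPoint W)) = ξ ∧
      (∀ i, ι (genericPoint W) ∉ Set.range ⇑(P1.sect X i)) ∧
      ∀ x, Cyc.divFun δ ξ φ x =
        Cyc.subschemeFun δ (δ ξ - 1) (pullback.snd ι (P1.sect X 0)) x -
          Cyc.subschemeFun δ (δ ξ - 1) (pullback.snd ι (P1.sect X 1)) x := by
  haveI := hX.1
  obtain ⟨c, rfl⟩ := X.residue_surjective ξ φ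
  have hc : IsUnit c := by
    by_contra hne
    exact hφ ((IsLocalRing.residue_eq_zero_iff _).2 ((IsLocalRing.mem_maximalIdeal c).2 hne))
  obtain ⟨V, hξV, g, rfl⟩ := TopCat.Presheaf.exists_germ_eq X.presheaf c
  let B := X.basicOpen g
  have hξB : ξ ∈ B := (Scheme.mem_basicOpen _ _ ξ hξV).2 hc
  let f : Γ(X, B) := X.presheaf.map (homOfLE (X.basicOpen_le g)).op g
  have hf : IsUnit f := RingedSpace.isUnit_res_basicOpen _ g
  let a := (↑B : Scheme.{u}).fromSpecResidueField ⟨ξ, hξB⟩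
  haveI : IsIntegral (Spec ((↑B : Scheme.{u}).residueField ⟨ξ, hξB⟩)) := inferInstance
  haveI : QuasiCompact (a ≫ P1.graph X B f) := by
    haveI : QuasiCompact ((a ≫ P1.graph X B f) ≫ CohB1.ProjSpaceOver.toBase 1 X) := inferInstance
    exact QuasiCompact.of_comp _ (CohB1.ProjSpaceOver.toBase 1 X)
  have hgen : B.ι (a (genericPoint (Spec ((↑B : Scheme.{u}).residueField ⟨ξ, hξB⟩)))) = ξ := by
    rw [Scheme.fromSpecResidueField_apply]
    rfl
  obtain ⟨h1, h2, h3⟩ := main' X B f a hX hP hgen rfl hξB hf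
  obtain ⟨h4, h5, h6⟩ := h2 h1
  refine ⟨_, _, h1, inferInstance, h4, h5, h6, fun x => ?_⟩
  rw [← h3 x]
  congr 1
  show X.residue ξ (X.presheaf.germ V ξ hξV g) = X.residue ξ (X.presheaf.germ B ξ hξB f)
  rw [TopCat.Presheaf.germ_res_apply]

end Groth.Agent.Lib.Cyc.PP.P1Graph
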