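import Groth.Agent.S0554
import Mathlib.AlgebraicGeometry.ZariskisMainTheorem
import Mathlib.AlgebraicGeometry.FunctionField
import Groth.Agent.Lib.Cyc.DimFun

/-!
# A proper generically finite morphism is finite over points of codimension one
-/

set_option autoImplicit false
set_option linter.style.haveILetI false
universe u

open CategoryTheory AlgebraicGeometry IsLocalRing TopologicalSpace

namespace Groth.Agent.Lib.Cyc.PP.CodimOne

theorem isAlgebraic_residue {Y : Scheme.{u}} [IsIntegral Y] {V : Y.Opens} (hV : IsAffineOpen V)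
    (hη : genericPoint Y ∈ V) :
    letI := (Y.presheaf.germ V _ hη ≫ Y.residue (genericPoint Y)).hom.toAlgebra
    Algebra.IsAlgebraic Γ(Y, V) (Y.residueField (genericPoint Y)) := by
  letI := (Y.presheaf.germ V _ hη ≫ Y.residue (genericPoint Y)).hom.toAlgebra
  refine ⟨fun z => ?_⟩
  obtain ⟨w, rfl⟩ := Y.residue_surjective _ z
  letI := TopCat.Presheaf.algebra_section_stalk Y.presheaf ⟨genericPoint Y, hη⟩
  haveI := hV.isLocalization_stalk ⟨genericPoint Y, hη⟩
  obtain ⟨⟨a, b⟩, hab⟩ :=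
    IsLocalization.surj (hV.primeIdealOf ⟨genericPoint Y, hη⟩).asIdeal.primeCompl w
  refine ⟨Polynomial.C (b : Γ(Y, V)) * Polynomial.X - Polynomial.C a, fun h0 => ?_, ?_⟩
  · have h1 := congrArg (fun q => Polynomial.coeff q 1) h0
    simp at h1
    exact b.2 (h1 ▸ Submodule.zero_mem _)
  · simp only [map_sub, map_mul, Polynomial.aeval_C, Polynomial.aeval_X]
    show Y.residue _ (Y.presheaf.germ V _ hη (b : Γ(Y, V))) * Y.residue _ w -
      Y.residue _ (Y.presheaf.germ V _ hη a) = 0
    rw [← map_mul, sub_eq_zero, mul_comm]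
    exact congrArg (Y.residue _) hab

variable {X Y : Scheme.{u}} [IsIntegral X] [IsIntegral Y] [IsLocallyNoetherian Y] (f : X ⟶ Y)

theorem eq_of_specializes_fibre [LocallyOfFiniteType f] (hgen : f (genericPoint X) = genericPoint Y)
    (hfin : (f.residueFieldMap (genericPoint X)).hom.Finite) {ξ : Y}
    (hξ : ringKrullDim (Y.presheaf.stalk ξ) = 1) {a b : X} (ha : f a = ξ) (hb : f b = ξ)
    (hab : a ⤳ b) : a = b := by
  classical
  obtain ⟨_, ⟨V, hV, rfl⟩, hξV, -⟩ :=
    Y.isBasis_affineOpens.exists_subset_of_mem_open (Set.mem_univ ξ) isOpen_univ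
  obtain ⟨_, ⟨U, hU, rfl⟩, hbU, hUV⟩ :=
    X.isBasis_affineOpens.exists_subset_of_mem_open (show b ∈ (f ⁻¹ᵁ V : X.Opens) from
      (show f b ∈ V from hb ▸ hξV)) (f ⁻¹ᵁ V).2
  have haU : a ∈ U := hab.mem_open U.2 hbU
  have hft : (f.appLE V U hUV).hom.FiniteType :=
    HasRingHomProperty.appLE @LocallyOfFiniteType f ‹_› ⟨V, hV⟩ ⟨U, hU⟩ hUV
  haveI : Nonempty V := ⟨⟨ξ, hξV⟩⟩
  haveI : Nonempty U := ⟨⟨b, hbU⟩⟩
  haveI : IsNoetherianRing Γ(Y, V) := IsLocallyNoetherian.component_noetherian ⟨V, hV⟩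
  letI := (f.appLE V U hUV).hom.toAlgebra
  haveI : Algebra.FiniteType Γ(Y, V) Γ(X, U) := hft
  have hηX : genericPoint X ∈ U := ((genericPoint_spec X).mem_open_set_iff U.2).2 ⟨b, ⟨trivial, hbU⟩⟩
  have hηY : f (genericPoint X) ∈ V := hUV hηX
  have hηY' : genericPoint Y ∈ V := hgen ▸ hηY
  let K := X.residueField (genericPoint X)
  let k := Y.residueField (f (genericPoint X))
  letI : Algebra Γ(Y, V) k := (Y.presheaf.germ V _ hηY ≫ Y.residue _).hom.toAlgebra
  haveI : Algebra.IsAlgebraic Γ(Y, V) k := by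
    have gen : ∀ (y : Y) (h : y ∈ V), y = genericPoint Y →
        letI := (Y.presheaf.germ V _ h ≫ Y.residue y).hom.toAlgebra
        Algebra.IsAlgebraic Γ(Y, V) (Y.residueField y) := by
      rintro y h rfl
      exact isAlgebraic_residue hV h
    exact gen _ hηY hgen
  letI : Algebra k K := (f.residueFieldMap (genericPoint X)).hom.toAlgebra
  haveI : Module.Finite k K := hfin
  haveI : Algebra.IsAlgebraic k K := Algebra.IsAlgebraic.of_finite _ _
  letI : Algebra Γ(X, U) K := (X.presheaf.germ U _ hηX ≫ X.residue _).hom.toAlgebra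
  letI : Algebra Γ(Y, V) K := ((algebraMap k K).comp (algebraMap Γ(Y, V) k)).toAlgebra
  haveI : IsScalarTower Γ(Y, V) k K := IsScalarTower.of_algebraMap_eq' rfl
  haveI : IsScalarTower Γ(Y, V) Γ(X, U) K := IsScalarTower.of_algebraMap_eq fun r => by
    show f.residueFieldMap _ (Y.residue _ (Y.presheaf.germ V _ hηY r)) =
      X.residue _ (X.presheaf.germ U _ hηX (f.appLE V U hUV r))
    rw [← CommRingCat.comp_apply (Y.residue _), Scheme.residue_residueFieldMap,
      CommRingCat.comp_apply, Scheme.Hom.germ_stalkMap_apply, Scheme.Hom.appLE,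
      CommRingCat.comp_apply, TopCat.Presheaf.germ_res_apply]
  haveI : Algebra.IsAlgebraic Γ(Y, V) K := Algebra.IsAlgebraic.trans Γ(Y, V) k K
  have hinjX : Function.Injective (algebraMap Γ(X, U) K) :=
    (haveI : IsSimpleRing (X.presheaf.stalk (genericPoint X)) := inferInstanceAs (IsSimpleRing X.functionField); (IsLocalRing.residue (X.presheaf.stalk (genericPoint X))).injective).comp
      (germ_injective_of_isIntegral X _ hηX)
  have hinjk : Function.Injective (algebraMap Γ(Y, V) k) := by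
    have gen : ∀ (y : Y) (h : y ∈ V), y = genericPoint Y →
        Function.Injective (Y.presheaf.germ V _ h ≫ Y.residue y) := by
      rintro y h rfl
      exact (haveI : IsSimpleRing (Y.presheaf.stalk (genericPoint Y)) := inferInstanceAs (IsSimpleRing Y.functionField); (IsLocalRing.residue (Y.presheaf.stalk (genericPoint Y))).injective).comp
        (germ_injective_of_isIntegral Y _ h)
    exact gen _ hηY hgen
  haveI : FaithfulSMul Γ(Y, V) Γ(X, U) := (faithfulSMul_iff_algebraMap_injective _ _).2 fun r s h =>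
    hinjk ((algebraMap k K).injective (by
      show algebraMap Γ(Y, V) K r = algebraMap Γ(Y, V) K s
      rw [IsScalarTower.algebraMap_apply Γ(Y, V) Γ(X, U) K,
        IsScalarTower.algebraMap_apply Γ(Y, V) Γ(X, U) K, h]))
  haveI : Algebra.IsAlgebraic Γ(Y, V) Γ(X, U) :=
    Algebra.IsAlgebraic.of_injective (IsScalarTower.toAlgHom Γ(Y, V) Γ(X, U) K) hinjX
  haveI : IsNoetherianRing Γ(X, U) := Algebra.FiniteType.isNoetherianRing Γ(Y, V) Γ(X, U)
  let p := (hV.primeIdealOf ⟨ξ, hξV⟩).asIdeal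
  have hp : p.height = 1 := by
    letI := TopCat.Presheaf.algebra_section_stalk Y.presheaf ⟨ξ, hξV⟩
    haveI := hV.isLocalization_stalk ⟨ξ, hξV⟩
    have h := IsLocalization.AtPrime.ringKrullDim_eq_height p (Y.presheaf.stalk ξ)
    rw [hξ] at h
    exact_mod_cast h.symm
  have key : ∀ (z : X) (hz : z ∈ U), f z = ξ →
      ((hU.primeIdealOf ⟨z, hz⟩).asIdeal).height ≤ 1 ∧ (hU.primeIdealOf ⟨z, hz⟩).asIdeal ≠ ⊥ := by
    intro z hz hfz
    let q := (hU.primeIdealOf ⟨z, hz⟩).asIdeal
    haveI : q.LiesOver p := ⟨by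
      subst hfz
      exact (congrArg PrimeSpectrum.asIdeal (IsAffineOpen.comap_primeIdealOf_appLE (f := f) V hV U hU hUV hz)).symm⟩
    refine ⟨?_, fun h0 => ?_⟩
    · have h := Groth.Agent.S0554.result Γ(Y, V) Γ(X, U) p q
      rw [trdeg_eq_zero (R := Γ(Y, V)) (A := Γ(X, U)), add_zero, hp] at h
      obtain ⟨n, hn⟩ := ENat.ne_top_iff_exists.mp
        (Ideal.height_ne_top (I := q) (Ideal.IsPrime.ne_top inferInstance))
      have h' := (le_self_add : (q.height : Cardinal.{u}) ≤ _).trans h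
      change q.height ≤ 1
      rw [← hn] at h' ⊢
      simpa using h'
    · have h1 : p = ⊥ := by
        rw [Ideal.LiesOver.over (p := p) (P := q), show q = ⊥ from h0, Ideal.under_bot]
      rw [h1, Ideal.height_bot] at hp
      exact zero_ne_one hp
  have hA := key a haU ha
  have hB := key b hbU hb
  have hle : (hU.primeIdealOf ⟨a, haU⟩).asIdeal ≤ (hU.primeIdealOf ⟨b, hbU⟩).asIdeal := by
    have : hU.primeIdealOf ⟨a, haU⟩ ⤳ hU.primeIdealOf ⟨b, hbU⟩ := by
      refine hU.fromSpec.isOpenEmbedding.isInducing.specializes_iff.1 ?_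
      rwa [hU.fromSpec_primeIdealOf, hU.fromSpec_primeIdealOf]
    exact (PrimeSpectrum.le_iff_specializes _ _).2 this
  have heq : (hU.primeIdealOf ⟨a, haU⟩).asIdeal = (hU.primeIdealOf ⟨b, hbU⟩).asIdeal := by
    by_contra hne
    have h1 := Ideal.height_strict_mono_of_isPrime (lt_of_le_of_ne hle hne)
    have h2 : (0 : ℕ∞) < (hU.primeIdealOf ⟨a, haU⟩).asIdeal.height := by
      have := Ideal.height_strict_mono_of_isPrime (bot_lt_iff_ne_bot.2 hA.2 :
        (⊥ : Ideal Γ(X, U)) < _)
      rwa [Ideal.height_bot] at this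
    exact absurd (h1.trans_le hB.1) (not_lt.2 (ENat.one_le_iff_ne_zero.2 h2.ne'))
  have := congrArg (fun q => hU.fromSpec q) (PrimeSpectrum.ext heq)
  simpa only [hU.fromSpec_primeIdealOf] using this

/-- Finiteness over a point of codimension one. -/
theorem exists_isFinite [IsProper f] (hgen : f (genericPoint X) = genericPoint Y)
    (hfin : (f.residueFieldMap (genericPoint X)).hom.Finite) (ξ : Y)
    (hξ : ringKrullDim (Y.presheaf.stalk ξ) = 1) : ∃ V : Y.Opens, ξ ∈ V ∧ IsFinite (f ∣_ V) := by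
  refine exists_isFinite_morphismRestrict_of_finite_preimage_singleton f ξ ?_
  haveI : IsNoetherianRing (Y.residueField ξ) := inferInstance
  haveI : IsLocallyNoetherian (f.fiber ξ) :=
    haveI : LocallyOfFiniteType (f.fiberToSpecResidueField ξ) :=
      MorphismProperty.pullback_snd _ _ inferInstance
    LocallyOfFiniteType.isLocallyNoetherian (f.fiberToSpecResidueField ξ)
  haveI : CompactSpace (f.fiber ξ) := inferInstance
  haveI : IsNoetherian (f.fiber ξ) := {}
  have hmax : ∀ z : f.fiber ξ, ∀ w, w ⤳ z → w = z := fun z w h => by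
    refine (f.fiberι ξ).isEmbedding.injective (eq_of_specializes_fibre f hgen hfin hξ ?_ ?_
      (h.map (f.fiberι ξ).continuous))
    · exact (f.range_fiberι ξ).subset ⟨w, rfl⟩
    · exact (f.range_fiberι ξ).subset ⟨z, rfl⟩
  have hfinfib : Finite (f.fiber ξ) := Set.finite_univ_iff.1
    ((Groth.Agent.Lib.Cyc.DimFun.finite_maxPts (α := (f.fiber ξ)) isClosed_univ).subset
      fun z _ => ⟨trivial, fun w _ h => hmax z w h⟩)
  exact (f.fiberHomeo ξ).finite_iff.1 hfinfib

end Groth.Agent.Lib.Cyc.PP.CodimOne
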