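import Groth.Agent.Lib.Cyc.PP.PreImm
import Groth.Agent.Lib.Cyc.PP.Count
import Groth.Agent.Lib.Snapper.DimBound
import Groth.Agent.Lib.Cyc.FP.Rat
import Groth.Agent.Lib.CohBasics.Closure

/-!
# Degrees in a proper fibre
-/

set_option autoImplicit false
set_option linter.style.haveILetI false
universe u

open CategoryTheory CategoryTheory.Limits AlgebraicGeometry TopologicalSpace Opposite IsLocalRing

namespace Groth.Agent.Lib.Cyc.PP.Fibre

open Groth.Agent.Lib Groth.Agent.Lib.Cyc Groth.Agent.Lib.Modules.StalkModule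

variable {X Y : Scheme.{u}} (p : X ⟶ Y) {δX : X → ℤ} {δY : Y → ℤ} {k : ℤ} (y : Y)

/-- The residue degrees and finiteness over the residue field of a point of the fibre. -/
theorem fibre_residue (z : p.fiber y) :
    Residue.trdegAt (p.fiberToSpecResidueField y) z = Residue.trdegAt p (p.fiberι y z) ∧
      (p.fiberToSpecResidueField y).residueDegree z = p.residueDegree (p.fiberι y z) := by
  let ι := p.fiberι y
  let c := p.fiberToSpecResidueField y
  let g := Y.fromSpecResidueField y
  have ht : ∀ {A B : Scheme.{u}} (f : A ⟶ B) [IsPreimmersion f] (a : A),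
      Residue.trdegAt f a = 0 ∧ f.residueDegree a = 1 := fun f _ a =>
    ⟨Residue.trdegAt_eq_zero_of_finite a
      (Residue.residueFieldMap_finite_of_surjective a (PreImm.residueFieldMap_surjective f a)),
    Residue.residueDegree_eq_one_of_surjective a (PreImm.residueFieldMap_surjective f a)⟩
  have e1 := Residue.trdegAt_comp ι p z
  have e2 := Residue.trdegAt_comp c g z
  have e3 := Residue.residueDegree_comp ι p z
  have e4 := Residue.residueDegree_comp c g z
  rw [(ht ι z).1, add_zero, show ι ≫ p = c ≫ g from p.fiber_fac y] at e1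
  rw [(ht g (c z)).1, zero_add, e1] at e2
  rw [(ht ι z).2, mul_one, show ι ≫ p = c ≫ g from p.fiber_fac y] at e3
  rw [(ht g (c z)).2, one_mul, e3] at e4
  exact ⟨e2.symm, e4.symm⟩

variable [IsProper p] [IsLocallyNoetherian X]

/-- The degree over `y` of the cycle of a killed module in the finite range. -/
theorem map_cycleOf_eq_euler (hX : Cyc.IsDimFun X δX) (hδ : Cyc.DeltaCompat p δX δY) {F : X.Modules}
    (hF : Cyc.CohLe δX k F) (hy : δY y = k) (hk : PreImm.Killed (p.fiberι y) F) (d : ℕ) :
    letI := p.fiberOverSpecResidueField y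
    FGA.eulerCharLE (Y.residueField y) (p.fiber y) ((Scheme.Modules.pullback (p.fiberι y)).obj F) d =
      AlgebraicCycle.map p δX δY (FP.Rat.cycleOf k hX hF) y := by
  classical
  letI : (p.fiber y).Over (Spec (CommRingCat.of (Y.residueField y))) := p.fiberOverSpecResidueField y
  haveI : IsProper (p.fiber y ↘ Spec (CommRingCat.of (Y.residueField y))) :=
    MorphismProperty.pullback_snd _ _ inferInstance
  haveI := Curves.GlobalSections.isNoetherian_of_proper (Y.residueField y) (p.fiber y)
  let ι := p.fiberι y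
  let Q := (Scheme.Modules.pullback ι).obj F
  haveI := (FP.Stalk.isCoh_pullback ι hF.1).2
  have hset : ∀ z, Nontrivial (Q.presheaf.stalk z) ↔ ι z ∈ Iso.fibSupp p F y := fun z => by
    rw [PreImm.nontrivial_pull ι hk]
    exact ⟨fun h => ⟨(p.range_fiberι y).subset ⟨z, rfl⟩, h⟩, fun h => h.2⟩
  have hfinS := Iso.finite_fibSupp p hX hδ hF hy
  have hfin : {z | Nontrivial (Q.presheaf.stalk z)}.Finite :=
    (hfinS.preimage ι.isEmbedding.injective.injOn).subset fun z hz => (hset z).1 hz
  have htr : ∀ x ∈ Iso.fibSupp p F y, Residue.trdegAt p x = 0 := fun x hx =>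
    (Residue.trdegAt_eq_zero_iff_eq hδ x).2 (by rw [Iso.delta_eq p hδ hF hy hx, hx.1, hy])
  have hres : ∀ z, Nontrivial (Q.presheaf.stalk z) →
      ((p.fiber y ↘ Spec (CommRingCat.of (Y.residueField y))).residueFieldMap z).hom.Finite :=
    fun z hz => Residue.residueFieldMap_finite_of_trdeg_eq_zero (f := p.fiber y ↘ Spec (CommRingCat.of (Y.residueField y))) z
      ((fibre_residue p y z).1.trans (htr _ ((hset z).1 hz)))
  have hlen : ∀ z, Nontrivial (Q.presheaf.stalk z) →
      Module.length ((p.fiber y).presheaf.stalk z) (Q.presheaf.stalk z) ≠ ⊤ := fun z hz => by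
    rw [PreImm.length_pull ι hk]
    exact K0.Cycles.length_ne_top k hX hF (Iso.delta_eq p hδ hF hy ((hset z).1 hz))
  refine (Count.euler_eq_sum Q hfin hres hlen d).trans ?_
  rw [FinStalk.map_sheafFun p F hX hδ hF _ rfl y, Cyc.sheafFun, if_pos hy,
    FinStalk.length_push p F hX hδ hF hy]
  refine Eq.trans ?_ (congrArg Nat.cast (FinStalk.toNat_sum hfinS.toFinset
    (fun x => Module.length (X.presheaf.stalk x) (F.presheaf.stalk x) * (p.residueDegree x : ℕ∞))
    (fun x hx => WithTop.mul_ne_top
      (K0.Cycles.length_ne_top k hX hF (Iso.delta_eq p hδ hF hy ((Set.Finite.mem_toFinset _).1 hx)))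
      (WithTop.natCast_ne_top _))).symm)
  rw [Nat.cast_sum]
  refine Finset.sum_nbij ⇑ι (fun z hz => ?_) ι.isEmbedding.injective.injOn (fun x hx => ?_) fun z hz => ?_
  · exact (Set.Finite.mem_toFinset _).2 ((hset z).1 (hfin.mem_toFinset.1 hz))
  · have hx' := (Set.Finite.mem_toFinset _).1 hx
    obtain ⟨z, rfl⟩ := (p.range_fiberι y).symm.subset (show x ∈ ⇑p ⁻¹' {y} from hx'.1)
    exact ⟨z, hfin.mem_toFinset.2 ((hset z).2 hx'), rfl⟩
  · rw [ENat.toNat_mul, ENat.toNat_natCast, Nat.cast_mul, PreImm.length_pull ι hk]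
    exact congrArg _ (congrArg Nat.cast (fibre_residue p y z).2)

/-- Two injections between the same modules on the fibre: the cokernels have the same degree. -/
theorem map_cokernel_eq (hX : Cyc.IsDimFun X δX) (hδ : Cyc.DeltaCompat p δX δY) {J O : X.Modules}
    (u v : J ⟶ O) [Mono u] [Mono v] (cJ : Coh.IsCoh J) (cO : Coh.IsCoh O)
    (kO : PreImm.Killed (p.fiberι y) O) (hu : Cyc.CohLe δX k (cokernel u))
    (hv : Cyc.CohLe δX k (cokernel v)) (hy : δY y = k) :
    AlgebraicCycle.map p δX δY (FP.Rat.cycleOf k hX hu) y =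
      AlgebraicCycle.map p δX δY (FP.Rat.cycleOf k hX hv) y := by
  letI : (p.fiber y).Over (Spec (CommRingCat.of (Y.residueField y))) := p.fiberOverSpecResidueField y
  haveI : IsProper (p.fiber y ↘ Spec (CommRingCat.of (Y.residueField y))) :=
    MorphismProperty.pullback_snd _ _ inferInstance
  haveI := Curves.GlobalSections.noetherianSpace_of_proper (Y.residueField y) (p.fiber y)
  haveI := Curves.GlobalSections.isNoetherian_of_proper (Y.residueField y) (p.fiber y)
  obtain ⟨d, hd⟩ := Snapper.DimBound.exists_dim_bound (Y.residueField y) (p.fiber y)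
  have hfin := Snapper.Finite.cohFinite (Y.residueField y) (p.fiber y)
  let P := Scheme.Modules.pullback (p.fiberι y)
  haveI : PreservesColimitsOfSize.{0, 0} P :=
    (Scheme.Modules.pullbackPushforwardAdjunction (p.fiberι y)).leftAdjoint_preservesColimits
  have key : ∀ (w : J ⟶ O) [Mono w] (hw : Cyc.CohLe δX k (cokernel w)),
      AlgebraicCycle.map p δX δY (FP.Rat.cycleOf k hX hw) y =
        FGA.eulerCharLE (Y.residueField y) (p.fiber y) (P.obj O) d -
          FGA.eulerCharLE (Y.residueField y) (p.fiber y) (P.obj J) d := fun w _ hw => by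
    haveI := PreImm.mono_pull (p.fiberι y) w kO
    have hS : (ShortComplex.mk (P.map w) (cokernel.π (P.map w)) (cokernel.condition _)).ShortExact :=
      Dev.Basic.shortExact_of_mono (P.map w)
    have h3 : Coh.IsCoh (cokernel (P.map w)) := CohBasics.Closure.isCoh_cokernel _
      (FP.Stalk.isCoh_pullback _ cJ).1 (FP.Stalk.isCoh_pullback _ cO)
    have e := Snapper.Chi.eulerCharLE_add hfin hd hS (FP.Stalk.isCoh_pullback _ cJ)
      (FP.Stalk.isCoh_pullback _ cO) h3
    rw [← map_cycleOf_eq_euler p y hX hδ hw hy (kO.of_epi _ (cokernel.π w)) d,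
      Snapper.Chi.eulerCharLE_of_iso (PreservesCokernel.iso P w) d]
    dsimp only at e
    omega
  rw [key u hu, key v hv]

end Groth.Agent.Lib.Cyc.PP.Fibre
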