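import Groth.Agent.Lib.Cyc.Gys.Killed
import Groth.Agent.Lib.Cyc.Residue
import Groth.Agent.Lib.RefHull.SecHom
import Mathlib.AlgebraicGeometry.Morphisms.Proper

/-!
# Finitely many isolated points of a support over a point of the base
-/

set_option autoImplicit false
set_option linter.style.haveILetI false
universe u

open CategoryTheory CategoryTheory.Limits AlgebraicGeometry TopologicalSpace Opposite

namespace Groth.Agent.Lib.Cyc.PP.Iso

open Groth.Agent.Lib Groth.Agent.Lib.Cyc Groth.Agent.Lib.Modules.StalkModule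

variable {X Y : Scheme.{u}} (p : X ⟶ Y)

/-- An open neighbourhood of `y` whose preimage avoids a closed set missing the fibre. -/
theorem exists_open_avoid [UniversallyClosed p] {y : Y} {N : Set X} (hN : IsClosed N)
    (h : ∀ x, p x = y → x ∉ N) : ∃ V : Y.Opens, y ∈ V ∧ ∀ x, p x ∈ V → x ∉ N := by
  refine ⟨⟨(⇑p '' N)ᶜ, (p.isClosedMap _ hN).isOpen_compl⟩, ?_, fun x hx hxN => hx ⟨x, hxN, rfl⟩⟩
  rintro ⟨x, hxN, hxy⟩
  exact h x hxy hxN

/-- The points over `y` where the module lives. -/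
def fibSupp (F : X.Modules) (y : Y) : Set X := {x | p x = y ∧ Nontrivial (F.presheaf.stalk x)}

variable {δX : X → ℤ} {δY : Y → ℤ} {k : ℤ}

theorem delta_eq (hδ : Cyc.DeltaCompat p δX δY) {F : X.Modules} (hF : Cyc.CohLe δX k F) {y : Y}
    (hy : δY y = k) {x : X} (hx : x ∈ fibSupp p F y) : δX x = k := by
  have h1 := Residue.deltaY_le hδ x
  have h2 := hF.2 x hx.2
  rw [hx.1, hy] at h1
  omega

variable [IsLocallyNoetherian X]

theorem finite_fibSupp [QuasiCompact p] (hX : Cyc.IsDimFun X δX) (hδ : Cyc.DeltaCompat p δX δY)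
    {F : X.Modules} (hF : Cyc.CohLe δX k F) {y : Y} (hy : δY y = k) : (fibSupp p F y).Finite := by
  choose U hxU hfin using fun x => K0.Cycles.finite_support k hX hF x
  obtain ⟨t, ht⟩ := (Scheme.Hom.isCompact_preimage_singleton p y).elim_finite_subcover
    (fun x => (U x : Set X)) (fun x => (U x).2) (fun x _ => Set.mem_iUnion.2 ⟨x, hxU x⟩)
  refine (t.finite_toSet.biUnion fun x _ => hfin x).subset fun x hx => ?_
  obtain ⟨i, hi, hxi⟩ := Set.mem_iUnion₂.1 (ht hx.1)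
  exact Set.mem_biUnion hi ⟨hxi, delta_eq p hδ hF hy hx, hx.2⟩

/-- A point of dimension `k` of the support of `F ∈ Coh_{≤ k}` is a component of the support. -/
theorem exists_open_component (hX : Cyc.IsDimFun X δX) {F : X.Modules} (hF : Cyc.CohLe δX k F)
    {s : X} (hs : δX s = k) :
    ∃ U : X.Opens, s ∈ U ∧ ∀ t ∈ U, Nontrivial (F.presheaf.stalk t) → s ⤳ t := by
  classical
  haveI := hF.1.2
  have hT : IsClosed (CohB1.support F) := Modules.Support.isClosed_support F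
  obtain ⟨U, hU, hsU, hfin⟩ := DimFun.exists_open_finite_maxPts hT s
  set M := U ∩ {z ∈ CohB1.support F | ∀ y ∈ CohB1.support F, y ⤳ z → y = z}
  refine ⟨⟨U \ ⋃ η ∈ M \ {s}, closure {η}, hU.sdiff ((hfin.subset Set.sdiff_subset).isClosed_biUnion
    fun _ _ => isClosed_closure)⟩, ⟨hsU, fun h => ?_⟩, fun t ht hn => ?_⟩
  · obtain ⟨η, hη, hηs⟩ := Set.mem_iUnion₂.1 h
    have hne : Nontrivial (F.presheaf.stalk η) :=
      not_subsingleton_iff_nontrivial.1 hη.1.2.1
    exact hη.2 (DimFun.eq_of_specializes_of_le hX (specializes_iff_mem_closure.2 hηs)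
      (by rw [hs]; exact hF.2 η hne))
  · obtain ⟨d, ⟨η, hηt, hηT, rfl⟩, hmax⟩ := Int.exists_greatest_of_bdd
      (P := fun d => ∃ η, η ⤳ t ∧ Nontrivial (F.presheaf.stalk η) ∧ δX η = d)
      ⟨k, fun d ⟨η, _, hn', hd⟩ => hd ▸ hF.2 η hn'⟩ ⟨_, t, specializes_rfl, hn, rfl⟩
    by_cases hηs : η = s
    · exact hηs ▸ hηt
    · refine absurd ?_ ht.2
      refine Set.mem_iUnion₂.2 ⟨η, ⟨⟨hηt.mem_open hU ht.1, not_subsingleton_iff_nontrivial.2 hηT,
        fun z hz hzη => ?_⟩, hηs⟩, specializes_iff_mem_closure.1 hηt⟩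
      exact DimFun.eq_of_specializes_of_le hX hzη
        (hmax _ ⟨z, hzη.trans hηt, not_subsingleton_iff_nontrivial.1 hz, rfl⟩)

/-- Near the fibre the support is the union of the closures of its points in the fibre. -/
theorem exists_open_components [IsProper p] (hX : Cyc.IsDimFun X δX)
    (hδ : Cyc.DeltaCompat p δX δY) {F : X.Modules} (hF : Cyc.CohLe δX k F) {y : Y} (hy : δY y = k) :
    ∃ V : Y.Opens, y ∈ V ∧ ∀ t, p t ∈ V → Nontrivial (F.presheaf.stalk t) →
      ∃ s ∈ fibSupp p F y, s ⤳ t := by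
  haveI := hF.1.2
  choose U hsU hU using fun s : fibSupp p F y =>
    exists_open_component hX hF (delta_eq p hδ hF hy s.2)
  obtain ⟨V, hyV, hV⟩ := exists_open_avoid p (y := y) (N := CohB1.support F \ ⋃ s, (U s : Set X))
    ((Modules.Support.isClosed_support F).sdiff (isOpen_iUnion fun s => (U s).2))
    fun x hx hxN => hxN.2 (Set.mem_iUnion.2
      ⟨⟨x, hx, not_subsingleton_iff_nontrivial.1 hxN.1⟩, hsU _⟩)
  refine ⟨V, hyV, fun t ht hn => ?_⟩
  obtain ⟨s, hs⟩ := Set.mem_iUnion.1 (not_not.1 fun hc =>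
    hV t ht ⟨not_subsingleton_iff_nontrivial.2 hn, hc⟩)
  exact ⟨s.1, s.2, hU s t hs hn⟩

/-- A germ at a point of the fibre extends to a section vanishing at the other points of the fibre. -/
theorem exists_section [IsProper p] (hX : Cyc.IsDimFun X δX) (hδ : Cyc.DeltaCompat p δX δY)
    {F : X.Modules} (hF : Cyc.CohLe δX k F) {y : Y} (hy : δY y = k) {s : X}
    (hs : s ∈ fibSupp p F y) (v : F.presheaf.stalk s) :
    ∃ (V : Y.Opens) (hyV : y ∈ V) (m : Γ(F, p ⁻¹ᵁ V)),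
      F.presheaf.germ (p ⁻¹ᵁ V) s (show p s ∈ V from hs.1 ▸ hyV) m = v ∧
      ∀ (t : fibSupp p F y), t.1 ≠ s → ∀ ht, F.presheaf.germ (p ⁻¹ᵁ V) t.1 ht m = 0 := by
  classical
  obtain ⟨V₀, hy₀, hV₀⟩ := exists_open_components p hX hδ hF hy
  obtain ⟨W, hsW, n, rfl⟩ := TopCat.Presheaf.exists_germ_eq F.presheaf v
  have hfin := finite_fibSupp p hX hδ hF hy
  let W' : X.Opens := ⟨(W : Set X) \ ⋃ s' ∈ fibSupp p F y \ {s}, closure {s'},
    W.2.sdiff ((hfin.subset Set.sdiff_subset).isClosed_biUnion fun _ _ => isClosed_closure)⟩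
  have hne : ∀ {a b : X}, a ∈ fibSupp p F y → b ∈ fibSupp p F y → a ⤳ b → a = b := fun ha hb h =>
    DimFun.eq_of_specializes_of_le hX h (by rw [delta_eq p hδ hF hy ha, delta_eq p hδ hF hy hb])
  have hsW' : s ∈ W' := ⟨hsW, fun h => by
    obtain ⟨s', hs', hs's⟩ := Set.mem_iUnion₂.1 h
    exact hs'.2 (hne hs'.1 hs (specializes_iff_mem_closure.2 hs's))⟩
  obtain ⟨V₁, hy₁, hV₁⟩ := exists_open_avoid p (y := y) (N := closure {s} \ (W' : Set X))
    (isClosed_closure.sdiff W'.2) fun x hx hxN => by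
      have hsp : s ⤳ x := specializes_iff_mem_closure.2 hxN.1
      have h1 := DimFun.le_of_specializes hX hsp
      have h2 := Residue.deltaY_le hδ x
      rw [hx, hy] at h2
      rw [delta_eq p hδ hF hy hs] at h1
      have hxs := DimFun.eq_of_specializes_of_le hX hsp
        (by rw [delta_eq p hδ hF hy hs]; omega)
      exact hxN.2 (hxs ▸ hsW')
  let V := V₀ ⊓ V₁
  have hW'le : (W' : Set X) ⊆ W := Set.sdiff_subset
  let g : ∀ x : (p ⁻¹ᵁ V : X.Opens), F.presheaf.stalk x.1 := fun x =>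
    if h : x.1 ∈ W' then F.presheaf.germ W x.1 (hW'le h) n else 0
  have hz : ∀ x : X, p x ∈ V₀ → x ∈ W' → x ∉ closure {s} → Subsingleton (F.presheaf.stalk x) :=
    fun x hx hxW hxs => by
      by_contra hc
      obtain ⟨s', hs', hs'x⟩ := hV₀ x hx (not_subsingleton_iff_nontrivial.1 hc)
      by_cases he : s' = s
      · exact hxs (he ▸ specializes_iff_mem_closure.1 hs'x)
      · exact hxW.2 (Set.mem_biUnion ⟨hs', he⟩ (specializes_iff_mem_closure.1 hs'x))
  obtain ⟨m, hm⟩ := RefHull.SecHom.exists_glue (M := F) (p ⁻¹ᵁ V) g fun x => by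
    by_cases hx : x.1 ∈ W'
    · refine ⟨W' ⊓ p ⁻¹ᵁ V, ⟨hx, x.2⟩, inf_le_right,
        F.presheaf.map (homOfLE (inf_le_left.trans (show W' ≤ W from hW'le))).op n, fun z => ?_⟩
      exact (dif_pos z.2.1).trans (TopCat.Presheaf.germ_res_apply F.presheaf _ _ _ n).symm
    · refine ⟨⟨(closure {s})ᶜ, isClosed_closure.isOpen_compl⟩ ⊓ p ⁻¹ᵁ V, ⟨fun hc => ?_, x.2⟩,
        inf_le_right, 0, fun z => ?_⟩
      · exact hV₁ x.1 x.2.2 ⟨hc, hx⟩
      · rw [map_zero]
        simp only [g]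
        split_ifs with h
        · exact @Subsingleton.elim _ (hz _ z.2.2.1 h z.2.1) _ _
        · rfl
  refine ⟨V, ⟨hy₀, hy₁⟩, m, (hm ⟨s, show p s ∈ V from hs.1.symm ▸ ⟨hy₀, hy₁⟩⟩).trans (dif_pos hsW'), fun t hts ht => ?_⟩
  exact (hm ⟨t.1, ht⟩).trans (dif_neg fun hc => hc.2 (Set.mem_biUnion ⟨t.2, hts⟩ (subset_closure rfl)))

end Groth.Agent.Lib.Cyc.PP.Iso
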