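import Groth.Prelude.Def_P1
import Groth.Agent.Lib.ProjSpace.Basic

/-!
# The two coordinates of the projective line over `ℤ`
-/

set_option autoImplicit false
universe u

open CategoryTheory CategoryTheory.Limits AlgebraicGeometry MvPolynomial Opposite

namespace Groth.Agent.Lib.Cyc.PP.P1Coord

open Groth.Agent.Lib ProjSpace.Charts

noncomputable section

/-- The chart `T i ≠ 0`. -/
abbrev D (i : Fin (1 + 1)) : (CohB1.ProjSpace 1 P1.R0.{u}).Opens :=
  Proj.basicOpen P1.grading.{u} (P1.T i)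

/-- The coordinate `T_{1-i} / T_i` in the ring of the chart. -/
def c (i : Fin (1 + 1)) : AwayX P1.R0.{u} i := coord P1.R0 i i.rev

/-- The coordinate `T_{1-i} / T_i` as a section. -/
def s (i : Fin (1 + 1)) : Γ(CohB1.ProjSpace 1 P1.R0.{u}, D i) :=
  Proj.awayToSection P1.grading.{u} (P1.T i) (c i)

theorem mem_D (x : CohB1.ProjSpace 1 P1.R0.{u}) : x ∈ D 0 ∨ x ∈ D 1 := by
  obtain ⟨i, hi⟩ := ProjSpace.Basic.exists_mem_opensRange_chartι (R := P1.R0.{u}) 1 x
  rw [ProjSpace.Basic.opensRange_chartι] at hi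
  fin_cases i
  · exact Or.inl hi
  · exact Or.inr hi

theorem germ_mul_germ (i : Fin (1 + 1)) (x : CohB1.ProjSpace 1 P1.R0.{u}) (h : x ∈ D i)
    (h' : x ∈ D i.rev) :
    (CohB1.ProjSpace 1 P1.R0.{u}).presheaf.germ (D i) x h (s i) *
      (CohB1.ProjSpace 1 P1.R0.{u}).presheaf.germ (D i.rev) x h' (s i.rev) = 1 := by
  apply (Proj.stalkIso' P1.grading.{u} x).injective
  refine ((Proj.stalkIso' P1.grading.{u} x).map_mul _ _).trans
    (Eq.trans ?_ (map_one (Proj.stalkIso' P1.grading.{u} x)).symm)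
  erw [Proj.stalkIso'_germ, Proj.stalkIso'_germ]
  apply HomogeneousLocalization.val_injective
  rw [HomogeneousLocalization.val_mul, HomogeneousLocalization.val_one]
  show Localization.mk _ _ * Localization.mk _ _ = 1
  rw [Localization.mk_mul, ← Localization.mk_one, Localization.mk_eq_mk_iff, Localization.r_iff_exists]
  refine ⟨1, ?_⟩
  simp only [OneMemClass.coe_one, one_mul, mul_one, Submonoid.coe_mul]
  show MvPolynomial.X i.rev * MvPolynomial.X i.rev.rev = MvPolynomial.X i * MvPolynomial.X i.rev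
  rw [Fin.rev_rev, mul_comm]

/-- Evaluation at the marked point. -/
abbrev ev (i : Fin (1 + 1)) : AwayX P1.R0.{u} i →+* P1.R0.{u} := P1.evalAway i

theorem evalAway_c (i : Fin (1 + 1)) : ev.{u} i (c i) = 0 := by
  rw [ev]
  rw [P1.evalAway, RingHom.comp_apply, HomogeneousLocalization.algebraMap_apply, c, val_coord,
    Localization.mk_eq_mk', IsLocalization.Away.lift, IsLocalization.lift_mk']
  have : i.rev ≠ i := by fin_cases i <;> decide
  simp [Pi.single_eq_of_ne this]

theorem evalAway_surjective (i : Fin (1 + 1)) : Function.Surjective (ev.{u} i) := fun r =>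
  ⟨Int.cast r.down, (map_intCast (ev.{u} i) r.down).trans (ULift.ext _ _ (by simp))⟩

theorem ker_evalAway (i : Fin (1 + 1)) :
    RingHom.ker (ev.{u} i) = Ideal.span {c i} := by
  refine le_antisymm (fun a ha => ?_)
    ((Ideal.span_singleton_le_iff_mem _).2 (RingHom.mem_ker.2 (evalAway_c i)))
  obtain ⟨p, rfl⟩ := fromPoly_surjective i a
  have key : ∀ q, ∃ r : P1.R0.{u}, fromPoly P1.R0.{u} i q - constHom P1.R0 i r ∈ Ideal.span {c i} := by
    intro q
    induction q using MvPolynomial.induction_on with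
    | C r => exact ⟨r, by rw [fromPoly_C, sub_self]; exact Ideal.zero_mem _⟩
    | add q q' hq hq' =>
      obtain ⟨r, hr⟩ := hq
      obtain ⟨r', hr'⟩ := hq'
      refine ⟨r + r', ?_⟩
      rw [map_add, map_add, add_sub_add_comm]
      exact Ideal.add_mem _ hr hr'
    | mul_X q j _ =>
      refine ⟨0, ?_⟩
      rw [map_zero, sub_zero, map_mul, fromPoly_X]
      refine Ideal.mul_mem_left _ _ (Ideal.subset_span ?_)
      have hj := j.2
      have : j.1 = i.rev := by
        obtain ⟨j, hj'⟩ := j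
        fin_cases i <;> fin_cases j <;> simp_all
      show coord P1.R0 i j.1 = coord P1.R0 i i.rev
      exact congrArg (coord P1.R0 i) this
  obtain ⟨r, hr⟩ := key p
  have h0 : ev.{u} i (fromPoly P1.R0 i p - constHom P1.R0 i r) = 0 := by
    obtain ⟨b, hb⟩ := Ideal.mem_span_singleton'.1 hr
    rw [← hb, map_mul, evalAway_c, mul_zero]
  have hc : ev.{u} i (constHom P1.R0 i r) = r := by
    have : (ev.{u} i).comp (constHom P1.R0 i) = RingHom.id _ :=
      RingHom.ext fun x => by
        rw [RingHom.comp_apply, ev, P1.evalAway, RingHom.comp_apply, HomogeneousLocalization.algebraMap_apply,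
          val_constHom, IsLocalization.Away.lift_eq]
        simp
    exact RingHom.congr_fun this r
  rw [map_sub, RingHom.mem_ker.1 ha, hc, zero_sub, neg_eq_zero] at h0
  rw [h0, map_zero, sub_zero] at hr
  exact hr

/-- The chart. -/
def χ (i : Fin (1 + 1)) : Spec (CommRingCat.of (AwayX P1.R0.{u} i)) ⟶ CohB1.ProjSpace 1 P1.R0.{u} :=
  Proj.awayι P1.grading.{u} (P1.T i) (P1.X_mem i) one_pos

instance (i : Fin (1 + 1)) : IsOpenImmersion (χ.{u} i) :=
  inferInstanceAs (IsOpenImmersion (Proj.awayι P1.grading.{u} (P1.T i) (P1.X_mem i) one_pos))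

theorem opensRange_χ (i : Fin (1 + 1)) : (χ.{u} i).opensRange = D i := Proj.opensRange_awayι _ _ _ _

theorem point_eq (i : Fin (1 + 1)) :
    P1.point.{u} i = Spec.map (CommRingCat.ofHom (P1.evalAway i)) ≫ χ i := rfl

theorem le_preimage_D (i : Fin (1 + 1)) : (⊤ : (Spec (CommRingCat.of (AwayX P1.R0.{u} i))).Opens) ≤
    χ i ⁻¹ᵁ D i := by
  rw [← opensRange_χ, Scheme.Hom.preimage_opensRange]

theorem appLE_s (i : Fin (1 + 1)) :
    (χ.{u} i).appLE (D i) ⊤ (le_preimage_D i) (s i) =
      (Scheme.ΓSpecIso (CommRingCat.of (AwayX P1.R0.{u} i))).inv (c i) := by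
  let e := Proj.basicOpenIsoSpec P1.grading.{u} (P1.T i) (P1.X_mem i) one_pos
  have hinj : Function.Injective (e.hom.app ⊤).hom :=
    (ConcreteCategory.bijective_of_isIso (e.hom.app ⊤)).1
  apply hinj
  have e2 : e.hom.app ⊤ = (Scheme.ΓSpecIso _).hom ≫ Proj.awayToSection P1.grading.{u} (P1.T i) ≫
      (Proj.basicOpen P1.grading.{u} (P1.T i)).topIso.inv := by
    rw [show e.hom = Proj.basicOpenToSpec P1.grading.{u} (P1.T i) from Proj.basicOpenIsoSpec_hom _ _ _ _]
    exact Proj.basicOpenToSpec_app_top _ _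
  have e1 : (χ.{u} i).appLE (D i) ⊤ (le_preimage_D i) ≫ e.hom.app ⊤ = (D i).topIso.inv := by
    have h : e.hom ≫ χ i = (D i).ι := e.hom_inv_id_assoc _
    have h2 : (χ.{u} i).appLE (D i) ⊤ (le_preimage_D i) ≫ e.hom.appLE ⊤ ⊤ (by simp) =
        (e.hom ≫ χ i).appLE (D i) ⊤ (by rw [h]; exact (Scheme.Opens.ι_preimage_self _).ge) :=
      Scheme.Hom.appLE_comp_appLE _ _ _ _ _ _ _
    rw [Scheme.Hom.app_eq_appLE]
    erw [h2]
    simp only [h]
    erw [Scheme.Opens.ι_appLE]
    rw [Scheme.Opens.topIso_inv]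
    rfl
  refine (ConcreteCategory.congr_hom e1 (s i)).trans ?_
  rw [e2]
  refine Eq.symm ?_
  refine congrArg (fun a => (D i).topIso.inv (Proj.awayToSection P1.grading.{u} (P1.T i) a)) ?_
  exact ConcreteCategory.congr_hom
    (Scheme.ΓSpecIso (CommRingCat.of (AwayX P1.R0.{u} i))).inv_hom_id (c i)

end

end Groth.Agent.Lib.Cyc.PP.P1Coord
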