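import Groth.Agent.Lib.Cyc.PP.P1Fib
import Groth.Agent.Lib.Cyc.PP.Main
import Groth.Agent.Lib.ProjSpace.BaseChange
import Groth.Agent.Lib.Cyc.InducedDimFun

/-!
# Pushing the fibres over `0` and `∞` to the base
-/

set_option autoImplicit false
set_option linter.style.haveILetI false
universe u

open CategoryTheory CategoryTheory.Limits AlgebraicGeometry

namespace Groth.Agent.Lib.Cyc.PP.P1Push

open Groth.Agent.Lib Groth.Agent.Lib.Cyc P1Fib

variable {X : Scheme.{u}} {δ : X → ℤ} {δP : ↥(CohB1.ProjSpaceOver 1 X) → ℤ}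
  {W : Scheme.{u}} (ι : W ⟶ CohB1.ProjSpaceOver 1 X) [IsClosedImmersion ι]

theorem sect_toBase (X : Scheme.{u}) (i : Fin (1 + 1)) :
    P1.sect X i ≫ CohB1.ProjSpaceOver.toBase 1 X = 𝟙 X := pullback.lift_snd _ _ _

theorem delta_sect (hP : Cyc.DeltaCompat (CohB1.ProjSpaceOver.toBase 1 X) δP δ) (i : Fin (1 + 1))
    (x : X) : δP (P1.sect X i x) = δ x := by
  have hx : CohB1.ProjSpaceOver.toBase 1 X (P1.sect X i x) = x := by
    rw [← Scheme.Hom.comp_apply, sect_toBase]; rfl
  have h0 : Residue.trdegAt (P1.sect X i ≫ CohB1.ProjSpaceOver.toBase 1 X) x = 0 := by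
    rw [FieldDim.trdegAt_congr (sect_toBase X i) x]
    exact FieldDim.trdegAt_eq_zero_of_surjective (𝟙 X) x (FieldDim.residueFieldMap_surjective (𝟙 X) x)
  rw [Residue.trdegAt_comp, add_eq_zero] at h0
  rw [(Residue.trdegAt_eq_zero_iff_eq hP (P1.sect X i x)).1 h0.1, hx]

theorem deltaCompat_struct (hP : Cyc.DeltaCompat (CohB1.ProjSpaceOver.toBase 1 X) δP δ) :
    Cyc.DeltaCompat (ι ≫ CohB1.ProjSpaceOver.toBase 1 X) (fun w => δP (ι w)) δ :=
  Residue.deltaCompat_comp (fun w => ⟨0, by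
    rw [Nat.cast_zero]
    exact FieldDim.trdegAt_eq_zero_of_surjective ι w (FieldDim.residueFieldMap_surjective ι w),
    by simp⟩) hP

/-- The degree of the structure map at a point of a fibre. -/
theorem mapCoeff_q (hP : Cyc.DeltaCompat (CohB1.ProjSpaceOver.toBase 1 X) δP δ) (i : Fin (1 + 1))
    (z : ↥(pullback ι (P1.sect X i))) :
    (ι ≫ CohB1.ProjSpaceOver.toBase 1 X) (q ι i z) = pullback.snd ι (P1.sect X i) z ∧
      δP (ι (q ι i z)) = δ (pullback.snd ι (P1.sect X i) z) ∧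
      AlgebraicCycle.mapCoeff (ι ≫ CohB1.ProjSpaceOver.toBase 1 X) (fun w => δP (ι w)) δ (q ι i z) = 1 := by
  have hfac : q ι i ≫ ι ≫ CohB1.ProjSpaceOver.toBase 1 X = pullback.snd ι (P1.sect X i) := by
    rw [← Category.assoc, pullback.condition, Category.assoc, sect_toBase, Category.comp_id]
  have h1 : (ι ≫ CohB1.ProjSpaceOver.toBase 1 X) (q ι i z) = pullback.snd ι (P1.sect X i) z := by
    rw [← Scheme.Hom.comp_apply, hfac]
  have h2 : δP (ι (q ι i z)) = δ (pullback.snd ι (P1.sect X i) z) := by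
    rw [← Scheme.Hom.comp_apply, pullback.condition, Scheme.Hom.comp_apply, delta_sect hP]
  refine ⟨h1, h2, ?_⟩
  have hd : (q ι i ≫ ι ≫ CohB1.ProjSpaceOver.toBase 1 X).residueDegree z = 1 := by
    rw [hfac]
    exact Residue.residueDegree_eq_one_of_surjective z (FieldDim.residueFieldMap_surjective _ z)
  rw [Residue.residueDegree_comp] at hd
  rw [AlgebraicCycle.mapCoeff, if_pos (show δP (ι (q ι i z)) = _ by rw [h1]; exact h2)]
  exact Nat.eq_one_of_mul_eq_one_right hd

theorem finsum_fibre (hP : Cyc.DeltaCompat (CohB1.ProjSpaceOver.toBase 1 X) δP δ) (k : ℤ)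
    (i : Fin (1 + 1)) (x : X) :
    (⇑(ι ≫ CohB1.ProjSpaceOver.toBase 1 X) ⁻¹' {x} ∩ Function.support fun w =>
        Cyc.subschemeFun (fun w => δP (ι w)) k (q ι i) w *
          (AlgebraicCycle.mapCoeff (ι ≫ CohB1.ProjSpaceOver.toBase 1 X) (fun w => δP (ι w)) δ w : ℤ)).Finite ∧
    ∑ᶠ w ∈ ⇑(ι ≫ CohB1.ProjSpaceOver.toBase 1 X) ⁻¹' {x},
      Cyc.subschemeFun (fun w => δP (ι w)) k (q ι i) w *
        (AlgebraicCycle.mapCoeff (ι ≫ CohB1.ProjSpaceOver.toBase 1 X) (fun w => δP (ι w)) δ w : ℤ) =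
      Cyc.subschemeFun δ k (pullback.snd ι (P1.sect X i)) x := by
  classical
  set p := ι ≫ CohB1.ProjSpaceOver.toBase 1 X with hp
  set δW : W → ℤ := fun w => δP (ι w) with hδW
  have hinj : Function.Injective (pullback.snd ι (P1.sect X i)) :=
    (pullback.snd ι (P1.sect X i)).isClosedEmbedding.injective
  have hzero : ∀ w, p w = x → (∀ z, q ι i z ≠ w) → Cyc.subschemeFun δW k (q ι i) w = 0 :=
    fun w _ hw => by
    rw [Cyc.subschemeFun]
    split_ifs
    · exact finsum_mem_eq_zero_of_forall_eq_zero fun z hz => absurd hz (hw z)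
    · rfl
  by_cases hx : ∃ z, pullback.snd ι (P1.sect X i) z = x
  · obtain ⟨z, rfl⟩ := hx
    obtain ⟨h1, h2, h3⟩ := mapCoeff_q ι hP i z
    have huniq : ∀ w, p w = pullback.snd ι (P1.sect X i) z →
        Cyc.subschemeFun δW k (q ι i) w ≠ 0 → w = q ι i z := fun w hw hne => by
      by_contra hwz
      refine hne (hzero w hw fun z' hz' => hwz ?_)
      subst hz'
      rw [hinj ((mapCoeff_q ι hP i z').1.symm.trans hw)]
    refine ⟨(Set.finite_singleton (q ι i z)).subset fun w hw =>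
      huniq w hw.1 (left_ne_zero_of_mul hw.2), ?_⟩
    rw [finsum_mem_eq_sum_of_inter_support_eq (t := {q ι i z}) _ ?_, Finset.sum_singleton, h3,
      Nat.cast_one, mul_one]
    · simp only [Cyc.subschemeFun]
      rw [show δW (q ι i z) = δ (pullback.snd ι (P1.sect X i) z) from h2]
      split_ifs
      · rw [show {z' | q ι i z' = q ι i z} = {z} from
            Set.ext fun z' => (q ι i).isClosedEmbedding.injective.eq_iff,
          show {z' | pullback.snd ι (P1.sect X i) z' = pullback.snd ι (P1.sect X i) z} = {z} from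
            Set.ext fun z' => hinj.eq_iff]
      · rfl
    · ext w
      simp only [Set.mem_inter_iff, Set.mem_preimage, Set.mem_singleton_iff, Function.mem_support,
        Finset.coe_singleton]
      exact ⟨fun h => ⟨huniq w h.1 (left_ne_zero_of_mul h.2), h.2⟩, fun h => ⟨h.1 ▸ h1, h.2⟩⟩
  · have hall : ∀ w, p w = x → Cyc.subschemeFun δW k (q ι i) w = 0 := fun w hw =>
      hzero w hw fun z hz => hx ⟨z, by rw [← (mapCoeff_q ι hP i z).1, hz]; exact hw⟩
    refine ⟨Set.finite_empty.subset fun w hw => (left_ne_zero_of_mul hw.2) (hall w hw.1), ?_⟩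
    rw [finsum_mem_eq_zero_of_forall_eq_zero fun w hw => by rw [hall w hw, zero_mul]]
    rw [Cyc.subschemeFun]
    split_ifs
    · exact (finsum_mem_eq_zero_of_forall_eq_zero fun z hz => absurd ⟨z, hz⟩ hx).symm
    · rfl

/-- The two fibres are rationally equivalent on the base. -/
theorem ratEquiv_fibres (hX : Cyc.IsSetup X δ) (hP : Cyc.DeltaCompat (CohB1.ProjSpaceOver.toBase 1 X) δP δ)
    {k : ℤ} [IsIntegral W] (hW : δP (ι (genericPoint W)) = k + 1)
    (h : ∀ i, ι (genericPoint W) ∉ Set.range ⇑(P1.sect X i)) {α β : AlgebraicCycle X ℤ}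
    (hα : ⇑α = Cyc.subschemeFun δ k (pullback.snd ι (P1.sect X 0)))
    (hβ : ⇑β = Cyc.subschemeFun δ k (pullback.snd ι (P1.sect X 1))) :
    Cyc.RatEquiv δ k α β := by
  classical
  haveI := hX.1
  haveI : IsProper (ι ≫ CohB1.ProjSpaceOver.toBase 1 X) := inferInstance
  haveI : IsLocallyNoetherian W :=
    LocallyOfFiniteType.isLocallyNoetherian (ι ≫ CohB1.ProjSpaceOver.toBase 1 X)
  have hc := deltaCompat_struct ι hP
  have hδW : Cyc.IsDimFun W (fun w => δP (ι w)) :=
    InducedDimFun.isDimFun (ι ≫ CohB1.ProjSpaceOver.toBase 1 X) hX.2.2 hX.2.1 hc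
  obtain ⟨f, hf, -, hdiv⟩ := exists_divFun_eq ι hδW (k := k) hW h
  let C : AlgebraicCycle W ℤ :=
    { toFun := Cyc.divFun (fun w => δP (ι w)) (genericPoint W) f
      supportWithinDomain' := Set.subset_univ _
      supportLocallyFiniteWithinDomain' := fun z _ => by
        obtain ⟨U, hU, hzU, hfin⟩ := Ord.exists_open_finite_divFun hδW (genericPoint W) f z
        exact ⟨U, hU.mem_nhds hzU, hfin⟩ }
  have hC : Cyc.RatEquivZero (fun w => δP (ι w)) k C :=
    ⟨PUnit, fun _ => genericPoint W, fun _ => f, fun _ => hW, fun _ => hf,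
      fun _ => ⟨Set.univ, isOpen_univ, trivial, Set.toFinite _⟩, fun _ => by rw [finsum_unique]; rfl⟩
  have := Main.ratEquivZero_map (ι ≫ CohB1.ProjSpaceOver.toBase 1 X) hδW hX.2.2 hc hC
  unfold Cyc.RatEquiv
  suffices e : α - β = AlgebraicCycle.map (ι ≫ CohB1.ProjSpaceOver.toBase 1 X) (fun w => δP (ι w)) δ C by
    rwa [e]
  refine Function.locallyFinsuppWithin.ext fun x => ?_
  rw [Function.locallyFinsuppWithin.coe_sub, Pi.sub_apply, Push.map_apply, hα, hβ,
    ← (finsum_fibre ι hP k 0 x).2, ← (finsum_fibre ι hP k 1 x).2, eq_comm, eq_sub_iff_add_eq,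
    ← finsum_mem_add_distrib' ?_ (finsum_fibre ι hP k 1 x).1]
  · exact finsum_mem_congr rfl fun w _ => by
      rw [show C w = Cyc.divFun (fun w => δP (ι w)) (genericPoint W) f w from rfl]
      rw [hdiv]
      ring
  · exact (Push.finite_fiber_support (ι ≫ CohB1.ProjSpaceOver.toBase 1 X) C x).subset
      fun w hw => ⟨hw.1, left_ne_zero_of_mul hw.2⟩

end Groth.Agent.Lib.Cyc.PP.P1Push
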