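import Groth.Agent.Lib.Cyc.PP.P1Push
import Groth.Agent.Lib.Cyc.PP.StalkLocal
import Groth.Agent.Lib.Cyc.PP.C1Push
import Groth.Agent.Lib.Cyc.LengthFormula
import Groth.Agent.Lib.Cyc.K0.Cycles

/-!
# The two fibres of a coherent module on `P¹`
-/

set_option autoImplicit false
set_option linter.style.haveILetI false
universe u

open CategoryTheory CategoryTheory.Limits AlgebraicGeometry Opposite TopologicalSpace IsLocalRing
open Pointwise

namespace Groth.Agent.Lib.Cyc.PP.P1Sheaf

open Groth.Agent.Lib Groth.Agent.Lib.Cyc P1Fib P1Coord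

variable {X : Scheme.{u}}

/-- The projective line. -/
noncomputable abbrev P (X : Scheme.{u}) := CohB1.ProjSpaceOver 1 X

/-- The chart opens of `P¹_X`. -/
noncomputable abbrev Vc (X : Scheme.{u}) (i : Fin (1 + 1)) : (P X).Opens := P1Fib.V (𝟙 (P X)) i

theorem sect_mem (i : Fin (1 + 1)) (x : X) : P1.sect X i x ∈ Vc X i := by
  have hx : P1.sect X i x ∈ Set.range ⇑(q (𝟙 (P X)) i) := by
    rw [Scheme.Pullback.range_fst]; exact Set.mem_range_self x
  obtain ⟨z, hz⟩ := hx
  exact hz ▸ P1Fib.q_mem (𝟙 (P X)) i z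

theorem range_sect (i : Fin (1 + 1)) :
    Set.range ⇑(q (𝟙 (P X)) i) = Set.range ⇑(P1.sect X i) := by
  rw [Scheme.Pullback.range_fst]
  rfl

theorem sect_not_mem (i : Fin (1 + 1)) (x : X) : P1.sect X i x ∉ Vc X i.rev := fun h => by
  obtain ⟨z, hz⟩ := (range_sect i).ge (Set.mem_range_self x)
  exact not_mem_V_rev (𝟙 (P X)) i z (hz ▸ h)

/-- The local equation of a section. -/
theorem ker_sect (i : Fin (1 + 1)) (x : X) :
    RingHom.ker ((P1.sect X i).stalkMap x).hom =
      Ideal.span {(P X).presheaf.germ (Vc X i) (P1.sect X i x) (sect_mem i x) (t (𝟙 (P X)) i)} := by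
  set u := pullback.lift (f := 𝟙 (P X)) (g := P1.sect X i) (P1.sect X i) (𝟙 X)
    ((Category.comp_id _).trans (Category.id_comp _).symm) with hu
  haveI : IsIso u := by
    refine ⟨pullback.snd _ _, pullback.lift_snd _ _ _, ?_⟩
    apply pullback.hom_ext
    · rw [Category.assoc, pullback.lift_fst, Category.id_comp, ← pullback.condition, Category.comp_id]
    · rw [Category.assoc, pullback.lift_snd, Category.comp_id, Category.id_comp]
  refine ker_comp_of_eq (q' := u) (j := q (𝟙 (P X)) i) (pullback.lift_fst _ _ _) x ?_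
  rw [(RingHom.injective_iff_ker_eq_bot _).1
    (ConcreteCategory.bijective_of_isIso (u.stalkMap x)).1, ← RingHom.ker_eq_comap_bot]
  exact (not_isUnit_iff_and_ker (𝟙 (P X)) i).1 (u x)

theorem isUnit_coord (i : Fin (1 + 1)) (p : P X) (hp : p ∈ Vc X i)
    (hn : p ∉ Set.range ⇑(P1.sect X i)) :
    IsUnit ((P X).presheaf.germ (Vc X i) p hp (t (𝟙 (P X)) i)) :=
  isUnit_germ (𝟙 (P X)) i p hp (by rwa [range_sect])

theorem mem_cover (p : P X) : p ∈ Vc X 0 ∨ p ∈ Vc X 1 := P1Coord.mem_D _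

open Classical in
/-- The coordinate as a function on a subvariety. -/
noncomputable def coordFun (q : P X) : (P X).residueField q :=
  if h : q ∈ Vc X 0 then (P X).residue q ((P X).presheaf.germ (Vc X 0) q h (t (𝟙 (P X)) 0))
  else ((P X).residue q ((P X).presheaf.germ (Vc X 1) q ((mem_cover q).resolve_left h) (t (𝟙 (P X)) 1)))⁻¹

theorem residue_coord_ne_zero (i : Fin (1 + 1)) (q : P X) (hq : q ∈ Vc X i)
    (hn : q ∉ Set.range ⇑(P1.sect X i)) :
    (P X).residue q ((P X).presheaf.germ (Vc X i) q hq (t (𝟙 (P X)) i)) ≠ 0 :=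
  ((isUnit_coord i q hq hn).map ((P X).residue q).hom).ne_zero

theorem coordFun_ne_zero (q : P X) (hn : ∀ i, q ∉ Set.range ⇑(P1.sect X i)) : coordFun q ≠ 0 := by
  unfold coordFun
  split_ifs with h
  · exact residue_coord_ne_zero 0 q h (hn 0)
  · exact inv_ne_zero (residue_coord_ne_zero 1 q _ (hn 1))

theorem coordFun_one (q : P X) (h : q ∈ Vc X 1) (hn : ∀ i, q ∉ Set.range ⇑(P1.sect X i)) :
    coordFun q = ((P X).residue q ((P X).presheaf.germ (Vc X 1) q h (t (𝟙 (P X)) 1)))⁻¹ := by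
  unfold coordFun
  split_ifs with h0
  · refine eq_inv_of_mul_eq_one_left ?_
    rw [← map_mul]
    exact (congrArg ((P X).residue q) (P1Fib.germ_mul_germ (𝟙 (P X)) 0 q h0 h)).trans (map_one _)
  · rfl

variable [IsLocallyNoetherian (P X)] {δP : P X → ℤ} {k : ℤ}

theorem ordAt_coord (hδ : Cyc.IsDimFun (P X) δP) (i : Fin (1 + 1)) {q p : P X} (h : q ⤳ p)
    (hd : δP q ≤ δP p + 1) (hn : ∀ j, q ∉ Set.range ⇑(P1.sect X j)) (hp : p ∈ Vc X i) :
    Cyc.ordAt p q h (coordFun q) = (if i = 0 then 1 else -1) *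
      ((Ring.ord (Cyc.LocQuot p q h)
        (Ideal.Quotient.mk _ ((P X).presheaf.germ (Vc X i) p hp (t (𝟙 (P X)) i)))).toNat : ℤ) := by
  have hq : q ∈ Vc X i := h.mem_open (Vc X i).2 hp
  have hs : Cyc.specMap p q h ((P X).presheaf.germ (Vc X i) p hp (t (𝟙 (P X)) i)) =
      (P X).residue q ((P X).presheaf.germ (Vc X i) q hq (t (𝟙 (P X)) i)) :=
    Ord.specMap_germ (Vc X i) p q h hp _
  have hne : Cyc.specMap p q h ((P X).presheaf.germ (Vc X i) p hp (t (𝟙 (P X)) i)) ≠ 0 := by
    rw [hs]; exact residue_coord_ne_zero i q hq (hn i)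
  rcases (show i = 0 ∨ i = 1 by fin_cases i <;> simp) with rfl | rfl
  · rw [if_pos rfl, one_mul, coordFun, dif_pos (show q ∈ Vc X 0 from hq)]
    refine (congrArg (Cyc.ordAt p q h) hs.symm).trans ?_
    exact Ord.ordAt_specMap hδ p q h hd _ hne
  · rw [coordFun_one q hq hn, Ord.ordAt_inv hδ p q h hd _ (residue_coord_ne_zero 1 q hq (hn 1)),
      if_neg (by decide), neg_one_mul, neg_inj]
    refine (congrArg (Cyc.ordAt p q h) hs.symm).trans ?_
    exact Ord.ordAt_specMap hδ p q h hd _ hne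

variable {F : (P X).Modules}

/-- The components of dimension `k + 1`. -/
abbrev Q (δP : P X → ℤ) (k : ℤ) (F : (P X).Modules) := {q : P X // δP q = k + 1 ∧ Nontrivial (F.presheaf.stalk q)}

/-- The coordinate to the power the length of the module. -/
noncomputable def qFun (q : Q δP k F) : (P X).residueField q.1 :=
  coordFun q.1 ^ (Module.length ((P X).presheaf.stalk q.1) (F.presheaf.stalk q.1)).toNat

theorem lf (hδ : Cyc.IsDimFun (P X) δP) (hF : Coh.IsCoh F)
    (hsupp : ∀ p, Nontrivial (F.presheaf.stalk p) → δP p ≤ k + 1) (x : P X) :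
    ∃ U : Set (P X), IsOpen U ∧ x ∈ U ∧ {n : Q δP k F | (closure {n.1} ∩ U).Nonempty}.Finite := by
  obtain ⟨U, hx, hfin⟩ := K0.Cycles.finite_support (k + 1) hδ ⟨hF, hsupp⟩ x
  refine ⟨U, U.2, hx, (hfin.preimage (f := Subtype.val) Subtype.val_injective.injOn).subset ?_⟩
  rintro n ⟨y, hy, hyU⟩
  exact ⟨(specializes_iff_mem_closure.2 hy).mem_open U.2 hyU, n.2⟩

/-- The divisor of the coordinate at a point of dimension `k`. -/
theorem finsum_divFun (hδ : Cyc.IsDimFun (P X) δP) (hF : Coh.IsCoh F)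
    (hsupp : ∀ p, Nontrivial (F.presheaf.stalk p) → δP p ≤ k + 1)
    (hsect : ∀ i x, Nontrivial (F.presheaf.stalk (P1.sect X i x)) → δP (P1.sect X i x) ≤ k)
    (hass : ∀ i x, δP (P1.sect X i x) = k → ¬IsAssociatedPrime
      (maximalIdeal ((P X).presheaf.stalk (P1.sect X i x))) (F.presheaf.stalk (P1.sect X i x)))
    (i : Fin (1 + 1)) (x : X) (hx : δP (P1.sect X i x) = k) :
    ∑ᶠ n : Q δP k F, Cyc.divFun δP n.1 (qFun n) (P1.sect X i x) = (if i = 0 then 1 else -1) *
      ((Module.length ((P X).presheaf.stalk (P1.sect X i x))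
        (F.presheaf.stalk (P1.sect X i x) ⧸
          (RingHom.ker ((P1.sect X i).stalkMap x).hom •
            (⊤ : Submodule ((P X).presheaf.stalk (P1.sect X i x)) (F.presheaf.stalk (P1.sect X i x)))))).toNat : ℤ) := by
  classical
  haveI := hF.2
  set p := P1.sect X i x
  haveI : Module.Finite ((P X).presheaf.stalk p) (F.presheaf.stalk p) := Modules.GenStalk.finite_stalk F p
  set a := (P X).presheaf.germ (Vc X i) p (sect_mem i x) (t (𝟙 (P X)) i) with ha
  have hsupport : ∀ (q : P X) (h : q ⤳ p), DimFun.genPrime p q h ∈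
      Module.support ((P X).presheaf.stalk p) (F.presheaf.stalk p) ↔ Nontrivial (F.presheaf.stalk q) := by
    intro q h
    rw [Module.mem_support_iff, ← not_subsingleton_iff_nontrivial, ← not_subsingleton_iff_nontrivial,
      ← Module.length_eq_zero_iff (R := Localization.AtPrime (DimFun.genPrime p q h).asIdeal),
      ← Module.length_eq_zero_iff (R := (P X).presheaf.stalk q), StalkLocal.length_localized hF h]
  have hpts : ∀ 𝔮 : PrimeSpectrum ((P X).presheaf.stalk p),
      𝔮 ∈ Module.support ((P X).presheaf.stalk p) (F.presheaf.stalk p) →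
      𝔮.asIdeal ≠ maximalIdeal _ → ∃ n : Q δP k F, ∃ h : n.1 ⤳ p, 𝔮 = DimFun.genPrime p n.1 h := by
    intro 𝔮 h𝔮 hne
    set q := (P X).fromSpecStalk p 𝔮
    have h := DimFun.fromSpecStalk_specializes_self p 𝔮
    have e := DimFun.eq_genPrime p 𝔮
    have hqp : q ≠ p := fun hc => hne (by
      have : 𝔮 = DimFun.genPrime p p specializes_rfl := DimFun.fromSpecStalk_injective p
        (hc.trans (DimFun.fromSpecStalk_genPrime _ _ _).symm)
      rw [this, DimFun.genPrime_self]; rfl)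
    have hnt : Nontrivial (F.presheaf.stalk q) := (hsupport q h).1 (e ▸ h𝔮)
    exact ⟨⟨q, le_antisymm (hsupp q hnt) (by have := DimFun.lt_of_specializes hδ (show q ⤳ p from h) hqp; omega), hnt⟩, h, e⟩
  have hnsect : ∀ (n : Q δP k F) (j : Fin (1 + 1)), n.1 ∉ Set.range ⇑(P1.sect X j) := by
    rintro n j ⟨y, hy⟩
    have := hsect j y (hy.symm ▸ n.2.2)
    rw [hy, n.2.1] at this
    omega
  have hna : ∀ (n : Q δP k F) (h : n.1 ⤳ p), a ∉ (DimFun.genPrime p n.1 h).asIdeal := fun n h hm => by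
    refine residue_coord_ne_zero i n.1 (h.mem_open (Vc X i).2 (sect_mem i x)) (hnsect n i) ?_
    exact (Ord.specMap_germ (Vc X i) p n.1 h (sect_mem i x) _).symm.trans hm
  have hyp : LengthFormula.Hyp (F.presheaf.stalk p) a := by
    intro 𝔮 h𝔮 hne
    obtain ⟨n, h, rfl⟩ := hpts 𝔮 h𝔮 hne
    refine ⟨hna n h, fun 𝔯 h𝔯 => ?_⟩
    by_contra hr
    obtain ⟨m, h', rfl⟩ := hpts 𝔯 (Module.mem_support_mono h𝔯.le h𝔮) hr
    have h1 := (DimFun.genPrime_le_iff p n.1 m.1 h h').1 h𝔯.le
    have h2 : n.1 = m.1 := DimFun.eq_of_specializes_of_le hδ h1 (by rw [n.2.1, m.2.1])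
    have h3 : n = m := Subtype.ext h2
    subst h3
    exact lt_irrefl _ h𝔯
  have hker : LinearMap.ker (LinearMap.lsmul ((P X).presheaf.stalk p) (F.presheaf.stalk p) a) = ⊥ := by
    rw [LinearMap.ker_eq_bot']
    intro v hv
    by_contra hv0
    obtain ⟨J, hJ, hle⟩ := exists_le_isAssociatedPrime_of_isNoetherianRing ((P X).presheaf.stalk p) v hv0
    have haJ : a ∈ J := hle (Submodule.mem_colon_singleton.2 (by simpa using hv))
    by_cases hm : J = maximalIdeal _
    · exact hass i x hx (hm ▸ hJ)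
    · have hsup : (⟨J, hJ.isPrime⟩ : PrimeSpectrum _) ∈
          Module.support ((P X).presheaf.stalk p) (F.presheaf.stalk p) := by
        obtain ⟨-, y, hy⟩ := isAssociatedPrime_iff.1 hJ
        rw [Module.support_eq_zeroLocus, PrimeSpectrum.mem_zeroLocus, SetLike.coe_subset_coe]
        intro r hr
        rw [show (⟨J, hJ.isPrime⟩ : PrimeSpectrum _).asIdeal = _ from hy, Submodule.mem_colon_singleton]
        simp [Module.mem_annihilator.1 hr]
      exact (hyp _ hsup hm).1 haJ
  have htriv : Module.length ((P X).presheaf.stalk p)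
      (LinearMap.ker (LinearMap.lsmul ((P X).presheaf.stalk p) (F.presheaf.stalk p) a)) = 0 := by
    rw [hker]; exact Module.length_bot
  rw [ker_sect i x, Submodule.ideal_span_singleton_smul]
  erw [LengthFormula.length_quot_eq hyp, htriv, zero_add]
  have hfinS : {n : Q δP k F | n.1 ⤳ p}.Finite := by
    obtain ⟨U, hU, hpU, hfin⟩ := lf hδ hF hsupp p
    exact hfin.subset fun n hn => ⟨n.1, subset_closure rfl, hn.mem_open hU hpU⟩
  haveI : Fintype {n : Q δP k F // n.1 ⤳ p} := hfinS.fintype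
  let φ : {n : Q δP k F // n.1 ⤳ p} → PrimeSpectrum ((P X).presheaf.stalk p) :=
    fun n => DimFun.genPrime p n.1.1 n.2
  have hφ : Function.Injective φ := fun n m h => by
    have := congrArg ((P X).fromSpecStalk p) h
    rw [DimFun.fromSpecStalk_genPrime, DimFun.fromSpecStalk_genPrime] at this
    exact Subtype.ext (Subtype.ext this)
  have htot : LengthFormula.total (F.presheaf.stalk p) a =
      ∑ 𝔮 ∈ Finset.univ.image φ, LengthFormula.term (F.presheaf.stalk p) a 𝔮 := by
    refine finsum_cond_eq_sum_of_cond_iff _ fun {𝔮} h => ⟨fun hne => ?_, fun hm => ?_⟩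
    · obtain ⟨n, hn, rfl⟩ := hpts 𝔮 (by
        by_contra hs; exact h (LengthFormula.term_eq_zero _ _ _ hs)) hne
      exact Finset.mem_image.2 ⟨⟨n, hn⟩, Finset.mem_univ _, rfl⟩
    · obtain ⟨n, -, rfl⟩ := Finset.mem_image.1 hm
      intro hc
      refine hna n.1 n.2 ?_
      rw [hc, mem_maximalIdeal]
      intro hu
      exact RingHom.ker_ne_top ((P1.sect X i).stalkMap x).hom
        (by rw [ker_sect i x]; exact Ideal.span_singleton_eq_top.2 hu)
  have hord : ∀ n : {n : Q δP k F // n.1 ⤳ p}, Ring.ord (Cyc.LocQuot p n.1.1 n.2)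
      (Ideal.Quotient.mk _ a) ≠ ⊤ := fun n => by
    haveI := Ord.locQuot_krullDimLE_one hδ p n.1.1 n.2 (by rw [n.1.2.1, hx])
    exact Ring.ord_ne_top (mem_nonZeroDivisors_of_ne_zero fun h0 =>
      hna n.1 n.2 (Ideal.Quotient.eq_zero_iff_mem.1 h0))
  have hlen : ∀ n : Q δP k F,
      Module.length ((P X).presheaf.stalk n.1) (F.presheaf.stalk n.1) ≠ ⊤ := fun n =>
    K0.Cycles.length_ne_top (k + 1) hδ ⟨hF, hsupp⟩ n.2.1
  have hterm : ∀ n : {n : Q δP k F // n.1 ⤳ p}, LengthFormula.term (F.presheaf.stalk p) a (φ n) =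
      Ring.ord (Cyc.LocQuot p n.1.1 n.2) (Ideal.Quotient.mk _ a) *
        Module.length ((P X).presheaf.stalk n.1.1) (F.presheaf.stalk n.1.1) := fun n =>
    congrArg (Ring.ord (Cyc.LocQuot p n.1.1 n.2) (Ideal.Quotient.mk _ a) * ·)
      (StalkLocal.length_localized hF n.2)
  rw [htot, Finset.sum_image fun n _ m _ h => hφ h, Finset.sum_congr rfl fun n _ => hterm n,
    ENat.toNat_sum]
  swap
  · exact fun n _ => WithTop.mul_ne_top (hord n) (hlen n.1)
  push_cast [ENat.toNat_mul]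
  rw [Finset.mul_sum, finsum_eq_sum_of_support_subset (s := hfinS.toFinset) _ ?_]
  swap
  · intro n hn
    refine hfinS.mem_toFinset.2 ?_
    by_contra hc
    exact hn (dif_neg fun h => hc h.1)
  rw [Finset.sum_subtype _ fun n => hfinS.mem_toFinset]
  refine Finset.sum_congr rfl fun n _ => ?_
  rw [qFun, C1Push.divFun_pow hδ _ (coordFun_ne_zero _ (hnsect n.1)), Cyc.divFun,
    dif_pos ⟨n.2, by rw [n.1.2.1, hx]⟩, ordAt_coord hδ i n.2 (by rw [n.1.2.1, hx]) (hnsect n.1) (sect_mem i x)]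
  ring

omit [IsLocallyNoetherian (P X)] in
theorem sect_injective (i : Fin (1 + 1)) : Function.Injective (P1.sect X i) :=
  (P1.sect X i).isClosedEmbedding.injective

/-- The fibres of a coherent module over `0` and `∞` are rationally equivalent. -/
theorem ratEquiv {δ : X → ℤ} (hX : Cyc.IsSetup X δ)
    (hP : Cyc.DeltaCompat (CohB1.ProjSpaceOver.toBase 1 X) δP δ) (hF : Coh.IsCoh F)
    (hsupp : ∀ p, Nontrivial (F.presheaf.stalk p) → δP p ≤ k + 1)
    (hsect : ∀ i x, Nontrivial (F.presheaf.stalk (P1.sect X i x)) → δ x ≤ k)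
    (hass : ∀ i x, δ x = k → ¬IsAssociatedPrime
      (maximalIdeal ((P X).presheaf.stalk (P1.sect X i x))) (F.presheaf.stalk (P1.sect X i x)))
    {α β : AlgebraicCycle X ℤ}
    (hα : ∀ x, α x = if δ x = k then ((Module.length ((P X).presheaf.stalk (P1.sect X 0 x))
        (F.presheaf.stalk (P1.sect X 0 x) ⧸ (RingHom.ker ((P1.sect X 0).stalkMap x).hom •
            (⊤ : Submodule ((P X).presheaf.stalk (P1.sect X 0 x)) (F.presheaf.stalk (P1.sect X 0 x)))))).toNat : ℤ)
      else 0)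
    (hβ : ∀ x, β x = if δ x = k then ((Module.length ((P X).presheaf.stalk (P1.sect X 1 x))
        (F.presheaf.stalk (P1.sect X 1 x) ⧸ (RingHom.ker ((P1.sect X 1).stalkMap x).hom •
            (⊤ : Submodule ((P X).presheaf.stalk (P1.sect X 1 x)) (F.presheaf.stalk (P1.sect X 1 x)))))).toNat : ℤ)
      else 0) : Cyc.RatEquiv δ k α β := by
  classical
  haveI := hX.1
  have hδ : Cyc.IsDimFun (P X) δP :=
    InducedDimFun.isDimFun (CohB1.ProjSpaceOver.toBase 1 X) hX.2.2 hX.2.1 hP
  have hd := fun i x => P1Push.delta_sect (δ := δ) hP i x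
  have hsect' : ∀ i x, Nontrivial (F.presheaf.stalk (P1.sect X i x)) → δP (P1.sect X i x) ≤ k :=
    fun i x h => by rw [hd]; exact hsect i x h
  have hass' : ∀ i x, δP (P1.sect X i x) = k → ¬IsAssociatedPrime
      (maximalIdeal ((P X).presheaf.stalk (P1.sect X i x))) (F.presheaf.stalk (P1.sect X i x)) :=
    fun i x h => hass i x (by rw [← hd i x]; exact h)
  have hnsect : ∀ (n : Q δP k F) (j : Fin (1 + 1)), n.1 ∉ Set.range ⇑(P1.sect X j) := by
    rintro n j ⟨y, hy⟩
    have := hsect' j y (hy.symm ▸ n.2.2)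
    rw [hy, n.2.1] at this
    omega
  let c : P X → ℤ := fun p => ∑ᶠ n : Q δP k F, Cyc.divFun δP n.1 (qFun n) p
  have hc : ∀ p, c p ≠ 0 → ∃ (i : Fin (1 + 1)) (x : X), P1.sect X i x = p ∧ δ x = k ∧
      Nontrivial (F.presheaf.stalk p) := by
    intro p hp
    obtain ⟨n, hn⟩ : ∃ n : Q δP k F, Cyc.divFun δP n.1 (qFun n) p ≠ 0 :=
      not_forall.1 fun h => hp (finsum_eq_zero_of_forall_eq_zero h)
    have hk : n.1 ⤳ p ∧ δP p + 1 = δP n.1 := by
      by_contra h; exact hn (dif_neg h)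
    have hnt : Nontrivial (F.presheaf.stalk p) := by
      haveI := hF.2
      exact not_subsingleton_iff_nontrivial.1 (hk.1.mem_closed (Modules.Support.isClosed_support F)
        (not_subsingleton_iff_nontrivial.2 n.2.2))
    rw [qFun, C1Push.divFun_pow hδ _ (coordFun_ne_zero _ (hnsect n))] at hn
    have hn' := right_ne_zero_of_mul hn
    rw [Cyc.divFun, dif_pos hk] at hn'
    obtain ⟨i, hi⟩ : ∃ i, p ∈ Vc X i := (mem_cover p).elim (fun h => ⟨0, h⟩) fun h => ⟨1, h⟩
    obtain ⟨x, rfl⟩ : p ∈ Set.range ⇑(P1.sect X i) := by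
      by_contra hr
      refine hn' ?_
      rw [ordAt_coord hδ i hk.1 hk.2.ge (hnsect n) hi,
        Ring.ord_of_isUnit ((isUnit_coord i p hi hr).map _)]
      simp
    refine ⟨i, x, rfl, ?_, hnt⟩
    rw [← hd i x]
    have := n.2.1
    omega
  let C : AlgebraicCycle (P X) ℤ :=
    { toFun := c
      supportWithinDomain' := Set.subset_univ _
      supportLocallyFiniteWithinDomain' := fun z _ => by
        let T := CohB1.support F ∩ (Set.range ⇑(P1.sect X 0) ∪ Set.range ⇑(P1.sect X 1))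
        haveI := hF.2
        have hT : IsClosed T := (Modules.Support.isClosed_support F).inter
          ((P1.sect X 0).isClosedEmbedding.isClosed_range.union
            (P1.sect X 1).isClosedEmbedding.isClosed_range)
        have hTle : ∀ y ∈ T, δP y ≤ k := by
          rintro y ⟨hy, ⟨w, rfl⟩ | ⟨w, rfl⟩⟩
          · exact hsect' 0 w (not_subsingleton_iff_nontrivial.1 hy)
          · exact hsect' 1 w (not_subsingleton_iff_nontrivial.1 hy)
        obtain ⟨U, hU, hzU, hfin⟩ := DimFun.exists_open_finite_maxPts hT z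
        refine ⟨U, hU.mem_nhds hzU, hfin.subset ?_⟩
        rintro p ⟨hpU, hp⟩
        obtain ⟨i, x, rfl, hx, hnt⟩ := hc p hp
        refine ⟨hpU, ⟨not_subsingleton_iff_nontrivial.2 hnt, ?_⟩, fun y hy hyp =>
          DimFun.eq_of_specializes_of_le hδ hyp (by rw [hd, hx]; exact hTle y hy)⟩
        fin_cases i
        · exact Or.inl ⟨x, rfl⟩
        · exact Or.inr ⟨x, rfl⟩ }
  have hC : Cyc.RatEquivZero δP k C :=
    ⟨Q δP k F, fun n => n.1, qFun, fun n => n.2.1,
      fun n => pow_ne_zero _ (coordFun_ne_zero _ (hnsect n)), lf hδ hF hsupp, fun p => rfl⟩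
  have hmap := Main.ratEquivZero_map (CohB1.ProjSpaceOver.toBase 1 X) hδ hX.2.2 hP hC
  unfold Cyc.RatEquiv
  suffices e : α - β = AlgebraicCycle.map (CohB1.ProjSpaceOver.toBase 1 X) δP δ C by rwa [e]
  refine Function.locallyFinsuppWithin.ext fun x => ?_
  have hbase : ∀ i, CohB1.ProjSpaceOver.toBase 1 X (P1.sect X i x) = x := fun i => by
    rw [← Scheme.Hom.comp_apply, P1Push.sect_toBase]; rfl
  have hcoef : ∀ i, AlgebraicCycle.mapCoeff (CohB1.ProjSpaceOver.toBase 1 X) δP δ (P1.sect X i x) = 1 := by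
    intro i
    have hdeg : (P1.sect X i ≫ CohB1.ProjSpaceOver.toBase 1 X).residueDegree x = 1 := by
      rw [P1Push.sect_toBase]
      exact Residue.residueDegree_eq_one_of_surjective x (FieldDim.residueFieldMap_surjective (𝟙 X) x)
    rw [Residue.residueDegree_comp] at hdeg
    rw [AlgebraicCycle.mapCoeff, if_pos (show δP (P1.sect X i x) = _ by rw [hbase, hd])]
    exact Nat.eq_one_of_mul_eq_one_right hdeg
  have hne : P1.sect X 0 x ≠ P1.sect X 1 x := fun h => sect_not_mem 1 x (h ▸ sect_mem 0 x)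
  rw [Function.locallyFinsuppWithin.coe_sub, Pi.sub_apply, Push.map_apply,
    finsum_mem_eq_sum_of_inter_support_eq (t := {P1.sect X 0 x, P1.sect X 1 x}) _ ?_,
    Finset.sum_pair hne, hcoef, hcoef, Nat.cast_one, mul_one, mul_one, hα, hβ]
  · show _ = c (P1.sect X 0 x) + c (P1.sect X 1 x)
    by_cases hx : δ x = k
    · show _ = (∑ᶠ n : Q δP k F, Cyc.divFun δP n.1 (qFun n) (P1.sect X 0 x)) +
        ∑ᶠ n : Q δP k F, Cyc.divFun δP n.1 (qFun n) (P1.sect X 1 x)
      rw [if_pos hx, if_pos hx, finsum_divFun hδ hF hsupp hsect' hass' 0 x (by rw [hd, hx]),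
        finsum_divFun hδ hF hsupp hsect' hass' 1 x (by rw [hd, hx]), if_pos rfl,
        if_neg (by decide), one_mul, neg_one_mul, sub_eq_add_neg]
    · have h0 : ∀ i, c (P1.sect X i x) = 0 := fun i => by
        by_contra h
        obtain ⟨j, y, hy, hyk, -⟩ := hc _ h
        have := congrArg (CohB1.ProjSpaceOver.toBase 1 X) hy
        rw [hbase i, ← Scheme.Hom.comp_apply, P1Push.sect_toBase] at this
        exact hx ((show y = x from this) ▸ hyk)
      rw [if_neg hx, if_neg hx, h0, h0, sub_zero, add_zero]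
  · ext p
    simp only [Set.mem_inter_iff, Set.mem_preimage, Set.mem_singleton_iff, Function.mem_support,
      Finset.coe_insert, Finset.coe_singleton, Set.mem_insert_iff]
    refine ⟨fun h => ⟨?_, h.2⟩, fun h => ⟨h.1.elim (fun e => e ▸ hbase 0) fun e => e ▸ hbase 1, h.2⟩⟩
    obtain ⟨i, y, rfl, -, -⟩ := hc p (left_ne_zero_of_mul h.2)
    have : y = x := by
      have := h.1
      rw [← Scheme.Hom.comp_apply, P1Push.sect_toBase] at this
      exact this
    subst this
    fin_cases i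
    · exact Or.inl rfl
    · exact Or.inr rfl

end Groth.Agent.Lib.Cyc.PP.P1Sheaf
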