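import Groth.Agent.Lib.Cyc.PP.P1Sheaf
import Groth.Agent.Lib.Cyc.PP.Push
import Groth.Agent.Lib.Cyc.PP.Cut
import Groth.Agent.Lib.Cyc.SheafLen
import Groth.Agent.Lib.DerivedOX.PullbackStalk

/-!
# Stalks along the two sections
-/

set_option autoImplicit false
set_option linter.style.haveILetI false
universe u

open CategoryTheory CategoryTheory.Limits AlgebraicGeometry IsLocalRing
open scoped TensorProduct

namespace Groth.Agent.Lib.Cyc.PP.P1Stalk

open Groth.Agent.Lib Groth.Agent.Lib.Cyc

variable {X Y : Scheme.{u}}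

/-- The stalk of a pullback along a morphism surjective on stalks. -/
theorem length_pullback_surjective (f : X ⟶ Y) (F : Y.Modules) (x : X)
    (hs : Function.Surjective (f.stalkMap x).hom) :
    Module.length (X.presheaf.stalk x) (((Scheme.Modules.pullback f).obj F).presheaf.stalk x) =
      Module.length (Y.presheaf.stalk (f x)) (F.presheaf.stalk (f x) ⧸
        (RingHom.ker (f.stalkMap x).hom • (⊤ : Submodule (Y.presheaf.stalk (f x)) (F.presheaf.stalk (f x))))) := by
  letI := (f.stalkMap x).hom.toAlgebra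
  let R := Y.presheaf.stalk (f x)
  let e : (R ⧸ RingHom.ker (f.stalkMap x).hom) ≃ₐ[R] X.presheaf.stalk x :=
    Ideal.quotientKerAlgEquivOfSurjective (f := Algebra.ofId R (X.presheaf.stalk x)) hs
  have h : Module.length (X.presheaf.stalk x) (X.presheaf.stalk x ⊗[R] F.presheaf.stalk (f x)) =
      Module.length (X.presheaf.stalk x) (((Scheme.Modules.pullback f).obj F).presheaf.stalk x) :=
    (asIso ((DerivedOX.PullbackStalk.comparison f x).app F)).toLinearEquiv.length_eq
  rw [← h, ← Module.length_eq_of_surjective (R := X.presheaf.stalk x) (S := R)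
    (M := X.presheaf.stalk x ⊗[R] F.presheaf.stalk (f x)) hs]
  exact ((TensorProduct.congr e.symm.toLinearEquiv (LinearEquiv.refl R _)).trans
    (TensorProduct.quotTensorEquivQuotSMul (F.presheaf.stalk (f x)) _)).length_eq

/-- A pushforward along a closed immersion, at a point of the subscheme. -/
theorem exists_push_structure_stalk {Z : Scheme.{u}} (ι : Z ⟶ Y) [IsClosedImmersion ι] (z : Z) :
    letI := (ι.stalkMap z).hom.toAlgebra
    Nonempty (((Coh.push ι).obj (Coh.structureModule Z)).presheaf.stalk (ι z) ≃ₗ[Y.presheaf.stalk (ι z)]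
      Z.presheaf.stalk z) := by
  letI := (ι.stalkMap z).hom.toAlgebra
  obtain ⟨e⟩ := SheafLen.exists_unit_stalk_equiv (X := Z) z
  exact ⟨LinearEquiv.ofBijective
    { toFun := fun v => e (SheafLen.pushStalk ι (Coh.structureModule Z) z v)
      map_add' := fun a b => by rw [map_add, map_add]
      map_smul' := fun a b => by
        rw [SheafLen.pushStalk_smul, map_smul]
        rfl }
    (e.bijective.comp (SheafLen.pushStalk_bijective ι (Coh.structureModule Z) z))⟩

theorem subsingleton_push_stalk {Z : Scheme.{u}} (ι : Z ⟶ Y) [IsClosedImmersion ι] {y : Y}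
    (hy : y ∉ Set.range ι) :
    Subsingleton (((Coh.push ι).obj (Coh.structureModule Z)).presheaf.stalk y) :=
  SheafLen.subsingleton_push_stalk ι _ (Set.range ι) ι.isClosedEmbedding.isClosed_range
    (fun z _ => Set.mem_range_self z) y hy

/-- The quotient of a pushed structure sheaf by a function. -/
theorem length_push_quot {Z : Scheme.{u}} (ι : Z ⟶ Y) [IsClosedImmersion ι] (z : Z)
    (a : Y.presheaf.stalk (ι z)) :
    Module.length (Y.presheaf.stalk (ι z))
      (((Coh.push ι).obj (Coh.structureModule Z)).presheaf.stalk (ι z) ⧸ (Ideal.span {a} •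
        (⊤ : Submodule (Y.presheaf.stalk (ι z)) (((Coh.push ι).obj (Coh.structureModule Z)).presheaf.stalk (ι z))))) =
      Ring.ord (Z.presheaf.stalk z) ((ι.stalkMap z).hom a) := by
  letI := (ι.stalkMap z).hom.toAlgebra
  obtain ⟨e⟩ := exists_push_structure_stalk ι z
  have hmap : (Ideal.span {a} • (⊤ : Submodule (Y.presheaf.stalk (ι z))
      (((Coh.push ι).obj (Coh.structureModule Z)).presheaf.stalk (ι z)))).map e.toLinearMap =
      (Ideal.span {(ι.stalkMap z).hom a}).restrictScalars (Y.presheaf.stalk (ι z)) := by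
    rw [Submodule.map_smul'', Submodule.map_top, LinearEquiv.range, Ideal.smul_top_eq_map,
      Ideal.map_span, Set.image_singleton]
    rfl
  refine ((Submodule.Quotient.equiv _ _ e hmap).trans
    (Submodule.Quotient.restrictScalarsEquiv _ _)).length_eq.trans ?_
  exact Module.length_eq_of_surjective (R := Z.presheaf.stalk z) (S := Y.presheaf.stalk (ι z))
    (ι.stalkMap_surjective z)

/-- The two coordinates agree along a morphism to the line. -/
theorem stalkMap_coord {W : Scheme.{u}} (ι : W ⟶ CohB1.ProjSpaceOver 1 X) (i : Fin (1 + 1)) (w : W)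
    (h : ι w ∈ P1Sheaf.Vc X i) (h' : w ∈ P1Fib.V ι i) :
    (ι.stalkMap w).hom ((CohB1.ProjSpaceOver 1 X).presheaf.germ (P1Sheaf.Vc X i) (ι w) h
      (P1Fib.t (𝟙 (P1Sheaf.P X)) i)) = W.presheaf.germ (P1Fib.V ι i) w h' (P1Fib.t ι i) := by
  refine (Scheme.Hom.germ_stalkMap_apply ι _ w h _).trans ?_
  rfl

/-- The fibre of a closed subscheme as a cycle. -/
theorem subschemeFun_eq {Z : Scheme.{u}} (ι : Z ⟶ CohB1.ProjSpaceOver 1 X) [IsClosedImmersion ι]
    (δ : X → ℤ) (k : ℤ) (i : Fin (1 + 1)) (x : X) :
    Cyc.subschemeFun δ k (pullback.snd ι (P1.sect X i)) x =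
      if δ x = k then ((Module.length ((CohB1.ProjSpaceOver 1 X).presheaf.stalk (P1.sect X i x))
        (((Coh.push ι).obj (Coh.structureModule Z)).presheaf.stalk (P1.sect X i x) ⧸
          (RingHom.ker ((P1.sect X i).stalkMap x).hom • (⊤ : Submodule
            ((CohB1.ProjSpaceOver 1 X).presheaf.stalk (P1.sect X i x))
            (((Coh.push ι).obj (Coh.structureModule Z)).presheaf.stalk (P1.sect X i x)))))).toNat : ℤ) else 0 := by
  classical
  rw [Cyc.subschemeFun]
  refine if_congr Iff.rfl ?_ rfl
  by_cases hx : ∃ z', pullback.snd ι (P1.sect X i) z' = x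
  · obtain ⟨z', rfl⟩ := hx
    rw [show {z | pullback.snd ι (P1.sect X i) z = pullback.snd ι (P1.sect X i) z'} = {z'} from
        Set.ext fun z => (pullback.snd ι (P1.sect X i)).isClosedEmbedding.injective.eq_iff,
      finsum_mem_singleton]
    have hp : P1.sect X i (pullback.snd ι (P1.sect X i) z') = ι (P1Fib.q ι i z') := by
      rw [← Scheme.Hom.comp_apply, ← pullback.condition]; rfl
    have key : ∀ (p : P1Sheaf.P X) (hp : p ∈ P1Sheaf.Vc X i), p = ι (P1Fib.q ι i z') →
        Module.length ((CohB1.ProjSpaceOver 1 X).presheaf.stalk p)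
          (((Coh.push ι).obj (Coh.structureModule Z)).presheaf.stalk p ⧸
            (Ideal.span {(CohB1.ProjSpaceOver 1 X).presheaf.germ (P1Sheaf.Vc X i) p hp
                (P1Fib.t (𝟙 (P1Sheaf.P X)) i)} • (⊤ : Submodule
              ((CohB1.ProjSpaceOver 1 X).presheaf.stalk p)
              (((Coh.push ι).obj (Coh.structureModule Z)).presheaf.stalk p)))) =
          Module.length ((pullback ι (P1.sect X i)).presheaf.stalk z')
            ((pullback ι (P1.sect X i)).presheaf.stalk z') := by
      intro p hp e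
      subst e
      rw [length_push_quot, stalkMap_coord ι i _ hp (P1Fib.q_mem ι i z'),
        Cut.length_stalk_eq_ord (P1Fib.q ι i) z' _ ((P1Fib.not_isUnit_iff_and_ker ι i).1 z')]
    rw [P1Sheaf.ker_sect, key _ _ hp]
  · haveI : Subsingleton (((Coh.push ι).obj (Coh.structureModule Z)).presheaf.stalk (P1.sect X i x)) := by
      refine subsingleton_push_stalk ι ?_
      rintro ⟨z, hz⟩
      obtain ⟨w, -, hw⟩ := Scheme.Pullback.exists_preimage_pullback z x hz
      exact hx ⟨w, hw⟩
    rw [Module.length_eq_zero]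
    refine (finsum_mem_eq_zero_of_forall_eq_zero fun z hz => absurd ⟨z, hz⟩ hx).trans ?_
    rfl

end Groth.Agent.Lib.Cyc.PP.P1Stalk
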