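import Groth.Agent.Lib.Cyc.PP.StalkLocal
import Groth.Agent.Lib.Cyc.LengthFormula
import Groth.Agent.Lib.Cyc.K0.Cycles
import Mathlib.Data.ENat.BigOperators

/-!
# The length formula at a point of a scheme
-/

set_option autoImplicit false
set_option linter.style.haveILetI false
universe u

open CategoryTheory AlgebraicGeometry IsLocalRing Pointwise

namespace Groth.Agent.Lib.Cyc.PP.StalkSum

open Groth.Agent.Lib Groth.Agent.Lib.Cyc

variable {X : Scheme.{u}} [IsLocallyNoetherian X] {δ : X → ℤ} {k : ℤ}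

open Classical in
/-- The contribution of a generalisation. -/
noncomputable def term (δ : X → ℤ) (k : ℤ) (F : X.Modules) (p : X) (a : X.presheaf.stalk p) (q : X) : ℤ :=
  if h : q ⤳ p ∧ δ q = k + 1 then
    ((Module.length (X.presheaf.stalk q) (F.presheaf.stalk q)).toNat : ℤ) *
      ((Ring.ord (Cyc.LocQuot p q h.1) (Ideal.Quotient.mk _ a)).toNat : ℤ)
  else 0

/-- `length (F_p / a F_p)` through the components through `p`. -/
theorem length_quot (hδ : Cyc.IsDimFun X δ) {F : X.Modules} (hF : Coh.IsCoh F) {p : X} (hp : δ p = k)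
    (a : X.presheaf.stalk p) (ha : ¬IsUnit a)
    (hle : ∀ q, q ⤳ p → Nontrivial (F.presheaf.stalk q) → δ q ≤ k + 1)
    (hna : ∀ q (h : q ⤳ p), δ q = k + 1 → Nontrivial (F.presheaf.stalk q) → Cyc.specMap p q h a ≠ 0)
    (hinj : Function.Injective fun v : F.presheaf.stalk p => a • v) :
    ((Module.length (X.presheaf.stalk p) (F.presheaf.stalk p ⧸
      (Ideal.span {a} • (⊤ : Submodule (X.presheaf.stalk p) (F.presheaf.stalk p))))).toNat : ℤ) =
      ∑ᶠ q : X, term δ k F p a q := by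
  classical
  haveI := hF.2
  haveI : Module.Finite (X.presheaf.stalk p) (F.presheaf.stalk p) := Modules.GenStalk.finite_stalk F p
  have hsupport : ∀ (q : X) (h : q ⤳ p), DimFun.genPrime p q h ∈
      Module.support (X.presheaf.stalk p) (F.presheaf.stalk p) ↔ Nontrivial (F.presheaf.stalk q) := by
    intro q h
    rw [Module.mem_support_iff, ← not_subsingleton_iff_nontrivial, ← not_subsingleton_iff_nontrivial,
      ← Module.length_eq_zero_iff (R := Localization.AtPrime (DimFun.genPrime p q h).asIdeal),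
      ← Module.length_eq_zero_iff (R := X.presheaf.stalk q), StalkLocal.length_localized hF h]
  have hpts : ∀ 𝔮 : PrimeSpectrum (X.presheaf.stalk p),
      𝔮 ∈ Module.support (X.presheaf.stalk p) (F.presheaf.stalk p) →
      𝔮.asIdeal ≠ maximalIdeal _ → ∃ (q : X) (h : q ⤳ p), δ q = k + 1 ∧
        Nontrivial (F.presheaf.stalk q) ∧ 𝔮 = DimFun.genPrime p q h := by
    intro 𝔮 h𝔮 hne
    have h := DimFun.fromSpecStalk_specializes_self p 𝔮
    have e := DimFun.eq_genPrime p 𝔮
    have hqp : X.fromSpecStalk p 𝔮 ≠ p := fun hc => hne (by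
      have : 𝔮 = DimFun.genPrime p p specializes_rfl := DimFun.fromSpecStalk_injective p
        (hc.trans (DimFun.fromSpecStalk_genPrime _ _ _).symm)
      rw [this, DimFun.genPrime_self]; rfl)
    have hnt := (hsupport _ h).1 (e ▸ h𝔮)
    exact ⟨_, h, le_antisymm (hle _ h hnt) (by have := DimFun.lt_of_specializes hδ h hqp; omega), hnt, e⟩
  have hyp : LengthFormula.Hyp (F.presheaf.stalk p) a := by
    intro 𝔮 h𝔮 hne
    obtain ⟨q, h, hq, hnt, rfl⟩ := hpts 𝔮 h𝔮 hne
    refine ⟨fun hm => hna q h hq hnt hm, fun 𝔯 h𝔯 => ?_⟩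
    by_contra hr
    obtain ⟨m, h', hm, -, rfl⟩ := hpts 𝔯 (Module.mem_support_mono h𝔯.le h𝔮) hr
    have h1 := (DimFun.genPrime_le_iff p q m h h').1 h𝔯.le
    have h2 : q = m := DimFun.eq_of_specializes_of_le hδ h1 (by rw [hq, hm])
    subst h2
    exact lt_irrefl _ h𝔯
  have htriv : Module.length (X.presheaf.stalk p)
      (LinearMap.ker (LinearMap.lsmul (X.presheaf.stalk p) (F.presheaf.stalk p) a)) = 0 := by
    rw [LinearMap.ker_eq_bot.2 (show Function.Injective (LinearMap.lsmul (X.presheaf.stalk p)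
      (F.presheaf.stalk p) a) from hinj)]
    exact Module.length_bot
  rw [Submodule.ideal_span_singleton_smul]
  erw [LengthFormula.length_quot_eq hyp, htriv, zero_add]
  obtain ⟨U, hpU, hfin⟩ : ∃ U : Set X, p ∈ U ∧
      {q | q ⤳ p ∧ δ q = k + 1 ∧ Nontrivial (F.presheaf.stalk q)} ⊆ U ∧
      {q | q ⤳ p ∧ δ q = k + 1 ∧ Nontrivial (F.presheaf.stalk q)}.Finite := by
    haveI := hF.2
    obtain ⟨U, hU, hpU, hf⟩ := DimFun.exists_open_finite_maxPts (Modules.Support.isClosed_support F) p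
    refine ⟨U, hpU, fun q hq => hq.1.mem_open hU hpU, hf.subset fun q hq =>
      ⟨hq.1.mem_open hU hpU, not_subsingleton_iff_nontrivial.2 hq.2.2, fun y hy hyq =>
        DimFun.eq_of_specializes_of_le hδ hyq (by
          rw [hq.2.1]; exact hle y (hyq.trans hq.1) (not_subsingleton_iff_nontrivial.1 hy))⟩⟩
  have hfinS := hfin.2
  set S := {q | q ⤳ p ∧ δ q = k + 1 ∧ Nontrivial (F.presheaf.stalk q)} with hS
  haveI : Fintype S := hfinS.fintype
  let φ : S → PrimeSpectrum (X.presheaf.stalk p) := fun n => DimFun.genPrime p n.1 n.2.1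
  have hφ : Function.Injective φ := fun n m h => by
    have := congrArg (X.fromSpecStalk p) h
    rw [DimFun.fromSpecStalk_genPrime, DimFun.fromSpecStalk_genPrime] at this
    exact Subtype.ext this
  have htot : LengthFormula.total (F.presheaf.stalk p) a =
      ∑ 𝔮 ∈ Finset.univ.image φ, LengthFormula.term (F.presheaf.stalk p) a 𝔮 := by
    refine finsum_cond_eq_sum_of_cond_iff _ fun {𝔮} h => ⟨fun hne => ?_, fun hm => ?_⟩
    · obtain ⟨q, hq, hqk, hnt, rfl⟩ := hpts 𝔮 (by
        by_contra hs; exact h (LengthFormula.term_eq_zero _ _ _ hs)) hne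
      exact Finset.mem_image.2 ⟨⟨q, hq, hqk, hnt⟩, Finset.mem_univ _, rfl⟩
    · obtain ⟨n, -, rfl⟩ := Finset.mem_image.1 hm
      intro hc
      refine hna n.1 n.2.1 n.2.2.1 n.2.2.2 ?_
      show a ∈ (DimFun.genPrime p n.1 n.2.1).asIdeal
      rw [hc]
      exact (mem_maximalIdeal a).2 ha
  have hord : ∀ n : S, Ring.ord (Cyc.LocQuot p n.1 n.2.1) (Ideal.Quotient.mk _ a) ≠ ⊤ := fun n => by
    haveI := Ord.locQuot_krullDimLE_one hδ p n.1 n.2.1 (by rw [n.2.2.1, hp])
    exact Ring.ord_ne_top (Ord.mk_mem_nonZeroDivisors p n.1 n.2.1 a (hna n.1 n.2.1 n.2.2.1 n.2.2.2))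
  have hlen : ∀ n : S, Module.length (X.presheaf.stalk n.1) (F.presheaf.stalk n.1) ≠ ⊤ := fun n =>
    SheafLen.length_ne_top hF n.1 fun y hy hnt =>
      DimFun.eq_of_specializes_of_le hδ hy (by rw [n.2.2.1]; exact hle y (hy.trans n.2.1) hnt)
  have hterm : ∀ n : S, LengthFormula.term (F.presheaf.stalk p) a (φ n) =
      Ring.ord (Cyc.LocQuot p n.1 n.2.1) (Ideal.Quotient.mk _ a) *
        Module.length (X.presheaf.stalk n.1) (F.presheaf.stalk n.1) := fun n =>
    congrArg (Ring.ord (Cyc.LocQuot p n.1 n.2.1) (Ideal.Quotient.mk _ a) * ·)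
      (StalkLocal.length_localized hF n.2.1)
  rw [htot, Finset.sum_image fun n _ m _ h => hφ h, Finset.sum_congr rfl fun n _ => hterm n,
    ENat.toNat_sum]
  swap
  · exact fun n _ => WithTop.mul_ne_top (hord n) (hlen n)
  push_cast [ENat.toNat_mul]
  rw [finsum_eq_sum_of_support_subset (s := hfinS.toFinset) _ ?_]
  swap
  · intro q hq
    refine hfinS.mem_toFinset.2 ?_
    by_contra hc
    refine hq ?_
    unfold term
    split_ifs with h
    · haveI : Subsingleton (F.presheaf.stalk q) :=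
        not_nontrivial_iff_subsingleton.1 fun hn => hc ⟨h.1, h.2, hn⟩
      simp [Module.length_eq_zero]
    · rfl
  rw [Finset.sum_subtype _ fun n => hfinS.mem_toFinset]
  refine Finset.sum_congr rfl fun n _ => ?_
  rw [term, dif_pos ⟨n.2.1, n.2.2.1⟩, mul_comm]

end Groth.Agent.Lib.Cyc.PP.StalkSum
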